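import Cfsg.Agent.H44.J3.DataGens
import Cfsg.Prelude.Def_Spor_J3

/-!
Entry tables of the generators of 3·J₃ and the kernel checks that identify their codes.
-/

set_option autoImplicit false
set_option Elab.async false

namespace Cfsg.Agent.H44.J3

open Cfsg.Agent.Compute
open Cfsg.Spor (F9)

/-- The two bits of an entry. -/
noncomputable def entryBits (M : ℕ) (w z : F9) : Bool × Bool :=
  (Nat.beq (Nat.land (Nat.shiftRight (getP 18 M (idx z)) (idx w)) 1) 1,
    Nat.beq (Nat.land (Nat.shiftRight (getP 18 M (idx z)) (Nat.add 9 (idx w))) 1) 1)

/-- Bits of a power of ω. -/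
def powBits (n : ZMod 3) : Bool × Bool :=
  if n = 0 then (true, false) else if n = 1 then (false, true) else (true, true)

/-- Bits of zero. -/
def zBits : Bool × Bool := (false, false)

def eA (Z w z : F9) : Bool × Bool := if w = z then powBits (Z.1 * w.1 + Z.2 * w.2) else zBits

def eE (Z w z : F9) : Bool × Bool :=
  if w = z then powBits ((Z.1 - w.1) ^ 2 + (Z.2 - w.2) ^ 2) else zBits

def eLam (Z z : F9) : Bool × Bool :=
  if z = 0 then (true, false)
  else if F9.div Z z = F9.I - F9.one then (false, true)
  else if F9.div Z z = -F9.I - F9.one then (true, true)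
  else (true, false)

def eD (Z w z : F9) : Bool × Bool := if w = z + Z then eLam Z z else zBits

def eB (Z w z : F9) : Bool × Bool := if w = F9.mul Z z then (true, false) else zBits

def eC (Z w z : F9) : Bool × Bool :=
  if z = 0 then (if w = 0 then (true, false) else zBits)
  else if w = -F9.div Z z ∨ w = F9.mul F9.I (F9.div Z z) ∨ w = -F9.mul F9.I (F9.div Z z) then
    (true, false) else zBits

/-- The code of a generator in a table. -/
noncomputable def gCode (tab : List ℕ) (Z : F9) : ℕ := nth oneM tab (idx Z)

theorem eA_ok : ∀ Z w z : F9, entryBits (gCode tabA Z) w z = eA Z w z := by decide +kernel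

theorem eE_ok : ∀ Z w z : F9, entryBits (gCode tabE Z) w z = eE Z w z := by decide +kernel

theorem eD_ok : ∀ Z w z : F9, entryBits (gCode tabD Z) w z = eD Z w z := by decide +kernel

theorem eB_ok : ∀ Z : F9, Z ≠ 0 → ∀ w z : F9, entryBits (gCode tabB Z) w z = eB Z w z := by
  decide +kernel

theorem eC_ok : ∀ Z : F9, Z ≠ 0 → ∀ w z : F9, entryBits (gCode tabC Z) w z = eC Z w z := by
  decide +kernel

/-- All codes of generators occurring in the witness list. -/
noncomputable def witCodes : List ℕ := witGens.map (fun p => p.1.1)

theorem tab_mem : lall (tabA ++ (tabE ++ tabD)) (fun g => Option.isSome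
    (lfind witGens (fun p => Nat.beq p.1.1 g))) = true := by decide +kernel

theorem tabBC_mem : lall (tabB.tail ++ tabC.tail) (fun g => Option.isSome
    (lfind witGens (fun p => Nat.beq p.1.1 g))) = true := by decide +kernel

theorem witGens_ok : lall witGens (fun p => cert.inT p) = true := by decide +kernel

/-- A basic matrix: one of five generators or its inverse. -/
noncomputable def basicOK : Bool :=
  lall basics (fun p => invM p.1 p.2) &&
    allN 5 (fun i => Option.isSome (lfind witGens (fun p =>
      Nat.beq p.1.1 (nth (oneM, oneM) basics i).1)) &&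
      Nat.beq (nth (oneM, oneM) basics (Nat.add 5 i)).1 (nth (oneM, oneM) basics i).2)

theorem basic_ok : basicOK = true := by decide +kernel

/-- Product of basic matrices along a word. -/
noncomputable def bWord (w : List ℕ) : ℕ :=
  List.rec oneM (fun a _ ih => mulM (nth (oneM, oneM) basics a).1 ih) w

/-- H's generators and s are words in the basic matrices. -/
noncomputable def wordsOK : Bool :=
  lall genWords (fun w => lall w (fun a => Nat.ble (Nat.add a 1) 10)) &&
    allN cert.lvl.gens.length (fun a => Nat.beq (cert.gen a) (bWord (nth [] genWords a))) &&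
    Nat.beq cert.s (bWord (nth [] genWords cert.lvl.gens.length)) &&
    Nat.ble (Nat.add cert.lvl.gens.length 1) genWords.length

theorem words_ok : wordsOK = true := by decide +kernel

end Cfsg.Agent.H44.J3
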