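import Cfsg.Agent.H44.J3.Centre
import Cfsg.Agent.Compute.Simplicity

/-!
The centre of 3·J₃ has order 3; J₃ is simple of order 50232960; 3·J₃ is perfect.
-/

set_option autoImplicit false

namespace Cfsg.Agent.H44.J3

open Cfsg.Agent.Compute
open Cfsg.Spor (F9)
open scoped Pointwise commutatorElement

attribute [local irreducible] validM invM mulM appM oneM wmul sift checkChain normOK xM scalM zM powM
  bWord

section
variable {F : Type*} [Field F] [Fintype F] {ω : F} (hf : Four F ω)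

include hf

theorem omegaPow_inj {m n : ZMod 3}
    (h : Cfsg.Spor.omegaPow F ω m = Cfsg.Spor.omegaPow F ω n) : m = n := by
  rw [← powBits_val hf, ← powBits_val hf] at h
  obtain ⟨h1, h2⟩ := bits_inj ω hf.two hf.root h
  have key : ∀ m n : ZMod 3, powBits m = powBits n → m = n := by decide
  exact key m n (Prod.ext h1 h2)

theorem gen_in (Z : F9) :
    (∃ g ∈ Cfsg.Spor.threeJ3 F ω, (g : Matrix F9 F9 F) = Cfsg.Spor.j3A F ω Z) ∧
      ∃ g ∈ Cfsg.Spor.threeJ3 F ω, (g : Matrix F9 F9 F) = Cfsg.Spor.j3D F ω Z := by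
  obtain ⟨oa, ma⟩ := wit_mem hf (gCode_mem hf Z).1
  obtain ⟨od, md⟩ := wit_mem hf (gCode_mem hf Z).2.2.1
  rw [← threeJ3_eq hf] at ma md
  exact ⟨⟨_, ma, by rw [snd_den_coe hf oa, eA_val hf]⟩, ⟨_, md, by rw [snd_den_coe hf od, eD_val hf]⟩⟩

theorem mem_center_iff (z : Cfsg.Spor.threeJ3 F ω) :
    z ∈ Subgroup.center (Cfsg.Spor.threeJ3 F ω) ↔ (z : GL F9 F) ∈ Subgroup.zpowers (scEl hf) := by
  classical
  constructor
  · intro hz
    have hcomm : ∀ g ∈ Cfsg.Spor.threeJ3 F ω, (g : Matrix F9 F9 F) * (z : GL F9 F) =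
        ((z : GL F9 F) : Matrix F9 F9 F) * g := fun g hg =>
      congrArg (fun u : Cfsg.Spor.threeJ3 F ω => ((u : GL F9 F) : Matrix F9 F9 F))
        (Subgroup.mem_center_iff.1 hz ⟨g, hg⟩)
    let c : Matrix F9 F9 F := (z : GL F9 F)
    have hoff : ∀ w v : F9, w ≠ v → c w v = 0 := by
      intro w v hwv
      by_contra hne
      have key : ∀ Z : F9, Z.1 * w.1 + Z.2 * w.2 = Z.1 * v.1 + Z.2 * v.2 := by
        intro Z
        obtain ⟨g, hg, e⟩ := (gen_in hf Z).1
        have h := congrFun (congrFun (hcomm g hg) w) v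
        rw [e] at h
        simp only [Cfsg.Spor.j3A, Matrix.diagonal_mul, Matrix.mul_diagonal] at h
        refine omegaPow_inj hf (mul_right_cancel₀ hne ?_)
        rw [h, mul_comm]
      refine hwv (Prod.ext ?_ ?_)
      · simpa using key (1, 0)
      · simpa using key (0, 1)
    have hdiag : ∀ v : F9, c v v = c 0 0 := by
      intro v
      obtain ⟨g, hg, e⟩ := (gen_in hf v).2
      have h := congrFun (congrFun (hcomm g hg) v) 0
      rw [e, Matrix.mul_apply, Matrix.mul_apply] at h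
      rw [Finset.sum_eq_single_of_mem (0 : F9) (Finset.mem_univ _)
        (fun b _ hb => by rw [show ((z : GL F9 F) : Matrix F9 F9 F) b 0 = 0 from hoff b 0 hb, mul_zero]),
        Finset.sum_eq_single_of_mem v (Finset.mem_univ _)
        (fun b _ hb => by
          rw [show ((z : GL F9 F) : Matrix F9 F9 F) v b = 0 from hoff v b (Ne.symm hb), zero_mul])] at h
      have hd : Cfsg.Spor.j3D F ω v v 0 = 1 := by simp [Cfsg.Spor.j3D, Cfsg.Spor.j3Lam]
      rw [hd, one_mul, mul_one] at h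
      exact h.symm
    have hc : c = c 0 0 • (1 : Matrix F9 F9 F) := by
      ext w v
      by_cases e : w = v
      · subst e; simp [hdiag w]
      · simp [hoff w v e, Matrix.one_apply_ne e]
    rcases scalar_cases hf (c 0 0) with e | e | e | e <;> rw [e] at hc
    · exfalso
      have h1 := congrFun (congrFun (Units.mul_inv (z : GL F9 F)) 0) 0
      rw [show ((z : GL F9 F) : Matrix F9 F9 F) = c from rfl, hc] at h1
      simp at h1
    · rw [show (z : GL F9 F) = 1 from Units.ext (hc.trans (one_smul _ _))]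
      exact one_mem _
    · rw [show (z : GL F9 F) = scEl hf from Units.ext (hc.trans (scEl_coe hf).symm)]
      exact Subgroup.mem_zpowers _
    · rw [show (z : GL F9 F) = scEl hf * scEl hf from Units.ext (hc.trans (by
        rw [Units.val_mul, scEl_coe hf, smul_mul_smul_comm, one_mul]))]
      exact mul_mem (Subgroup.mem_zpowers _) (Subgroup.mem_zpowers _)
  · intro h
    obtain ⟨k, hk⟩ := Subgroup.mem_zpowers_iff.1 h
    rw [Subgroup.mem_center_iff]
    intro g
    apply Subtype.ext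
    show (g : GL F9 F) * z = z * g
    rw [← hk]
    exact ((scEl_central hf (g : GL F9 F)).zpow_left k).eq.symm

theorem card_center : Nat.card (Subgroup.center (Cfsg.Spor.threeJ3 F ω)) = 3 := by
  have e : (Subgroup.center (Cfsg.Spor.threeJ3 F ω)).map (Cfsg.Spor.threeJ3 F ω).subtype =
      Subgroup.zpowers (scEl hf) := by
    ext g
    constructor
    · rintro ⟨z, hz, rfl⟩
      exact (mem_center_iff hf z).1 hz
    · intro hg
      have hG : g ∈ Cfsg.Spor.threeJ3 F ω := (Subgroup.zpowers_le.2 (scEl_mem hf)) hg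
      exact ⟨⟨g, hG⟩, (mem_center_iff hf ⟨g, hG⟩).2 hg, rfl⟩
  exact (Nat.card_congr
    (Subgroup.equivMapOfInjective _ _ Subtype.val_injective).toEquiv).trans
    (by rw [e, Nat.card_zpowers, orderOf_scEl hf])

theorem card_J3 : Nat.card (Cfsg.Spor.J3 F ω) = 50232960 := by
  have h := Subgroup.card_eq_card_quotient_mul_card_subgroup
    (Subgroup.center (Cfsg.Spor.threeJ3 F ω))
  rw [card_threeJ3 hf, card_center hf] at h
  show Nat.card (↥(Cfsg.Spor.threeJ3 F ω) ⧸ Subgroup.center ↥(Cfsg.Spor.threeJ3 F ω)) = _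
  omega

/-- The image of x in J₃. -/
noncomputable def xBar : Cfsg.Spor.J3 F ω := QuotientGroup.mk ⟨xEl hf, (x_mem hf).2⟩

theorem mk_eq_one_iff {g : Cfsg.Spor.threeJ3 F ω} :
    (QuotientGroup.mk g : Cfsg.Spor.J3 F ω) = 1 ↔ (g : GL F9 F) ∈ Subgroup.zpowers (scEl hf) :=
  (QuotientGroup.eq_one_iff g).trans (mem_center_iff hf g)

theorem orderOf_mk {g : Cfsg.Spor.threeJ3 F ω}
    (h19 : (g : GL F9 F) ^ 19 ∈ Subgroup.zpowers (scEl hf))
    (hne : (g : GL F9 F) ∉ Subgroup.zpowers (scEl hf)) :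
    orderOf (QuotientGroup.mk g : Cfsg.Spor.J3 F ω) = 19 := by
  have : Fact (Nat.Prime 19) := ⟨by norm_num⟩
  refine orderOf_eq_prime ?_ ?_
  · rw [← QuotientGroup.mk_pow, mk_eq_one_iff hf, SubmonoidClass.coe_pow]
    exact h19
  · rw [Ne, mk_eq_one_iff hf]
    exact hne

theorem x_not_scalar : xEl hf ∉ Subgroup.zpowers (scEl hf) := by
  intro h
  have h2 := orderOf_dvd_natCard (⟨xEl hf, h⟩ : Subgroup.zpowers (scEl hf))
  rw [← Subgroup.orderOf_coe, orderOf_xEl hf, Nat.card_zpowers, orderOf_scEl hf] at h2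
  norm_num at h2

theorem orderOf_xBar : orderOf (xBar hf) = 19 :=
  orderOf_mk hf (by
    show xEl hf ^ 19 ∈ _
    rw [show (19 : ℕ) = orderOf (xEl hf) from (orderOf_xEl hf).symm, pow_orderOf_eq_one]
    exact one_mem _) (x_not_scalar hf)

theorem centralizer_xBar :
    Subgroup.centralizer ({xBar hf} : Set (Cfsg.Spor.J3 F ω)) = Subgroup.zpowers (xBar hf) := by
  refine le_antisymm (fun u hu => ?_) (Subgroup.zpowers_le.2
    (Subgroup.mem_centralizer_singleton_iff.2 rfl))
  obtain ⟨g, rfl⟩ := QuotientGroup.mk_surjective u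
  have hu' : (QuotientGroup.mk g : Cfsg.Spor.J3 F ω) * xBar hf = xBar hf * QuotientGroup.mk g :=
    Subgroup.mem_centralizer_singleton_iff.1 hu
  rw [xBar, ← QuotientGroup.mk_mul, ← QuotientGroup.mk_mul, QuotientGroup.eq, mem_center_iff hf]
    at hu'
  obtain ⟨i, hi⟩ := Subgroup.mem_zpowers_iff.1 hu'
  have hi' : scEl hf ^ i = ((g : GL F9 F) * xEl hf)⁻¹ * (xEl hf * g) := hi
  -- x⁻¹ g⁻¹ x g is a scalar of order prime to 19
  have hconj : (g : GL F9 F)⁻¹ * xEl hf * g = scEl hf ^ i * xEl hf := by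
    rw [((scEl_central hf (xEl hf)).zpow_left i).eq, hi']
    group
  have h1 : scEl hf ^ i = 1 := by
    have e19 : xEl hf ^ 19 = 1 := by rw [← orderOf_xEl hf, pow_orderOf_eq_one]
    have e : ((g : GL F9 F)⁻¹ * xEl hf * g) ^ 19 = (scEl hf ^ i * xEl hf) ^ 19 :=
      congrArg (fun u => u ^ 19) hconj
    rw [show (g : GL F9 F)⁻¹ * xEl hf * g = (g : GL F9 F)⁻¹ * xEl hf * ((g : GL F9 F)⁻¹)⁻¹ by
        rw [inv_inv], conj_pow, e19, ((scEl_central hf (xEl hf)).zpow_left i).mul_pow, e19,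
      mul_one, mul_inv_cancel, mul_one, ← zpow_natCast, ← zpow_mul] at e
    have h3 : scEl hf ^ ((3 : ℕ) : ℤ) = 1 := by rw [zpow_natCast]; exact scEl_pow_three hf
    calc scEl hf ^ i = (scEl hf ^ ((3 : ℕ) : ℤ)) ^ (-6 * i) * scEl hf ^ (i * ((19 : ℕ) : ℤ)) := by
          rw [← zpow_mul, ← zpow_add]; push_cast; ring_nf
      _ = 1 := by rw [h3, ← e, one_zpow, one_mul]
  rw [h1, one_mul] at hconj
  have hcomm : Commute (g : GL F9 F) (xEl hf) := by
    have h := congrArg ((g : GL F9 F) * ·) hconj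
    simp only [← mul_assoc, mul_inv_cancel, one_mul] at h
    exact h.symm
  obtain ⟨a, b, hab⟩ := centralizer_x hf g.2 hcomm
  refine Subgroup.mem_zpowers_iff.2 ⟨b, ?_⟩
  rw [xBar, ← QuotientGroup.mk_zpow, QuotientGroup.eq, mem_center_iff hf]
  show ((xEl hf) ^ b)⁻¹ * (g : GL F9 F) ∈ _
  rw [hab, ((scEl_central hf (xEl hf ^ b)).zpow_left a).eq, inv_mul_cancel_left]
  exact Subgroup.zpow_mem _ (Subgroup.mem_zpowers _) a

theorem not_sq_dvd : ¬ 19 ^ 2 ∣ Nat.card (Cfsg.Spor.J3 F ω) := by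
  rw [card_J3 hf]; norm_num

theorem card_centralizer_xBar :
    Nat.card (Subgroup.centralizer ({xBar hf} : Set (Cfsg.Spor.J3 F ω))) = 19 := by
  rw [centralizer_xBar hf, Nat.card_zpowers, orderOf_xBar hf]

theorem finite_J3 : Finite (Cfsg.Spor.J3 F ω) :=
  Nat.finite_of_card_ne_zero (by rw [card_J3 hf]; norm_num)

/-- A normal subgroup of order prime to 19 is trivial. -/
theorem eq_bot_of_not_dvd (N : Subgroup (Cfsg.Spor.J3 F ω)) [N.Normal]
    (hN : ¬ 19 ∣ Nat.card N) : N = ⊥ := by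
  have := finite_J3 hf
  refine N.eq_bot_of_card_eq ?_
  by_contra hne
  obtain ⟨p, hp, hpd⟩ := Nat.exists_prime_and_dvd hne
  have : Fact p.Prime := ⟨hp⟩
  have : Fact (Nat.Prime 19) := ⟨by norm_num⟩
  have hp19 : p ≠ 19 := fun e => hN (e ▸ hpd)
  let P : Sylow p N := default
  let P' : Subgroup (Cfsg.Spor.J3 F ω) := (P : Subgroup N).map N.subtype
  let M : Subgroup (Cfsg.Spor.J3 F ω) := Subgroup.normalizer (P' : Set (Cfsg.Spor.J3 F ω))
  have hfr : M ⊔ N = ⊤ := Sylow.normalizer_sup_eq_top P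
  have hM : 19 ∣ Nat.card M := by
    have h2 : N.index ∣ Nat.card M := by
      rw [← Subgroup.relIndex_top_right, ← hfr, Subgroup.relIndex_sup_right]
      exact Subgroup.relIndex_dvd_card _ _
    have h19 : 19 ∣ Nat.card N * N.index := by
      rw [Subgroup.card_mul_index, card_J3 hf]; norm_num
    rcases (Nat.Prime.dvd_mul (by norm_num)).1 h19 with h | h
    · exact absurd h hN
    · exact h.trans h2
  obtain ⟨y, hy⟩ := exists_prime_orderOf_dvd_card' (G := M) 19 hM
  have hy' : orderOf (y : Cfsg.Spor.J3 F ω) = 19 := by rw [Subgroup.orderOf_coe]; exact hy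
  let Sx : Sylow 19 (Cfsg.Spor.J3 F ω) := Sylow.ofCard (Subgroup.zpowers (xBar hf)) (by
    rw [Nat.card_zpowers, orderOf_xBar hf, card_J3 hf]
    have : (50232960 : ℕ).factorization 19 = 1 := by
      have h := Nat.factorization_def 50232960 (show Nat.Prime 19 by norm_num)
      rw [h, show (50232960 : ℕ) = 19 * 2643840 by norm_num, padicValNat.mul (by norm_num) (by norm_num),
        padicValNat.self (by norm_num), padicValNat.eq_zero_of_not_dvd (by norm_num)]
    rw [this, pow_one])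
  let Sy : Sylow 19 (Cfsg.Spor.J3 F ω) :=
    Sylow.ofCard (Subgroup.zpowers (y : Cfsg.Spor.J3 F ω))
      (by rw [← Sx.card_eq_multiplicity]
          show Nat.card _ = Nat.card (Subgroup.zpowers (xBar hf))
          rw [Nat.card_zpowers, hy', Nat.card_zpowers, orderOf_xBar hf])
  obtain ⟨a, ha⟩ := MulAction.exists_smul_eq (Cfsg.Spor.J3 F ω) Sy Sx
  have hyc : ∀ u : Cfsg.Spor.J3 F ω, Commute u (y : Cfsg.Spor.J3 F ω) →
      u ∈ Subgroup.zpowers (y : Cfsg.Spor.J3 F ω) := by
    intro u hu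
    have hxm : xBar hf ∈ (Sx : Subgroup (Cfsg.Spor.J3 F ω)) := Subgroup.mem_zpowers _
    rw [← ha] at hxm
    change xBar hf ∈ MulAut.conj a • (Sy : Subgroup (Cfsg.Spor.J3 F ω)) at hxm
    obtain ⟨w, hw, hwx⟩ := hxm
    obtain ⟨k, hk⟩ := Subgroup.mem_zpowers_iff.1 hw
    have hwx' : a * w * a⁻¹ = xBar hf := hwx
    have hcx : Commute (a * u * a⁻¹) (xBar hf) := by
      have h1 : Commute u w := hk ▸ hu.zpow_right k
      rw [← hwx']
      show a * u * a⁻¹ * (a * w * a⁻¹) = a * w * a⁻¹ * (a * u * a⁻¹)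
      calc a * u * a⁻¹ * (a * w * a⁻¹) = a * (u * w) * a⁻¹ := by group
        _ = a * (w * u) * a⁻¹ := by rw [h1.eq]
        _ = _ := by group
    have hmem : a * u * a⁻¹ ∈ Subgroup.zpowers (xBar hf) := by
      rw [← centralizer_xBar hf]
      exact Subgroup.mem_centralizer_singleton_iff.2 hcx.eq
    obtain ⟨l, hl⟩ := Subgroup.mem_zpowers_iff.1 hmem
    rw [← hwx', conj_zpow, ← hk, ← zpow_mul] at hl
    exact Subgroup.mem_zpowers_iff.2 ⟨k * l, mul_left_cancel (mul_right_cancel hl)⟩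
  have hP : IsPGroup p P' := P.2.map _
  have hcong : Nat.card P' % 19 = 1 := by
    let C : Subgroup (Cfsg.Spor.J3 F ω) := Subgroup.zpowers (y : Cfsg.Spor.J3 F ω)
    have hCM : C ≤ M := Subgroup.zpowers_le.2 y.2
    have hmem : ∀ g : C, ∀ u : P', (g : Cfsg.Spor.J3 F ω) * u * (g : Cfsg.Spor.J3 F ω)⁻¹ ∈ P' :=
      fun g u => (Subgroup.mem_normalizer_iff.1 (hCM g.2) u).1 u.2
    let _ : MulAction C P' :=
      { smul := fun g u => ⟨(g : Cfsg.Spor.J3 F ω) * u * (g : Cfsg.Spor.J3 F ω)⁻¹, hmem g u⟩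
        one_smul := fun u => Subtype.ext (by
          show (1 : Cfsg.Spor.J3 F ω) * u * (1 : Cfsg.Spor.J3 F ω)⁻¹ = u
          simp)
        mul_smul := fun g h u => Subtype.ext (by
          show ((g * h : C) : Cfsg.Spor.J3 F ω) * u * ((g * h : C) : Cfsg.Spor.J3 F ω)⁻¹ =
            (g : Cfsg.Spor.J3 F ω) * ((h : Cfsg.Spor.J3 F ω) * u * (h : Cfsg.Spor.J3 F ω)⁻¹) *
              (g : Cfsg.Spor.J3 F ω)⁻¹
          rw [Subgroup.coe_mul]; group) }
    have hC : IsPGroup 19 C := IsPGroup.of_card (n := 1) (by rw [Nat.card_zpowers, hy', pow_one])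
    have key := hC.card_modEq_card_fixedPoints P'
    have hfix : Nat.card (MulAction.fixedPoints C P') = 1 := by
      rw [Nat.card_eq_one_iff_unique]
      refine ⟨⟨fun u v => ?_⟩, ⟨⟨1, fun g => Subtype.ext (by
        show (g : Cfsg.Spor.J3 F ω) * 1 * (g : Cfsg.Spor.J3 F ω)⁻¹ = 1
        simp)⟩⟩⟩
      have hone : ∀ u : MulAction.fixedPoints C P', (u.1 : Cfsg.Spor.J3 F ω) = 1 := by
        intro u
        have h := congrArg Subtype.val (u.2 ⟨y, Subgroup.mem_zpowers _⟩)
        have h' : (y : Cfsg.Spor.J3 F ω) * u.1 * (y : Cfsg.Spor.J3 F ω)⁻¹ = u.1 := h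
        have hu : (u.1 : Cfsg.Spor.J3 F ω) ∈ C := hyc _ (mul_inv_eq_iff_eq_mul.1 h').symm
        have h1 : orderOf (u.1 : Cfsg.Spor.J3 F ω) ∣ 19 := by
          have h := orderOf_dvd_natCard (⟨_, hu⟩ : C)
          rwa [← Subgroup.orderOf_coe, Nat.card_zpowers, hy'] at h
        obtain ⟨n, hn⟩ := hP u.1
        have h2 : orderOf (u.1 : Cfsg.Spor.J3 F ω) ∣ p ^ n :=
          orderOf_dvd_of_pow_eq_one (by rw [← SubmonoidClass.coe_pow, hn, Subgroup.coe_one])
        have h3 := Nat.dvd_gcd h1 h2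
        rw [Nat.Coprime.gcd_eq_one (Nat.Coprime.pow_right n
          ((Nat.coprime_primes (by norm_num) hp).2 (Ne.symm hp19))), Nat.dvd_one] at h3
        exact orderOf_eq_one_iff.1 h3
      exact Subtype.ext (Subtype.ext ((hone u).trans (hone v).symm))
    rw [hfix] at key
    exact key
  obtain ⟨a', ha'⟩ := IsPGroup.iff_card.1 hP
  have hdvd : p ^ a' ∣ 50232960 := by rw [← ha', ← card_J3 hf]; exact Subgroup.card_subgroup_dvd_card _
  have hpos : a' ≠ 0 := by
    intro e
    rw [e, pow_zero] at ha'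
    have h1 : Nat.card P = 1 := by
      rw [← ha']
      exact Nat.card_congr (Subgroup.equivMapOfInjective _ _ Subtype.val_injective).toEquiv
    rw [P.card_eq_multiplicity] at h1
    have h2 : (Nat.card N).factorization p ≠ 0 :=
      (Nat.Prime.factorization_pos_of_dvd hp Nat.card_pos.ne' hpd).ne'
    exact h2 (by rcases Nat.pow_eq_one.1 h1 with h | h; exacts [absurd h hp.one_lt.ne', h])
  rw [ha'] at hcong
  have hp5 : p = 2 ∨ p = 3 ∨ p = 5 ∨ p = 17 := by
    have h : p ∣ 2 ^ 7 * (3 ^ 5 * (5 * (17 * 19))) := (dvd_pow_self p hpos).trans (hdvd.trans (by norm_num))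
    rcases (Nat.Prime.dvd_mul hp).1 h with h | h
    · exact Or.inl ((Nat.prime_dvd_prime_iff_eq hp (by norm_num)).1 (hp.dvd_of_dvd_pow h))
    rcases (Nat.Prime.dvd_mul hp).1 h with h | h
    · exact Or.inr (Or.inl ((Nat.prime_dvd_prime_iff_eq hp (by norm_num)).1 (hp.dvd_of_dvd_pow h)))
    rcases (Nat.Prime.dvd_mul hp).1 h with h | h
    · exact Or.inr (Or.inr (Or.inl ((Nat.prime_dvd_prime_iff_eq hp (by norm_num)).1 h)))
    rcases (Nat.Prime.dvd_mul hp).1 h with h | h
    · exact Or.inr (Or.inr (Or.inr ((Nat.prime_dvd_prime_iff_eq hp (by norm_num)).1 h)))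
    · exact absurd ((Nat.prime_dvd_prime_iff_eq hp (by norm_num)).1 h) hp19
  have hlt : ∀ b : ℕ, ¬ p ^ b ∣ 50232960 → a' < b := fun b hb => by
    by_contra h
    exact hb ((pow_dvd_pow p (not_lt.1 h)).trans hdvd)
  rcases hp5 with rfl | rfl | rfl | rfl
  · have := hlt 8 (by norm_num); interval_cases a' <;> simp_all
  · have := hlt 6 (by norm_num); interval_cases a' <;> simp_all
  · have := hlt 2 (by norm_num); interval_cases a' <;> simp_all
  · have := hlt 2 (by norm_num); interval_cases a' <;> simp_all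

theorem conj_mem_of_gen {N : Subgroup (Cfsg.Spor.J3 F ω)} [N.Normal] (hN : N ≠ ⊥)
    {i : ℕ} (hi : i < 5) :
    ∃ g : Cfsg.Spor.threeJ3 F ω, (g : GL F9 F) = (snd hf).den (nth (oneM, oneM) basics i).1 ∧
      (QuotientGroup.mk g : Cfsg.Spor.J3 F ω) ∈ N := by
  have := finite_J3 hf
  have : Fact (Nat.Prime 19) := ⟨by norm_num⟩
  have h19 : 19 ∣ Nat.card N := by
    by_contra h
    exact hN (eq_bot_of_not_dvd hf N h)
  have hxN : xBar hf ∈ N := mem_of_normal_of_dvd (orderOf_xBar hf) (not_sq_dvd hf) N h19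
  have h := (allN_iff _ _).1 conj_ok i hi
  simp only [conjOK, Bool.and_eq_true, lall_iff, Bool.not_eq_true'] at h
  obtain ⟨⟨⟨⟨⟨⟨hw1, hw2⟩, hab⟩, h19'⟩, hne1⟩, hne2⟩, hne3⟩ := h
  obtain ⟨og, mg⟩ := basic_mem hf (show i < 10 by omega)
  obtain ⟨oa, ma⟩ := bWord_mem hf (nth (([], []), 0) conjWords i).1.1
    (fun a ha => Nat.ble_eq.mp (hw1 a ha))
  obtain ⟨ob, mb⟩ := bWord_mem hf (nth (([], []), 0) conjWords i).1.2
    (fun a ha => Nat.ble_eq.mp (hw2 a ha))
  obtain ⟨hx, hxm⟩ := x_mem hf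
  have osc := scal_ok' hf
  have oz : (snd hf).ok (zM i) := by
    unfold zM
    exact (snd hf).ok_mul og ((snd hf).ok_mul oa ((snd hf).ok_mul hx ob))
  have ez : (snd hf).den (zM i) = (snd hf).den (nth (oneM, oneM) basics i).1 *
      ((snd hf).den (bWord (nth (([], []), 0) conjWords i).1.1) *
        (xEl hf * (snd hf).den (bWord (nth (([], []), 0) conjWords i).1.2))) := by
    unfold zM
    rw [show (mulM : ℕ → ℕ → ℕ) = mOps.mul from rfl,
      (snd hf).den_mul og ((snd hf).ok_mul oa ((snd hf).ok_mul hx ob)),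
      (snd hf).den_mul oa ((snd hf).ok_mul hx ob), (snd hf).den_mul hx ob]
    rfl
  have eab : (snd hf).den (bWord (nth (([], []), 0) conjWords i).1.2) =
      ((snd hf).den (bWord (nth (([], []), 0) conjWords i).1.1))⁻¹ := by
    refine eq_inv_of_mul_eq_one_right ?_
    rw [← (snd hf).den_mul oa ob,
      show mOps.mul (bWord (nth (([], []), 0) conjWords i).1.1)
        (bWord (nth (([], []), 0) conjWords i).1.2) = oneM from Nat.eq_of_beq_eq_true hab]
    exact (snd hf).den_one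
  let g : Cfsg.Spor.threeJ3 F ω := ⟨_, mg⟩
  let a : Cfsg.Spor.threeJ3 F ω := ⟨_, ma⟩
  let xx : Cfsg.Spor.threeJ3 F ω := ⟨xEl hf, hxm⟩
  have ez' : ((g * (a * xx * a⁻¹) : Cfsg.Spor.threeJ3 F ω) : GL F9 F) = (snd hf).den (zM i) := by
    rw [ez, eab]
    show (snd hf).den _ * ((snd hf).den _ * xEl hf * ((snd hf).den _)⁻¹) = _
    group
  have hzord : orderOf (QuotientGroup.mk (g * (a * xx * a⁻¹)) : Cfsg.Spor.J3 F ω) = 19 := by
    refine orderOf_mk hf ?_ ?_
    · rw [ez', ← (den_powM hf oz 19).2, Nat.eq_of_beq_eq_true h19', (den_powM hf osc _).2]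
      exact Subgroup.pow_mem _ (Subgroup.mem_zpowers _) _
    · rw [ez']
      intro hmem
      obtain ⟨k, hk⟩ := Subgroup.mem_zpowers_iff.1 hmem
      have hk3 : scEl hf ^ k = scEl hf ^ (k % 3) := by
        have := orderOf_scEl hf
        conv_lhs => rw [← zpow_mod_orderOf, this]
        norm_num
      have eq2 : (snd hf).den (mulM scalM scalM) = scEl hf * scEl hf := (snd hf).den_mul osc osc
      have k3 : k % 3 = 0 ∨ k % 3 = 1 ∨ k % 3 = 2 := by omega
      rcases k3 with e | e | e <;> rw [hk3, e] at hk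
      · rw [zpow_zero] at hk
        have := ((snd hf).eqv_iff oz (snd hf).ok_one).2 (hk.symm.trans (snd hf).den_one.symm)
        rw [show Nat.beq (zM i) oneM = mOps.eqv (zM i) mOps.one from rfl, this] at hne1
        exact absurd hne1 (by simp)
      · rw [zpow_one] at hk
        have := ((snd hf).eqv_iff oz osc).2 hk.symm
        rw [show Nat.beq (zM i) scalM = mOps.eqv (zM i) scalM from rfl, this] at hne2
        exact absurd hne2 (by simp)
      · rw [zpow_two] at hk
        have := ((snd hf).eqv_iff oz ((snd hf).ok_mul osc osc)).2 (hk.symm.trans eq2.symm)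
        rw [show Nat.beq (zM i) (mulM scalM scalM) = mOps.eqv (zM i) (mOps.mul scalM scalM) from rfl,
          this] at hne3
        exact absurd hne3 (by simp)
  have hzN := mem_of_normal_of_dvd hzord (not_sq_dvd hf) N h19
  have hcN : (QuotientGroup.mk (a * xx * a⁻¹) : Cfsg.Spor.J3 F ω) ∈ N :=
    Subgroup.Normal.conj_mem ‹N.Normal› _ hxN (QuotientGroup.mk a)
  refine ⟨g, rfl, ?_⟩
  have := N.mul_mem hzN (N.inv_mem hcN)
  rwa [← QuotientGroup.mk_inv, ← QuotientGroup.mk_mul, mul_inv_cancel_right] at this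

theorem isSimple_J3 : IsSimpleGroup (Cfsg.Spor.J3 F ω) := by
  have := finite_J3 hf
  have hnt : Nontrivial (Cfsg.Spor.J3 F ω) :=
    Finite.one_lt_card_iff_nontrivial.1 (by rw [card_J3 hf]; norm_num)
  refine ⟨fun N hN => or_iff_not_imp_left.2 fun hne => ?_⟩
  let Q : Subgroup (GL F9 F) :=
    (N.comap (QuotientGroup.mk' (Subgroup.center (Cfsg.Spor.threeJ3 F ω)))).map
      (Cfsg.Spor.threeJ3 F ω).subtype
  have hb : ∀ a < 10, (snd hf).den (nth (oneM, oneM) basics a).1 ∈ Q := by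
    have fwd : ∀ i < 5, (snd hf).den (nth (oneM, oneM) basics i).1 ∈ Q := fun i hi => by
      obtain ⟨g, e, hg⟩ := conj_mem_of_gen hf hne hi
      exact ⟨g, hg, e⟩
    intro a ha
    by_cases h5 : a < 5
    · exact fwd a h5
    · have h := basic_ok
      simp only [basicOK, Bool.and_eq_true, lall_iff, allN_iff, Nat.beq_eq] at h
      have e := (h.2 (a - 5) (by omega)).2
      rw [show Nat.add 5 (a - 5) = a by show 5 + (a - 5) = a; omega] at e
      have hlen : basics.length = 10 := rfl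
      obtain ⟨-, -, ei⟩ := (snd hf).okInv_sound (a := (nth (oneM, oneM) basics (a - 5)).1)
        (b := (nth (oneM, oneM) basics (a - 5)).2)
        (h.1 _ (nth_mem (oneM, oneM) basics (a - 5) (by omega)))
      rw [e, ei]
      exact Q.inv_mem (fwd _ (by omega))
  have hw : ∀ w : List ℕ, (∀ a ∈ w, a < 10) → (snd hf).den (bWord w) ∈ Q := by
    intro w
    induction w with
    | nil => intro _; rw [show (snd hf).den (bWord []) = 1 by unfold bWord; exact (snd hf).den_one]; exact one_mem _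
    | cons a t ih =>
      intro h
      rw [show (snd hf).den (bWord (a :: t)) =
          (snd hf).den (nth (oneM, oneM) basics a).1 * (snd hf).den (bWord t) by
        have ot := (bWord_mem hf t fun b hb => h b (List.mem_cons_of_mem _ hb)).1
        unfold bWord at ot ⊢
        exact (snd hf).den_mul (basic_mem hf (h a List.mem_cons_self)).1 ot]
      exact Q.mul_mem (hb a (h a List.mem_cons_self)) (ih fun b hb => h b (List.mem_cons_of_mem _ hb))
  have hle : Cfsg.Spor.threeJ3 F ω ≤ Q := by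
    rw [threeJ3_eq hf]
    refine (Subgroup.closure_le _).2 ?_
    have h := words_ok
    simp only [wordsOK, Bool.and_eq_true, lall_iff, allN_iff, Nat.beq_eq, Nat.ble_eq] at h
    obtain ⟨⟨⟨hwd, hgen⟩, hs⟩, hlen⟩ := h
    have hword : ∀ a < genWords.length, (snd hf).den (bWord (nth [] genWords a)) ∈ Q :=
      fun a ha => hw _ (hwd _ (nth_mem _ _ a ha))
    rintro g (hg | hg)
    · refine (Subgroup.closure_le _).2 ?_ hg
      rintro _ ⟨a, ⟨p, hp, rfl⟩, rfl⟩
      obtain ⟨n, hn, rfl⟩ := List.getElem_of_mem (show p ∈ cert.lvl.gens from hp)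
      have e : cert.lvl.gens[n].1 = cert.gen n := by rw [GCert.gen, nth_eq_getElem _ _ _ hn]
      rw [e, hgen n hn]
      exact hword n (by
        have : cert.lvl.gens.length + 1 ≤ genWords.length := hlen
        omega)
    · rw [Set.mem_singleton_iff.1 hg, sEl, hs]
      exact hword _ (show cert.lvl.gens.length < genWords.length from hlen)
  rw [eq_top_iff]
  intro u _
  obtain ⟨g, rfl⟩ := QuotientGroup.mk_surjective u
  obtain ⟨g', hg', e⟩ := hle g.2
  exact (Subtype.ext e : g' = g) ▸ hg'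

/-- 3·J₃ is perfect. -/
theorem commutator_eq_top : commutator (Cfsg.Spor.threeJ3 F ω) = ⊤ := by
  have := finite_J3 hf
  have := isSimple_J3 hf
  obtain ⟨a, ha, b, hb, h⟩ := scEl_mem_comm hf
  let a' : Cfsg.Spor.threeJ3 F ω := ⟨a, ha⟩
  let b' : Cfsg.Spor.threeJ3 F ω := ⟨b, hb⟩
  let s' : Cfsg.Spor.threeJ3 F ω := ⟨scEl hf, scEl_mem hf⟩
  have hsc : s' ∈ commutator (Cfsg.Spor.threeJ3 F ω) := by
    rw [commutator_def]
    rcases h with h | h
    · have e : ⁅a', b'⁆ = s' := Subtype.ext (by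
        show a * b * a⁻¹ * b⁻¹ = scEl hf
        rw [h]; group)
      exact e ▸ Subgroup.commutator_mem_commutator (Subgroup.mem_top _) (Subgroup.mem_top _)
    · have e : ⁅b', a'⁆ = s' := Subtype.ext (by
        show b * a * b⁻¹ * a⁻¹ = scEl hf
        rw [← h]; group)
      exact e ▸ Subgroup.commutator_mem_commutator (Subgroup.mem_top _) (Subgroup.mem_top _)
  have hZ : Subgroup.center (Cfsg.Spor.threeJ3 F ω) ≤ commutator (Cfsg.Spor.threeJ3 F ω) := by
    intro z hz
    obtain ⟨k, hk⟩ := Subgroup.mem_zpowers_iff.1 ((mem_center_iff hf z).1 hz)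
    rw [show z = s' ^ k from Subtype.ext (by rw [SubgroupClass.coe_zpow]; exact hk.symm)]
    exact Subgroup.zpow_mem _ hsc k
  let π := QuotientGroup.mk' (Subgroup.center (Cfsg.Spor.threeJ3 F ω))
  have hn : ((commutator (Cfsg.Spor.threeJ3 F ω)).map π).Normal :=
    Subgroup.Normal.map inferInstance π (QuotientGroup.mk'_surjective _)
  rcases IsSimpleGroup.eq_bot_or_eq_top_of_normal _ hn with e | e
  · exfalso
    have hab : ∀ u v : Cfsg.Spor.J3 F ω, u * v = v * u := by
      intro u v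
      obtain ⟨g, rfl⟩ := QuotientGroup.mk'_surjective (Subgroup.center (Cfsg.Spor.threeJ3 F ω)) u
      obtain ⟨k, rfl⟩ := QuotientGroup.mk'_surjective (Subgroup.center (Cfsg.Spor.threeJ3 F ω)) v
      have hm : π ⁅g, k⁆ ∈ (commutator (Cfsg.Spor.threeJ3 F ω)).map π :=
        Subgroup.mem_map_of_mem _ (by
          rw [commutator_def]
          exact Subgroup.commutator_mem_commutator (Subgroup.mem_top _) (Subgroup.mem_top _))
      rw [e, Subgroup.mem_bot, map_commutatorElement, commutatorElement_eq_one_iff_mul_comm] at hm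
      exact hm
    have hcard := card_centralizer_xBar hf
    have htop : Subgroup.centralizer ({xBar hf} : Set (Cfsg.Spor.J3 F ω)) = ⊤ :=
      eq_top_iff.2 fun u _ => Subgroup.mem_centralizer_singleton_iff.2 (hab u _)
    rw [htop, Subgroup.card_top, card_J3 hf] at hcard
    norm_num at hcard
  · rw [eq_top_iff]
    intro g _
    have hg : π g ∈ (commutator (Cfsg.Spor.threeJ3 F ω)).map π := e ▸ Subgroup.mem_top _
    obtain ⟨k, hk, hke⟩ := hg
    have hz : k⁻¹ * g ∈ Subgroup.center (Cfsg.Spor.threeJ3 F ω) := QuotientGroup.eq.1 hke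
    simpa using Subgroup.mul_mem _ hk (hZ hz)

end

end Cfsg.Agent.H44.J3
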