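import Mathlib.Data.Nat.Notation

/-! Generated data for the simplicity of J3. -/

set_option autoImplicit false

namespace Cfsg.Agent.H44.J3

/-- An element of order 19 as a word in the basic matrices. -/
def xWord : List ℕ := [4, 2, 4, 1, 5, 5]

/-- Inverse of x + 1. -/
def xFix : ℕ := 0xd2d1ea4a5f2d73c4a36095082494bf5309237beae8ee252fdeb8b951d04a89524823a94391a9f575c

/-- An element of order 9 of GL₉(4) centralising x, outside 3·J₃, and its inverse. -/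
def cElt : ℕ × ℕ := (0x2fb38a9e2f3d7f466449225c0ac400e79d9c867599c91f16dabeb83271d121b5613072b9ce14bacda, 0x5030fcb9b15f8588aceb91cbb5e545ad67c19a1518663cd9fbc3ca561a08f90af40ed7c3e0dc8a960)

/-- An orbit index, the selected code of its image under `cElt`, its rank among the orbit codes. -/
def cImg : ℕ × ℕ × ℕ := (3, 114860, 10254)

/-- For each of five generators g: a and a⁻¹ with (g·a·x·a⁻¹)^19 a power of ω. -/
def conjWords : List ((List ℕ × List ℕ) × ℕ) := [(([8, 7, 4, 8, 3, 5, 1, 2, 7], [2, 7, 6, 0, 8, 3, 9, 2, 3]), 0),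
  (([9, 4, 9, 0, 6, 7, 1], [6, 2, 1, 5, 4, 9, 4]), 1),
  (([0, 7, 9, 6, 7, 3], [8, 2, 1, 4, 2, 5]), 2),
  (([3, 0, 2, 1, 8, 5, 8, 1, 3, 1, 4, 6, 2], [7, 1, 9, 6, 8, 6, 3, 0, 3, 6, 7, 5, 8]), 0),
  (([4, 8, 8, 0, 1, 3, 2, 5, 0], [5, 0, 7, 8, 6, 5, 3, 3, 9]), 2)]

end Cfsg.Agent.H44.J3
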