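import Cfsg.Agent.H44.J3.GensCheck
import Cfsg.Agent.H44.J3.DataSimple
import Cfsg.Agent.H44.J3.DataOrbit

/-!
Kernel checks for the centre and simplicity of J3.
-/

set_option autoImplicit false
set_option Elab.async false

namespace Cfsg.Agent.H44.J3

open Cfsg.Agent.Compute
open Cfsg.Spor (F9)

/-- The scalar matrix ω. -/
noncomputable def scalM : ℕ :=
  packP 18 (fun i => cond (Nat.ble (Nat.add i 1) 9) (wmul (Nat.shiftLeft 1 i))
    (wmul (wmul (Nat.shiftLeft 1 (Nat.sub i 9))))) 18

/-- Powers of a coded matrix. -/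
noncomputable def powM (a : ℕ) (n : ℕ) : ℕ := Nat.rec oneM (fun _ ih => mulM a ih) n

/-- The element of order 19. -/
noncomputable def xM : ℕ := bWord xWord

theorem xWord_ok : lall xWord (fun a => Nat.ble (Nat.add a 1) 10) = true := by decide +kernel

theorem scal_ok : invM scalM (mulM scalM scalM) = true := by decide +kernel

theorem x_ok : Nat.beq (powM xM 19) oneM = true := by decide +kernel

theorem x_ne : Nat.beq xM oneM = false := by decide +kernel

theorem xFix_ok : invM (Nat.xor xM oneM) xFix = true := by decide +kernel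

theorem c_ok : (invM cElt.1 cElt.2 && Nat.beq (mulM cElt.1 xM) (mulM xM cElt.1) &&
    Nat.beq (powM cElt.1 3) scalM) = true := by decide +kernel

theorem cImg_ok : (Nat.ble (Nat.add cImg.1 1) oCert.n &&
    lineEq (appM cElt.1 (oCert.code cImg.1)) cImg.2.1 && repOK cImg.2.1 &&
    Nat.ble 1 cImg.2.2 && Nat.ble (Nat.add cImg.2.2 1) oCert.n &&
    Nat.ble (Nat.add (oCert.code (Nat.sub cImg.2.2 1)) 1) cImg.2.1 &&
    Nat.ble (Nat.add cImg.2.1 1) (oCert.code cImg.2.2)) = true := by decide +kernel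

/-- The product g·a·x·a⁻¹ for entry `i`. -/
noncomputable def zM (i : ℕ) : ℕ :=
  mulM (nth (oneM, oneM) basics i).1 (mulM (bWord (nth (([], []), 0) conjWords i).1.1)
    (mulM xM (bWord (nth (([], []), 0) conjWords i).1.2)))

/-- `g·a·x·a⁻¹` has order 19 modulo scalars. -/
noncomputable def conjOK (i : ℕ) : Bool :=
  let e := nth (([], []), 0) conjWords i
  lall e.1.1 (fun a => Nat.ble (Nat.add a 1) 10) &&
    lall e.1.2 (fun a => Nat.ble (Nat.add a 1) 10) &&
    Nat.beq (mulM (bWord e.1.1) (bWord e.1.2)) oneM &&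
    Nat.beq (powM (zM i) 19) (powM scalM e.2) &&
    !Nat.beq (zM i) oneM && !Nat.beq (zM i) scalM && !Nat.beq (zM i) (mulM scalM scalM)

theorem conj_ok : allN 5 conjOK = true := by decide +kernel

/-- D_(1,0) and A_(1,0) commute up to the scalar ω. -/
theorem comm_ok : Nat.beq (mulM (gCode tabA (1, 0)) (gCode tabD (1, 0)))
    (mulM scalM (mulM (gCode tabD (1, 0)) (gCode tabA (1, 0)))) = true ∨
    Nat.beq (mulM scalM (mulM (gCode tabA (1, 0)) (gCode tabD (1, 0))))
      (mulM (gCode tabD (1, 0)) (gCode tabA (1, 0))) = true := by decide +kernel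

end Cfsg.Agent.H44.J3
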