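import Cfsg.Agent.H44.J3.Group
import Cfsg.Agent.H44.J3.SimpleCheck
import Cfsg.Agent.Compute.Simplicity

/-!
The centre of 3·J₃ is the group of cube roots of unity; the centraliser of an element x of order 19
is the product of the centre and ⟨x⟩.
-/

set_option autoImplicit false

namespace Cfsg.Agent.H44.J3

open Cfsg.Agent.Compute
open Cfsg.Spor (F9)

attribute [local irreducible] validM invM mulM appM oneM wmul sift checkChain normOK xM scalM

section
variable {F : Type*} [Field F] [Fintype F] {ω : F} (hf : Four F ω)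

/-- The scalar ω as an element of GL₉. -/
noncomputable def scEl : GL F9 F := (snd hf).den scalM

/-- The element of order 19. -/
noncomputable def xEl : GL F9 F := (snd hf).den xM

include hf

theorem scal_ok' : (snd hf).ok scalM := ((snd hf).okInv_sound scal_ok).1

theorem scEl_coe : (scEl hf : Matrix F9 F9 F) = ω • (1 : Matrix F9 F9 F) := by
  rw [scEl, snd_den_coe hf (scal_ok' hf)]
  ext w z
  show dec ω (getP 18 scalM (idx z)) w = _
  have hz := idx_lt z
  have hp : 2 ^ idx z < 262144 := lt_of_lt_of_le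
    (Nat.pow_lt_pow_right (by norm_num) hz) (by norm_num)
  have h : getP 18 scalM (idx z) = wmul (2 ^ idx z) := by
    unfold scalM
    rw [getP_packP 18 _ 18 ?_ (idx z) (by omega)]
    · rw [show Nat.ble (Nat.add (idx z) 1) 9 = true from Nat.ble_eq.symm ▸ (show idx z + 1 ≤ 9 by omega),
        cond_true]
      show wmul (1 <<< idx z) = _
      rw [Nat.shiftLeft_eq, one_mul]
    · intro i hi
      have hb : ∀ j < 9, Nat.shiftLeft 1 j < 262144 := fun j hj => by
        show 1 <<< j < 262144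
        rw [Nat.shiftLeft_eq, one_mul]
        exact lt_of_lt_of_le (Nat.pow_lt_pow_right (by norm_num) hj) (by norm_num)
      cases hc : Nat.ble (Nat.add i 1) 9 with
      | true =>
        rw [Nat.ble_eq] at hc
        exact wmul_lt hf (hb i hc)
      | false =>
        exact wmul_lt hf (wmul_lt hf (hb (i - 9) (by omega)))
  rw [h, dec_wmul ω hf.two hf.root hp]
  show ω * dec ω (2 ^ idx z) w = _
  rw [Matrix.smul_apply, smul_eq_mul]
  congr 1
  have hw := idx_lt w
  by_cases e : w = z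
  · subst e
    simp [dec, bitF, Nat.testBit_two_pow]
  · have e' : idx z ≠ idx w := fun q => e (idx_inj q).symm
    simp [dec, bitF, Nat.testBit_two_pow, e', Matrix.one_apply_ne e,
      show idx z ≠ 9 + idx w by omega]

theorem scEl_central (g : GL F9 F) : Commute (scEl hf) g :=
  Units.ext (by simp [Units.val_mul, scEl_coe])

theorem scEl_pow_three : scEl hf ^ 3 = 1 := by
  obtain ⟨a, b, e⟩ := (snd hf).okInv_sound scal_ok
  have e' : (snd hf).den (mulM scalM scalM) = scEl hf * scEl hf := (snd hf).den_mul a a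
  rw [e'] at e
  rw [pow_succ, pow_two]
  exact mul_eq_one_iff_eq_inv.2 e

theorem scEl_ne_one : scEl hf ≠ 1 := by
  intro h
  have h' := congrArg (fun g : GL F9 F => (g : Matrix F9 F9 F) 0 0) h
  simp only [scEl_coe] at h'
  exact omega_ne_one ω hf.two hf.root (by simpa using h')

theorem orderOf_scEl : orderOf (scEl hf) = 3 := by
  have : Fact (Nat.Prime 3) := ⟨by norm_num⟩
  exact orderOf_eq_prime (scEl_pow_three hf) (scEl_ne_one hf)

theorem den_powM {a : ℕ} (ha : (snd hf).ok a) : ∀ n, (snd hf).ok (powM a n) ∧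
    (snd hf).den (powM a n) = (snd hf).den a ^ n := by
  intro n
  induction n with
  | zero => exact ⟨(snd hf).ok_one, by rw [pow_zero]; exact (snd hf).den_one⟩
  | succ k ih =>
    refine ⟨(snd hf).ok_mul ha ih.1, ?_⟩
    rw [show powM a (k + 1) = mOps.mul a (powM a k) from rfl, (snd hf).den_mul ha ih.1, ih.2,
      pow_succ']

theorem scEl_mem_comm : ∃ a ∈ Cfsg.Spor.threeJ3 F ω, ∃ b ∈ Cfsg.Spor.threeJ3 F ω,
    a * b = scEl hf * (b * a) ∨ scEl hf * (a * b) = b * a := by
  have hA := (gCode_mem hf ((1, 0) : F9)).1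
  have hD := (gCode_mem hf ((1, 0) : F9)).2.2.1
  obtain ⟨oa, ma⟩ := wit_mem hf hA
  obtain ⟨ob, mb⟩ := wit_mem hf hD
  rw [← threeJ3_eq hf] at ma mb
  refine ⟨_, ma, _, mb, ?_⟩
  rcases comm_ok with h | h
  · left
    have e := congrArg (snd hf).den (Nat.eq_of_beq_eq_true h)
    change (snd hf).den (mOps.mul (gCode tabA (1, 0)) (gCode tabD (1, 0))) =
      (snd hf).den (mOps.mul scalM (mOps.mul (gCode tabD (1, 0)) (gCode tabA (1, 0)))) at e
    rw [(snd hf).den_mul oa ob, (snd hf).den_mul (scal_ok' hf) ((snd hf).ok_mul ob oa),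
      (snd hf).den_mul ob oa] at e
    exact e
  · right
    have e := congrArg (snd hf).den (Nat.eq_of_beq_eq_true h)
    change (snd hf).den (mOps.mul scalM (mOps.mul (gCode tabA (1, 0)) (gCode tabD (1, 0)))) =
      (snd hf).den (mOps.mul (gCode tabD (1, 0)) (gCode tabA (1, 0))) at e
    rw [(snd hf).den_mul (scal_ok' hf) ((snd hf).ok_mul oa ob), (snd hf).den_mul oa ob,
      (snd hf).den_mul ob oa] at e
    exact e

theorem scEl_mem : scEl hf ∈ Cfsg.Spor.threeJ3 F ω := by
  obtain ⟨a, ha, b, hb, h | h⟩ := scEl_mem_comm hf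
  · have e : scEl hf = a * b * (b * a)⁻¹ := eq_mul_inv_iff_mul_eq.2 h.symm
    rw [e]
    exact mul_mem (mul_mem ha hb) (inv_mem (mul_mem hb ha))
  · have e : scEl hf = b * a * (a * b)⁻¹ := eq_mul_inv_iff_mul_eq.2 h
    rw [e]
    exact mul_mem (mul_mem hb ha) (inv_mem (mul_mem ha hb))

theorem x_mem : (snd hf).ok xM ∧ xEl hf ∈ Cfsg.Spor.threeJ3 F ω := by
  unfold xEl xM
  exact bWord_mem hf xWord fun a ha => Nat.ble_eq.mp ((lall_iff _ _).1 xWord_ok a ha)

theorem orderOf_xEl : orderOf (xEl hf) = 19 := by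
  have : Fact (Nat.Prime 19) := ⟨by norm_num⟩
  obtain ⟨hx, -⟩ := x_mem hf
  refine orderOf_eq_prime ?_ ?_
  · rw [xEl, ← (den_powM hf hx 19).2, Nat.eq_of_beq_eq_true x_ok]
    exact (snd hf).den_one
  · intro h
    have hb := x_ne
    rw [show Nat.beq xM oneM = mOps.eqv xM mOps.one from rfl,
      ((snd hf).eqv_iff hx (snd hf).ok_one).2 (h.trans (snd hf).den_one.symm)] at hb
    exact absurd hb (by simp)

theorem x_fix_free {v : F9 → F} (hv : (xEl hf : Matrix F9 F9 F).mulVec v = v) : v = 0 := by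
  obtain ⟨hx, -⟩ := x_mem hf
  obtain ⟨ok, -, -⟩ := (snd hf).okInv_sound (a := Nat.xor xM oneM) (b := xFix) xFix_ok
  have e : matOf ω (Nat.xor xM oneM) = (xEl hf : Matrix F9 F9 F) + 1 := by
    rw [xEl, snd_den_coe hf hx, ← matOf_oneM ω]
    ext w z
    show dec ω (getP 18 (xM ^^^ oneM) (idx z)) w = dec ω (getP 18 xM (idx z)) w + _
    have hg : getP 18 (xM ^^^ oneM) (idx z) =
        Nat.xor (getP 18 xM (idx z)) (getP 18 oneM (idx z)) := by
      refine Nat.eq_of_testBit_eq fun i => ?_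
      show (((xM ^^^ oneM) >>> (18 * idx z)) &&& (2 ^ 18 - 1)).testBit i =
        (((xM >>> (18 * idx z)) &&& (2 ^ 18 - 1)) ^^^
          ((oneM >>> (18 * idx z)) &&& (2 ^ 18 - 1))).testBit i
      simp only [Nat.testBit_and, Nat.testBit_xor, Nat.testBit_shiftRight,
        Nat.testBit_two_pow_sub_one]
      cases decide (i < 18) <;> simp
    rw [hg, dec_xor ω hf.two]
    rfl
  obtain ⟨u, hu⟩ := ok.2
  rw [e] at hu
  have h0 : (u : Matrix F9 F9 F).mulVec v = 0 := by
    rw [hu, Matrix.add_mulVec, hv, Matrix.one_mulVec]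
    funext w
    show v w + v w = 0
    rw [← two_mul, hf.two, zero_mul]
  have h := congrArg ((↑u⁻¹ : Matrix F9 F9 F).mulVec) h0
  rwa [Matrix.mulVec_mulVec, Units.inv_mul, Matrix.one_mulVec, Matrix.mulVec_zero] at h

/-- A matrix commuting with x is zero or injective. -/
theorem comm_injective {M : Matrix F9 F9 F} (hM : Commute M (xEl hf : Matrix F9 F9 F))
    (hne : M ≠ 0) : ∀ v, M.mulVec v = 0 → v = 0 := by
  classical
  let W : Submodule F (F9 → F) := LinearMap.ker M.mulVecLin
  have hinv : ∀ (n : ℕ) (v : F9 → F), v ∈ W →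
      ((xEl hf ^ n : GL F9 F) : Matrix F9 F9 F).mulVec v ∈ W := by
    intro n
    induction n with
    | zero => intro v hv; simpa using hv
    | succ k ih =>
      intro v hv
      rw [pow_succ', Units.val_mul, ← Matrix.mulVec_mulVec]
      have h := ih v hv
      simp only [W, LinearMap.mem_ker, Matrix.mulVecLin_apply] at h ⊢
      rw [Matrix.mulVec_mulVec, hM.eq, ← Matrix.mulVec_mulVec, h, Matrix.mulVec_zero]
  have hcard : Nat.card W = 4 ^ Module.finrank F W := by
    rw [Nat.card_eq_fintype_card, Module.card_eq_pow_finrank (K := F) (V := W), hf.card]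
  have hfin : IsOfFinOrder (xEl hf) := isOfFinOrder_of_finite _
  let C : Subgroup (GL F9 F) := Subgroup.zpowers (xEl hf)
  have hmem : ∀ g : C, ∀ v ∈ W, ((g : GL F9 F) : Matrix F9 F9 F).mulVec v ∈ W := by
    intro g v hv
    obtain ⟨n, hn⟩ := (hfin.mem_powers_iff_mem_zpowers).2 g.2
    have hn' : xEl hf ^ n = (g : GL F9 F) := hn
    rw [← hn']
    exact hinv n v hv
  let _ : MulAction C W :=
    { smul := fun g v => ⟨((g : GL F9 F) : Matrix F9 F9 F).mulVec v.1, hmem g v.1 v.2⟩
      one_smul := fun v => Subtype.ext (by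
        show ((1 : GL F9 F) : Matrix F9 F9 F).mulVec v.1 = v.1
        rw [Units.val_one, Matrix.one_mulVec])
      mul_smul := fun g h v => Subtype.ext (by
        show (((g * h : C) : GL F9 F) : Matrix F9 F9 F).mulVec v.1 = _
        rw [Subgroup.coe_mul, Units.val_mul, ← Matrix.mulVec_mulVec]; rfl) }
  have : Fact (Nat.Prime 19) := ⟨by norm_num⟩
  have hP : IsPGroup 19 C :=
    IsPGroup.of_card (n := 1) (by rw [Nat.card_zpowers, orderOf_xEl, pow_one])
  have key := hP.card_modEq_card_fixedPoints W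
  have hfix : Nat.card (MulAction.fixedPoints C W) = 1 := by
    rw [Nat.card_eq_one_iff_unique]
    refine ⟨⟨fun a b => ?_⟩, ⟨⟨0, fun g => Subtype.ext (by
      show ((g : GL F9 F) : Matrix F9 F9 F).mulVec 0 = 0
      exact Matrix.mulVec_zero _)⟩⟩⟩
    have hz : ∀ a : MulAction.fixedPoints C W, (a.1 : F9 → F) = 0 := fun a =>
      x_fix_free hf (congrArg Subtype.val (a.2 ⟨xEl hf, Subgroup.mem_zpowers _⟩))
    exact Subtype.ext (Subtype.ext ((hz a).trans (hz b).symm))
  rw [hfix, hcard] at key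
  have hle : Module.finrank F W ≤ 9 := by
    refine le_trans (Submodule.finrank_le W) ?_
    rw [Module.finrank_fintype_fun_eq_card]
    decide
  have h09 : Module.finrank F W = 0 ∨ Module.finrank F W = 9 := by
    have h : ∀ d < 10, (4 ^ d) % 19 = 1 % 19 → d = 0 ∨ d = 9 := by decide +kernel
    exact h _ (by omega) key
  intro v hv
  rcases h09 with h | h
  · have hb : W = ⊥ := Submodule.finrank_eq_zero.1 h
    have hvW : v ∈ W := by simpa [W] using hv
    rw [hb] at hvW
    simpa using hvW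
  · exfalso
    have ht : W = ⊤ := Submodule.eq_top_of_finrank_eq (by
      rw [h, Module.finrank_fintype_fun_eq_card]
      decide)
    refine hne (Matrix.ext fun w z => ?_)
    have hz : (Pi.single z 1 : F9 → F) ∈ W := by rw [ht]; trivial
    have := congrFun (show M.mulVec (Pi.single z 1) = 0 by simpa [W] using hz) w
    simpa using this

/-- The matrices commuting with x. -/
def kRing : Subring (Matrix F9 F9 F) := Subring.centralizer {(xEl hf : Matrix F9 F9 F)}

theorem kRing_comm {a b : Matrix F9 F9 F} (ha : Commute a (xEl hf : Matrix F9 F9 F))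
    (hb : Commute b (xEl hf : Matrix F9 F9 F)) : Commute a b := by
  have hmem : ∀ {m : Matrix F9 F9 F}, Commute m (xEl hf : Matrix F9 F9 F) → m ∈ kRing hf :=
    fun {m} hm => by
      rw [kRing, Subring.mem_centralizer_iff]
      intro g hg
      rw [Set.mem_singleton_iff.1 hg]
      exact hm.eq.symm
  have hcomm : ∀ m : kRing hf, Commute (m : Matrix F9 F9 F) (xEl hf : Matrix F9 F9 F) :=
    fun m => (Subring.mem_centralizer_iff.1 m.2 _ rfl).symm
  have : NoZeroDivisors (kRing hf) := ⟨fun {u v} h => by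
    by_contra hc
    rw [not_or] at hc
    have h' : (u : Matrix F9 F9 F) * (v : Matrix F9 F9 F) = 0 := congrArg Subtype.val h
    refine hc.2 (Subtype.ext (Matrix.ext fun w z => ?_))
    have hz : ((u : Matrix F9 F9 F)).mulVec (((v : Matrix F9 F9 F)).mulVec (Pi.single z 1)) = 0 := by
      rw [Matrix.mulVec_mulVec, h', Matrix.zero_mulVec]
    have hu : (u : Matrix F9 F9 F) ≠ 0 := fun e => hc.1 (Subtype.ext e)
    have h1 := congrFun (comm_injective hf (hcomm u) hu _ hz) w
    simpa using h1⟩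
  have : IsDomain (kRing hf) := NoZeroDivisors.to_isDomain _
  have := Finite.isDomain_to_isField (kRing hf)
  exact congrArg Subtype.val (this.mul_comm ⟨a, hmem ha⟩ ⟨b, hmem hb⟩)

theorem scalar_of_cube {t : GL F9 F} (ht : Commute t (xEl hf)) (h3 : t ^ 3 = 1) :
    t = 1 ∨ t = scEl hf ∨ t = scEl hf * scEl hf := by
  classical
  by_contra hc
  simp only [not_or] at hc
  have ht' : Commute (t : Matrix F9 F9 F) (xEl hf : Matrix F9 F9 F) := congrArg Units.val ht.eq
  have hsub : ∀ u : F, Commute ((t : Matrix F9 F9 F) - u • (1 : Matrix F9 F9 F))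
      (xEl hf : Matrix F9 F9 F) := fun u => ht'.sub_left ((Commute.one_left _).smul_left u)
  have hne : ∀ u : GL F9 F, ∀ k : F, (u : Matrix F9 F9 F) = k • (1 : Matrix F9 F9 F) → t ≠ u →
      (t : Matrix F9 F9 F) - k • (1 : Matrix F9 F9 F) ≠ 0 := fun u k hu htu e =>
    htu (Units.ext ((sub_eq_zero.1 e).trans hu.symm))
  have h1 := hne 1 1 (by rw [Units.val_one, one_smul]) hc.1
  have h2 := hne _ ω (scEl_coe hf) hc.2.1
  have h3' := hne _ (ω * ω)
    (by rw [Units.val_mul, scEl_coe hf, smul_mul_smul_comm, one_mul]) hc.2.2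
  let T : Matrix F9 F9 F := t
  have hzero : ∀ v, ((T - (1 : F) • (1 : Matrix F9 F9 F)) * ((T - ω • (1 : Matrix F9 F9 F)) *
      (T - (ω * ω) • (1 : Matrix F9 F9 F)))).mulVec v = 0 := by
    intro v
    have hT : T ^ 3 = 1 := by
      show (t : Matrix F9 F9 F) ^ 3 = 1
      rw [← Units.val_pow_eq_pow_val, h3, Units.val_one]
    have h1w : (1 : F) + ω + ω * ω = 0 := by linear_combination hf.root
    have hw3 : ω * (ω * ω) = 1 := by linear_combination (ω - 1) * hf.root
    have e : (T - (1 : F) • (1 : Matrix F9 F9 F)) * ((T - ω • (1 : Matrix F9 F9 F)) *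
        (T - (ω * ω) • (1 : Matrix F9 F9 F))) =
        T ^ 3 - ((1 : F) + ω + ω * ω) • T ^ 2 + (ω + ω * ω + ω * (ω * ω)) • T -
          (ω * (ω * ω)) • (1 : Matrix F9 F9 F) := by
      simp only [sub_mul, mul_sub, smul_mul_assoc, mul_smul_comm, one_mul, mul_one, pow_succ,
        pow_zero, add_smul, smul_smul, one_smul, mul_assoc]
      module
    have h' : ω + ω * ω + ω * (ω * ω) = 0 := by rw [hw3]; linear_combination h1w
    rw [e, h1w, h', hw3, hT]
    simp
  obtain ⟨v, hv⟩ : ∃ v : F9 → F, v ≠ 0 :=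
    ⟨Pi.single 0 1, fun e => one_ne_zero (α := F) (by simpa using congrFun e 0)⟩
  have h := hzero v
  rw [← Matrix.mulVec_mulVec, ← Matrix.mulVec_mulVec] at h
  exact hv (comm_injective hf (hsub _) h3' v (comm_injective hf (hsub _) h2 _
    (comm_injective hf (hsub _) h1 _ h)))

theorem c_not_mem : (snd hf).den cElt.1 ∉ Cfsg.Spor.threeJ3 F ω := by
  intro hmem
  have h := c_ok
  simp only [Bool.and_eq_true] at h
  obtain ⟨oc, -, -⟩ := (snd hf).okInv_sound (a := cElt.1) (b := cElt.2) h.1.1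
  have hi := cImg_ok
  simp only [Bool.and_eq_true, Nat.ble_eq] at hi
  obtain ⟨⟨⟨⟨⟨⟨hi1, hline⟩, hrep⟩, hk1⟩, hk2⟩, hlo⟩, hhi⟩ := hi
  obtain ⟨g, hg, k, hk, eg⟩ := reached hf ocert_ok cert_ok (i := cImg.1) hi1
  rw [threeJ3_eq hf] at hmem
  have hcg : InT hf cert ((snd hf).den cElt.1 * g) := (mem_closure_iff hf cert_ok _).1
    (Subgroup.mul_mem _ hmem ((mem_closure_iff hf cert_ok _).2 hg))
  obtain ⟨j, hj, k', hk', e'⟩ := lineTo_exists hf ocert_ok cert_ok hcg
  simp only [repOK, Bool.and_eq_true, Bool.not_eq_true', Nat.ble_eq] at hrep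
  obtain ⟨⟨⟨hlt, hn1⟩, hn2⟩, hn3⟩ := hrep
  obtain ⟨m, hm, em⟩ := lineEq_sound hf hlt hline
  rw [dec_appM_den hf oc] at em
  rw [Units.val_mul, ← Matrix.mulVec_mulVec, eg, Matrix.mulVec_smul, em, smul_smul] at e'
  obtain ⟨hjlt, hjn, -⟩ := code_spec hf ocert_ok hj
  have hle := lineEq_complete hf hjlt hlt
    (k := k'⁻¹ * (k * m)) (mul_ne_zero (inv_ne_zero hk') (mul_ne_zero hk hm))
    (by rw [← smul_smul, e', inv_smul_smul₀ hk'])
  simp only [lineEq, Bool.or_eq_true, Nat.beq_eq] at hle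
  rcases hle with (e | e) | e
  · have hk2' : cImg.2.2 < oCert.n := hk2
    have hk1' : 1 ≤ cImg.2.2 := hk1
    have hlo' : oCert.code (cImg.2.2 - 1) < cImg.2.1 := hlo
    have hhi' : cImg.2.1 < oCert.code cImg.2.2 := hhi
    rcases le_or_gt cImg.2.2 j with q | q
    · rcases eq_or_lt_of_le q with rfl | q'
      · omega
      · have := code_lt_code hf ocert_ok q' hj; omega
    · rcases eq_or_lt_of_le (show j ≤ cImg.2.2 - 1 by omega) with q' | q'
      · rw [← q'] at hlo'; omega
      · have := code_lt_code hf ocert_ok q' (by omega); omega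
  · rw [e, hn2] at hjn; exact absurd hjn (by simp)
  · rw [e, hn3] at hjn; exact absurd hjn (by simp)

/-- In 3·J₃ an element commuting with x is a scalar times a power of x. -/
theorem centralizer_x {t : GL F9 F} (ht : t ∈ Cfsg.Spor.threeJ3 F ω)
    (hc : Commute t (xEl hf)) :
    ∃ i : ℤ, ∃ j : ℤ, t = scEl hf ^ i * xEl hf ^ j := by
  classical
  let C : Subgroup (GL F9 F) := Cfsg.Spor.threeJ3 F ω ⊓ Subgroup.centralizer {xEl hf}
  have hmemC : ∀ {u : GL F9 F}, u ∈ C ↔ u ∈ Cfsg.Spor.threeJ3 F ω ∧ Commute u (xEl hf) :=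
    fun {u} => by
      rw [Subgroup.mem_inf, Subgroup.mem_centralizer_singleton_iff]
      rfl
  have hsc : scEl hf ∈ Cfsg.Spor.threeJ3 F ω := scEl_mem hf
  have comm : ∀ a ∈ C, ∀ b ∈ C, Commute a b := fun a ha b hb => Units.ext
    (kRing_comm hf (congrArg Units.val (hmemC.1 ha).2.eq) (congrArg Units.val (hmemC.1 hb).2.eq)).eq
  have hdvd : Nat.card C ∣ 150698880 :=
    card_threeJ3 hf ▸ Subgroup.card_dvd_of_le inf_le_left
  -- C acts freely on nonzero vectors
  have hfree : Nat.card C ∣ 262143 := by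
    let V' := {v : F9 → F // v ≠ 0}
    let _ : MulAction C V' :=
      { smul := fun g v => ⟨((g : GL F9 F) : Matrix F9 F9 F).mulVec v.1, fun e => v.2 (by
          have h := congrArg ((↑(g : GL F9 F)⁻¹ : Matrix F9 F9 F).mulVec) e
          rwa [Matrix.mulVec_mulVec, Units.inv_mul, Matrix.one_mulVec, Matrix.mulVec_zero] at h)⟩
        one_smul := fun v => Subtype.ext (by
          show ((1 : GL F9 F) : Matrix F9 F9 F).mulVec v.1 = v.1
          rw [Units.val_one, Matrix.one_mulVec])
        mul_smul := fun g h v => Subtype.ext (by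
          show (((g * h : C) : GL F9 F) : Matrix F9 F9 F).mulVec v.1 = _
          rw [Subgroup.coe_mul, Units.val_mul, ← Matrix.mulVec_mulVec]; rfl) }
    have hst : ∀ v : V', MulAction.stabilizer C v = ⊥ := by
      intro v
      rw [Subgroup.eq_bot_iff_forall]
      intro g hg
      by_contra hne
      have hne' : ((g : GL F9 F) : Matrix F9 F9 F) - 1 ≠ 0 := fun e =>
        hne (Subtype.ext (Units.ext (sub_eq_zero.1 e)))
      have hg' : ((g : GL F9 F) : Matrix F9 F9 F).mulVec v.1 = v.1 := congrArg Subtype.val hg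
      refine v.2 (comm_injective hf
        (Commute.sub_left (congrArg Units.val (hmemC.1 g.2).2.eq) (Commute.one_left _)) hne' v.1 ?_)
      rw [Matrix.sub_mulVec, hg', Matrix.one_mulVec, sub_self]
    have e := Nat.card_congr (MulAction.selfEquivSigmaOrbits C V')
    rw [Nat.card_sigma] at e
    have hV : Nat.card V' = 262143 := by
      rw [Nat.card_eq_fintype_card, Fintype.card_subtype_compl, Fintype.card_subtype_eq,
        Fintype.card_fun, hf.card]
      decide
    rw [← hV, e]
    refine Finset.dvd_sum fun x _ => ?_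
    rw [Nat.card_congr (MulAction.orbitEquivQuotientStabilizer C x.out), ← Subgroup.index, hst,
      Subgroup.index_bot]
  have h513 : Nat.card C ∣ 513 := by
    have h := Nat.dvd_gcd hdvd hfree
    rwa [show Nat.gcd 150698880 262143 = 513 by norm_num] at h
  -- the 3-part
  have h3 : ∀ u ∈ C, u ^ 27 = 1 → ∃ i : ℤ, u = scEl hf ^ i := by
    intro u hu h27
    have hcube : ∀ w ∈ C, w ^ 3 = 1 → ∃ i : ℤ, w = scEl hf ^ i := by
      intro w hw hw3
      rcases scalar_of_cube hf (hmemC.1 hw).2 hw3 with rfl | rfl | rfl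
      · exact ⟨0, by simp⟩
      · exact ⟨1, by simp⟩
      · exact ⟨2, by rw [zpow_two]⟩
    have hnine : ∀ w ∈ C, w ^ 9 = 1 → w ^ 3 = 1 := by
      intro w hw hw9
      by_contra hne
      obtain ⟨i, hi⟩ := hcube (w ^ 3) (Subgroup.pow_mem _ hw 3) (by rw [← pow_mul]; exact hw9)
      have hsq : ∃ v ∈ C, v ^ 3 = scEl hf := by
        rcases scalar_of_cube hf (hmemC.1 (Subgroup.pow_mem _ hw 3)).2
          (by rw [← pow_mul]; exact hw9) with e | e | e
        · exact absurd e hne
        · exact ⟨w, hw, e⟩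
        · refine ⟨w * w, Subgroup.mul_mem _ hw hw, ?_⟩
          rw [(Commute.refl w).mul_pow, e]
          calc scEl hf * scEl hf * (scEl hf * scEl hf) = scEl hf ^ 3 * scEl hf := by
                simp only [pow_succ, pow_zero, one_mul, mul_assoc]
            _ = scEl hf := by rw [scEl_pow_three hf, one_mul]
      obtain ⟨v, hv, hv3⟩ := hsq
      have h := c_ok
      simp only [Bool.and_eq_true, Nat.beq_eq] at h
      obtain ⟨oc, -, -⟩ := (snd hf).okInv_sound (a := cElt.1) (b := cElt.2) h.1.1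
      obtain ⟨hx, -⟩ := x_mem hf
      have hcx : Commute ((snd hf).den cElt.1) (xEl hf) := by
        have e := congrArg (snd hf).den h.1.2
        rw [show mulM cElt.1 xM = mOps.mul cElt.1 xM from rfl,
          show mulM xM cElt.1 = mOps.mul xM cElt.1 from rfl, (snd hf).den_mul oc hx,
          (snd hf).den_mul hx oc] at e
        exact e
      have hc3 : (snd hf).den cElt.1 ^ 3 = scEl hf := by
        rw [← (den_powM hf oc 3).2, h.2]; rfl
      have hvc : Commute v ((snd hf).den cElt.1) := Units.ext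
        (kRing_comm hf (congrArg Units.val (hmemC.1 hv).2.eq) (congrArg Units.val hcx.eq)).eq
      have hq : (v⁻¹ * (snd hf).den cElt.1) ^ 3 = 1 := by
        rw [hvc.inv_left.mul_pow, inv_pow, hv3, hc3, inv_mul_cancel]
      have hq' : v⁻¹ * (snd hf).den cElt.1 ∈ Cfsg.Spor.threeJ3 F ω := by
        rcases scalar_of_cube hf ((hmemC.1 hv).2.inv_left.mul_left hcx) hq with e | e | e <;>
          rw [e]
        · exact one_mem _
        · exact hsc
        · exact Subgroup.mul_mem _ hsc hsc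
      have := Subgroup.mul_mem _ (hmemC.1 hv).1 hq'
      rw [mul_inv_cancel_left] at this
      exact c_not_mem hf this
    exact hcube u hu (hnine u hu (by
      have h := hnine (u ^ 3) (Subgroup.pow_mem _ hu 3) (by rw [← pow_mul]; exact h27)
      rwa [← pow_mul] at h))
  -- the 19-part
  have hx' : xEl hf ∈ C := hmemC.2 ⟨(x_mem hf).2, Commute.refl _⟩
  have h19 : ∀ u ∈ C, u ^ 19 = 1 → ∃ j : ℤ, u = xEl hf ^ j := by
    intro u hu hu19
    by_cases h1 : u = 1
    · exact ⟨0, by simp [h1]⟩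
    have : Fact (Nat.Prime 19) := ⟨by norm_num⟩
    have hxC : orderOf (⟨xEl hf, hx'⟩ : C) = 19 := by
      rw [← Subgroup.orderOf_coe]; exact orderOf_xEl hf
    have huC : orderOf (⟨u, hu⟩ : C) = 19 := by
      rw [← Subgroup.orderOf_coe]; exact orderOf_eq_prime hu19 h1
    have hn : ¬ 19 ^ 2 ∣ Nat.card C := fun hd =>
      absurd (hd.trans h513) (by norm_num)
    have : (Subgroup.zpowers (⟨xEl hf, hx'⟩ : C)).Normal :=
      ⟨fun a ha b => by
        have e : b * a * b⁻¹ = a := by
          rw [show b * a = a * b from Subtype.ext (comm _ b.2 _ a.2).eq, mul_inv_cancel_right]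
        rw [e]; exact ha⟩
    obtain ⟨j, hj⟩ := Subgroup.mem_zpowers_iff.1
      (mem_of_normal_of_dvd huC hn (Subgroup.zpowers (⟨xEl hf, hx'⟩ : C))
        (by rw [Nat.card_zpowers, hxC]))
    exact ⟨j, by simpa using (congrArg Subtype.val hj).symm⟩
  have htC : t ∈ C := hmemC.2 ⟨ht, hc⟩
  have h513' : t ^ 513 = 1 := by
    have h := pow_card_eq_one' (x := (⟨t, htC⟩ : C))
    obtain ⟨d, hd⟩ := h513
    rw [hd, pow_mul, show t ^ Nat.card C = 1 from congrArg Subtype.val h, one_pow]
  obtain ⟨i, hi⟩ := h3 (t ^ 19) (Subgroup.pow_mem _ htC _) (by rw [← pow_mul]; exact h513')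
  obtain ⟨j, hj⟩ := h19 (t ^ 27) (Subgroup.pow_mem _ htC _) (by rw [← pow_mul]; exact h513')
  refine ⟨10 * i, -7 * j, ?_⟩
  rw [show (10 : ℤ) * i = i * 10 by ring, show (-7 : ℤ) * j = j * (-7) by ring, zpow_mul, zpow_mul,
    ← hi, ← hj, ← zpow_natCast t 19, ← zpow_natCast t 27, ← zpow_mul, ← zpow_mul, ← zpow_add]
  norm_num

end

end Cfsg.Agent.H44.J3
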