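import Cfsg.Agent.H44.J3.DataBase

/-! Kernel check of the chain and basic data. -/

set_option autoImplicit false
set_option Elab.async false

namespace Cfsg.Agent.H44.J3

open Cfsg.Agent.Compute

theorem chain_ok : checkChain mOps cert.chain = true := by decide +kernel

theorem baseOK_and_intro {a b : Bool} (ha : a = true) (hb : b = true) : (a && b) = true := by
  rw [ha, hb]; rfl

/-- The coset table check for generator `a`. -/
noncomputable def tabPartOK (c : GCert) (a : ℕ) : Bool :=
  allN c.reps.length (fun i =>
    Nat.ble (Nat.add (c.tab a i) 1) c.reps.length &&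
      (let k := mulM (c.rep i).1 (mulM (c.gen a) (c.rep (c.tab a i)).2)
       sift mOps c.chain k && Nat.beq (mulM k c.s) (mulM c.s k)))

theorem base_head :
    (invM cert.s cert.s && Nat.beq (cert.rep 0).1 oneM &&
      lall cert.reps (fun p => invM p.1 p.2 && sift mOps cert.chain p.1)) = true := by
  decide +kernel

theorem base_tab_0 : tabPartOK cert 0 = true := by decide +kernel
theorem base_tab_1 : tabPartOK cert 1 = true := by decide +kernel
theorem base_tab_2 : tabPartOK cert 2 = true := by decide +kernel
theorem base_tab_3 : tabPartOK cert 3 = true := by decide +kernel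
theorem base_tab_4 : tabPartOK cert 4 = true := by decide +kernel

theorem base_tab : allN cert.lvl.gens.length (fun a => tabPartOK cert a) = true := by
  refine (allN_iff _ _).2 (fun a ha => ?_)
  have ha' : a < 5 := ha
  interval_cases a
  · exact base_tab_0
  · exact base_tab_1
  · exact base_tab_2
  · exact base_tab_3
  · exact base_tab_4

theorem base_ds :
    allN cert.ds.length (fun j => invM (cert.dr j).d (cert.dr j).di &&
      cond (Nat.beq j 0) (Nat.beq (cert.dr j).d oneM)
        (Nat.ble (Nat.add (cert.dr j).par 1) j && Nat.ble (Nat.add (cert.dr j).r 1) cert.reps.length &&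
          Nat.beq (cert.dr j).d (mulM cert.s (mulM (cert.rep (cert.dr j).r).1 (cert.dr (cert.dr j).par).d))))
      = true := by
  decide +kernel

theorem base_ok : cert.baseOK = true :=
  baseOK_and_intro (baseOK_and_intro base_head base_tab) base_ds

end Cfsg.Agent.H44.J3
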