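import Cfsg.Agent.H44.J3.IsoDefs

/-! Kernel check of the isotropic table, part 1. -/

set_option autoImplicit false
set_option Elab.async false

namespace Cfsg.Agent.H44.J3

theorem iso1_ok : isoRangeOK 114 114 = true := by decide +kernel

end Cfsg.Agent.H44.J3
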