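import Cfsg.Agent.H44.J3.IsoDefs

/-! Kernel check that the isotropic table is sorted. -/

set_option autoImplicit false
set_option Elab.async false

namespace Cfsg.Agent.H44.J3

open Cfsg.Agent.Compute

/-- Consecutive codes increase. -/
noncomputable def isoSortB (i : ℕ) : Bool :=
  cond (Nat.ble (Nat.add i 2) isoN) (Nat.ble (Nat.add (iCode i) 1) (iCode (Nat.add i 1))) true

theorem isoSort_ok : allN 341 (fun a => allN 128 (fun k => isoSortB (Nat.add (Nat.mul 128 a) k))) = true := by
  decide +kernel

end Cfsg.Agent.H44.J3
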