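import Cfsg.Agent.H44.J3.DataBase
import Cfsg.Agent.H44.J3.DataOrbit

/-! Kernel checks of the orbit certificate, part 0. -/

set_option autoImplicit false
set_option Elab.async false

namespace Cfsg.Agent.H44.J3

theorem codes_ok : oCert.codesOK = true := by decide +kernel

theorem par_ok : oCert.parOK cert = true := by decide +kernel

theorem reps_ok : oCert.repsOK cert = true := by decide +kernel

theorem close0_ok : oCert.closeOK cert 0 = true := by decide +kernel

end Cfsg.Agent.H44.J3
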