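import Cfsg.Agent.H44.J3.DataBase
import Cfsg.Agent.H44.J3.DataOrbit

/-! Kernel checks of the orbit certificate, part 2. -/

set_option autoImplicit false
set_option Elab.async false

namespace Cfsg.Agent.H44.J3

theorem close3_ok : oCert.closeOK cert 3 = true := by decide +kernel

theorem close4_ok : oCert.closeOK cert 4 = true := by decide +kernel

end Cfsg.Agent.H44.J3
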