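import Cfsg.Agent.H44.J3.DataWit0

/-! Kernel check of witnesses, part 0. -/

set_option autoImplicit false
set_option Elab.async false

namespace Cfsg.Agent.H44.J3

theorem dd6_ok : cert.dataOK 6 dd6 = true := by decide +kernel

theorem dd8_ok : cert.dataOK 8 dd8 = true := by decide +kernel

theorem dd10_ok : cert.dataOK 10 dd10 = true := by decide +kernel

end Cfsg.Agent.H44.J3
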