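import Cfsg.Agent.H44.J3.DataWit1

/-! Kernel check of witnesses, part 1. -/

set_option autoImplicit false
set_option Elab.async false

namespace Cfsg.Agent.H44.J3

theorem dd7_ok : cert.dataOK 7 dd7 = true := by decide +kernel

theorem dd9_ok : cert.dataOK 9 dd9 = true := by decide +kernel

theorem dd13_ok : cert.dataOK 13 dd13 = true := by decide +kernel

end Cfsg.Agent.H44.J3
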