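import Cfsg.Agent.H44.J3.DataWit2

/-! Kernel check of witnesses, part 2. -/

set_option autoImplicit false
set_option Elab.async false

namespace Cfsg.Agent.H44.J3

theorem dd0_ok : cert.dataOK 0 dd0 = true := by decide +kernel

theorem dd1_ok : cert.dataOK 1 dd1 = true := by decide +kernel

theorem dd15_ok : cert.dataOK 15 dd15 = true := by decide +kernel

theorem dd21_ok : cert.dataOK 21 dd21 = true := by decide +kernel

theorem dd23_ok : cert.dataOK 23 dd23 = true := by decide +kernel

end Cfsg.Agent.H44.J3
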