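import Cfsg.Agent.H44.J3.DataWit3

/-! Kernel check of witnesses, part 3. -/

set_option autoImplicit false
set_option Elab.async false

namespace Cfsg.Agent.H44.J3

theorem dd14_ok : cert.dataOK 14 dd14 = true := by decide +kernel

theorem dd24_ok : cert.dataOK 24 dd24 = true := by decide +kernel

theorem dd25_ok : cert.dataOK 25 dd25 = true := by decide +kernel

theorem dd26_ok : cert.dataOK 26 dd26 = true := by decide +kernel

theorem dd27_ok : cert.dataOK 27 dd27 = true := by decide +kernel

end Cfsg.Agent.H44.J3
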