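import Cfsg.Agent.H44.J3.DataWit4

/-! Kernel check of witnesses, part 4. -/

set_option autoImplicit false
set_option Elab.async false

namespace Cfsg.Agent.H44.J3

theorem dd2_ok : cert.dataOK 2 dd2 = true := by decide +kernel

theorem dd5_ok : cert.dataOK 5 dd5 = true := by decide +kernel

theorem dd11_ok : cert.dataOK 11 dd11 = true := by decide +kernel

theorem dd12_ok : cert.dataOK 12 dd12 = true := by decide +kernel

end Cfsg.Agent.H44.J3
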