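import Cfsg.Agent.H44.J3.DataWit5

/-! Kernel check of witnesses, part 5. -/

set_option autoImplicit false
set_option Elab.async false

namespace Cfsg.Agent.H44.J3

theorem dd3_ok : cert.dataOK 3 dd3 = true := by decide +kernel

theorem dd16_ok : cert.dataOK 16 dd16 = true := by decide +kernel

theorem dd17_ok : cert.dataOK 17 dd17 = true := by decide +kernel

theorem dd19_ok : cert.dataOK 19 dd19 = true := by decide +kernel

end Cfsg.Agent.H44.J3
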