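import Cfsg.Agent.H44.J3.DataWit6

/-! Kernel check of witnesses, part 6. -/

set_option autoImplicit false
set_option Elab.async false

namespace Cfsg.Agent.H44.J3

theorem dd4_ok : cert.dataOK 4 dd4 = true := by decide +kernel

theorem dd18_ok : cert.dataOK 18 dd18 = true := by decide +kernel

theorem dd20_ok : cert.dataOK 20 dd20 = true := by decide +kernel

theorem dd22_ok : cert.dataOK 22 dd22 = true := by decide +kernel

end Cfsg.Agent.H44.J3
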