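import Cfsg.Prelude.Def_Spor_J3
import Cfsg.Agent.Compute.PermRep

/-!
Vectors of F⁹ (F with four elements {0, 1, ω, ω²}) coded by 18 bits (low plane: coefficient of 1,
high plane: coefficient of ω), matrices coded by their 18 columns as maps over the prime field.
-/

set_option autoImplicit false

namespace Cfsg.Agent.H44.J3

open Cfsg.Agent.Compute
open Cfsg.Spor (F9)

/-- Multiply a coded vector by ω. -/
noncomputable def wmul (v : ℕ) : ℕ :=
  Nat.lor (Nat.shiftRight v 9)
    (Nat.shiftLeft (Nat.xor (Nat.land v 511) (Nat.shiftRight v 9)) 9)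

/-- Apply a coded matrix to a coded vector (unrolled for the kernel). -/
noncomputable def appM (M v : ℕ) : ℕ :=
  Nat.xor (Nat.mul (Nat.land (Nat.shiftRight v 17) 1) (Nat.land (Nat.shiftRight M 306) 262143))
    (Nat.xor (Nat.mul (Nat.land (Nat.shiftRight v 16) 1) (Nat.land (Nat.shiftRight M 288) 262143))
    (Nat.xor (Nat.mul (Nat.land (Nat.shiftRight v 15) 1) (Nat.land (Nat.shiftRight M 270) 262143))
    (Nat.xor (Nat.mul (Nat.land (Nat.shiftRight v 14) 1) (Nat.land (Nat.shiftRight M 252) 262143))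
    (Nat.xor (Nat.mul (Nat.land (Nat.shiftRight v 13) 1) (Nat.land (Nat.shiftRight M 234) 262143))
    (Nat.xor (Nat.mul (Nat.land (Nat.shiftRight v 12) 1) (Nat.land (Nat.shiftRight M 216) 262143))
    (Nat.xor (Nat.mul (Nat.land (Nat.shiftRight v 11) 1) (Nat.land (Nat.shiftRight M 198) 262143))
    (Nat.xor (Nat.mul (Nat.land (Nat.shiftRight v 10) 1) (Nat.land (Nat.shiftRight M 180) 262143))
    (Nat.xor (Nat.mul (Nat.land (Nat.shiftRight v 9) 1) (Nat.land (Nat.shiftRight M 162) 262143))
    (Nat.xor (Nat.mul (Nat.land (Nat.shiftRight v 8) 1) (Nat.land (Nat.shiftRight M 144) 262143))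
    (Nat.xor (Nat.mul (Nat.land (Nat.shiftRight v 7) 1) (Nat.land (Nat.shiftRight M 126) 262143))
    (Nat.xor (Nat.mul (Nat.land (Nat.shiftRight v 6) 1) (Nat.land (Nat.shiftRight M 108) 262143))
    (Nat.xor (Nat.mul (Nat.land (Nat.shiftRight v 5) 1) (Nat.land (Nat.shiftRight M 90) 262143))
    (Nat.xor (Nat.mul (Nat.land (Nat.shiftRight v 4) 1) (Nat.land (Nat.shiftRight M 72) 262143))
    (Nat.xor (Nat.mul (Nat.land (Nat.shiftRight v 3) 1) (Nat.land (Nat.shiftRight M 54) 262143))
    (Nat.xor (Nat.mul (Nat.land (Nat.shiftRight v 2) 1) (Nat.land (Nat.shiftRight M 36) 262143))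
    (Nat.xor (Nat.mul (Nat.land (Nat.shiftRight v 1) 1) (Nat.land (Nat.shiftRight M 18) 262143))
    (Nat.xor (Nat.mul (Nat.land v 1) (Nat.land M 262143))
    0)))))))))))))))))

/-- Product of coded matrices (unrolled for the kernel). -/
noncomputable def mulM (A B : ℕ) : ℕ :=
  Nat.add
    (Nat.add
    (Nat.add
    (Nat.add
    (Nat.add
    (Nat.add
    (Nat.add
    (Nat.add
    (Nat.add
    (Nat.add
    (Nat.add
    (Nat.add
    (Nat.add
    (Nat.add
    (Nat.add
    (Nat.add
    (Nat.add
    (Nat.add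
    0 (appM A (Nat.land B 262143))) (Nat.shiftLeft (appM A (Nat.land (Nat.shiftRight B 18) 262143)) 18)) (Nat.shiftLeft (appM A (Nat.land (Nat.shiftRight B 36) 262143)) 36)) (Nat.shiftLeft (appM A (Nat.land (Nat.shiftRight B 54) 262143)) 54)) (Nat.shiftLeft (appM A (Nat.land (Nat.shiftRight B 72) 262143)) 72)) (Nat.shiftLeft (appM A (Nat.land (Nat.shiftRight B 90) 262143)) 90)) (Nat.shiftLeft (appM A (Nat.land (Nat.shiftRight B 108) 262143)) 108)) (Nat.shiftLeft (appM A (Nat.land (Nat.shiftRight B 126) 262143)) 126)) (Nat.shiftLeft (appM A (Nat.land (Nat.shiftRight B 144) 262143)) 144)) (Nat.shiftLeft (appM A (Nat.land (Nat.shiftRight B 162) 262143)) 162)) (Nat.shiftLeft (appM A (Nat.land (Nat.shiftRight B 180) 262143)) 180)) (Nat.shiftLeft (appM A (Nat.land (Nat.shiftRight B 198) 262143)) 198)) (Nat.shiftLeft (appM A (Nat.land (Nat.shiftRight B 216) 262143)) 216)) (Nat.shiftLeft (appM A (Nat.land (Nat.shiftRight B 234) 262143)) 234)) (Nat.shiftLeft (appM A (Nat.land (Nat.shiftRight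 B 252) 262143)) 252)) (Nat.shiftLeft (appM A (Nat.land (Nat.shiftRight B 270) 262143)) 270)) (Nat.shiftLeft (appM A (Nat.land (Nat.shiftRight B 288) 262143)) 288)) (Nat.shiftLeft (appM A (Nat.land (Nat.shiftRight B 306) 262143)) 306)

set_option maxRecDepth 4000 in
theorem appM_eq (M v : ℕ) : appM M v = Nat.rec 0 (fun i acc =>
    Nat.xor (Nat.mul (Nat.land (Nat.shiftRight v i) 1) (getP 18 M i)) acc) 18 := rfl

set_option maxRecDepth 4000 in
theorem mulM_eq (A B : ℕ) : mulM A B = packP 18 (fun i => appM A (getP 18 B i)) 18 := rfl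

noncomputable def oneM : ℕ := packP 18 (fun i => Nat.shiftLeft 1 i) 18

/-- Canonical code of a linear map. -/
noncomputable def validM (M : ℕ) : Bool :=
  Nat.beq (packP 18 (getP 18 M) 18) M &&
    allN 9 (fun z => Nat.beq (getP 18 M (Nat.add 9 z)) (wmul (getP 18 M z)))

noncomputable def invM (A B : ℕ) : Bool :=
  validM A && validM B && Nat.beq (mulM A B) oneM && Nat.beq (mulM B A) oneM

/-- Coded matrices acting on coded vectors. -/
noncomputable def mOps : Ops ℕ where
  one := oneM
  mul := mulM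
  eqv := Nat.beq
  img := fun M v => cond (Nat.ble (Nat.add v 1) 262144) (appM M v) v
  okInv := invM

/-- Position of a point of 𝔽₉. -/
def idx (z : F9) : ℕ := z.1.val * 3 + z.2.val

theorem idx_lt : ∀ z : F9, idx z < 9 := by decide

theorem idx_inj : Function.Injective idx := by decide

theorem exists_idx : ∀ i < 9, ∃ z : F9, idx z = i := by decide

theorem getP_lt (M i : ℕ) : getP 18 M i < 262144 := by
  rw [getP_eq]; exact Nat.mod_lt _ (by norm_num)

theorem validM_iff {M : ℕ} : validM M = true ↔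
    packP 18 (getP 18 M) 18 = M ∧ ∀ z < 9, getP 18 M (9 + z) = wmul (getP 18 M z) := by
  simp [validM, allN_iff]

theorem appM_rec (M v : ℕ) : ∀ n, (Nat.rec 0 (fun i acc =>
    Nat.xor (Nat.mul (Nat.land (Nat.shiftRight v i) 1) (getP 18 M i)) acc) n : ℕ) < 262144 := by
  intro n
  induction n with
  | zero => norm_num
  | succ k ih =>
    have h : Nat.mul (Nat.land (Nat.shiftRight v k) 1) (getP 18 M k) < 262144 := by
      show (v >>> k &&& 1) * getP 18 M k < 262144
      rw [Nat.and_one_is_mod]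
      have := getP_lt M k
      have h2 := Nat.mod_two_eq_zero_or_one (v >>> k)
      rcases h2 with h2 | h2 <;> rw [h2] <;> omega
    exact Nat.xor_lt_two_pow (n := 18) h ih

theorem appM_lt (M v : ℕ) : appM M v < 262144 := by rw [appM_eq]; exact appM_rec M v 18

section
variable {F : Type*} [Field F] (ω : F)

/-- Value of a bit. -/
def bitF (b : Bool) (c : F) : F := cond b c 0

/-- The vector coded by `v`. -/
def dec (v : ℕ) : F9 → F :=
  fun z => bitF (v.testBit (idx z)) 1 + bitF (v.testBit (9 + idx z)) ω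

/-- Column `z` of a coded matrix. -/
noncomputable def matOf (M : ℕ) : Matrix F9 F9 F :=
  Matrix.of fun w z => dec ω (getP 18 M (idx z)) w

variable (h2 : (2 : F) = 0)
include h2

theorem bitF_xor (a b : Bool) (c : F) : bitF (a ^^ b) c = bitF a c + bitF b c := by
  have hc : c + c = 0 := by rw [← two_mul, h2, zero_mul]
  cases a <;> cases b <;> simp [bitF, hc]

theorem dec_xor (a b : ℕ) : dec ω (Nat.xor a b) = dec ω a + dec ω b := by
  funext z
  show dec ω (a ^^^ b) z = _
  simp only [dec, Nat.testBit_xor, bitF_xor h2, Pi.add_apply]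
  ring

variable (hω : ω ^ 2 + ω + 1 = 0)
include hω

theorem dec_wmul {v : ℕ} (hv : v < 262144) : dec ω (wmul v) = ω • dec ω v := by
  funext z
  have hz := idx_lt z
  have hw : ω * ω = 1 + ω := by linear_combination hω - (ω + 1) * h2
  show dec ω (v >>> 9 ||| ((v &&& 511) ^^^ (v >>> 9)) <<< 9) z = _
  have h1 : (v >>> 9 ||| ((v &&& 511) ^^^ (v >>> 9)) <<< 9).testBit (idx z) =
      v.testBit (9 + idx z) := by
    simp [Nat.testBit_or, Nat.testBit_shiftLeft, Nat.testBit_shiftRight, show ¬ (9 ≤ idx z) by omega]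
  have h3 : v.testBit (9 + (9 + idx z)) = false :=
    Nat.testBit_lt_two_pow (lt_of_lt_of_le hv (le_trans (by norm_num : 262144 ≤ 2 ^ 18)
      (Nat.pow_le_pow_right (by norm_num) (by omega))))
  have h511 : (511 : ℕ).testBit (idx z) = true := by
    rw [show (511 : ℕ) = 2 ^ 9 - 1 by norm_num, Nat.testBit_two_pow_sub_one]
    simpa using hz
  have h4 : (v >>> 9 ||| ((v &&& 511) ^^^ (v >>> 9)) <<< 9).testBit (9 + idx z) =
      (v.testBit (idx z) ^^ v.testBit (9 + idx z)) := by
    simp [Nat.testBit_or, Nat.testBit_shiftLeft, Nat.testBit_shiftRight, Nat.testBit_xor, h3, h511]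
  simp only [dec, Pi.smul_apply, smul_eq_mul, h1, h4, bitF_xor h2]
  cases v.testBit (idx z) <;> cases v.testBit (9 + idx z) <;> simp [bitF] <;>
    first | linear_combination hω | linear_combination -hω | linear_combination hω - (ω + 1) * h2 |
      linear_combination -hω + (ω + 1) * h2

omit h2 in
theorem omega_ne_zero : ω ≠ 0 := by
  rintro rfl
  simp at hω

theorem omega_ne_one : ω ≠ 1 := by
  rintro rfl
  have : (2 : F) + 1 = 0 := by linear_combination hω
  rw [h2, zero_add] at this
  exact one_ne_zero this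

theorem bits_inj {a b a' b' : Bool} (h : bitF a 1 + bitF b ω = bitF a' 1 + bitF b' ω) :
    a = a' ∧ b = b' := by
  have h0 := omega_ne_zero ω hω
  have h1 := omega_ne_one ω h2 hω
  have h11 : 1 + ω ≠ 0 := fun e => h1 (by linear_combination e - h2)
  cases a <;> cases b <;> cases a' <;> cases b' <;>
    simp [bitF, h0, h1, h1.symm, h11, h11.symm, h0.symm] at h ⊢

theorem dec_inj {a b : ℕ} (ha : a < 262144) (hb : b < 262144) (h : dec ω a = dec ω b) :
    a = b := by
  refine Nat.eq_of_testBit_eq fun i => ?_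
  by_cases hi : i < 18
  · by_cases h9 : i < 9
    · obtain ⟨z, rfl⟩ := exists_idx i h9
      exact (bits_inj ω h2 hω (congrFun h z)).1
    · obtain ⟨z, hz⟩ := exists_idx (i - 9) (by omega)
      have := (bits_inj ω h2 hω (congrFun h z)).2
      rwa [hz, show 9 + (i - 9) = i by omega] at this
  · rw [Nat.testBit_lt_two_pow (lt_of_lt_of_le ha (le_trans (by norm_num : 262144 ≤ 2 ^ 18)
      (Nat.pow_le_pow_right (by norm_num) (by omega)))),
      Nat.testBit_lt_two_pow (lt_of_lt_of_le hb (le_trans (by norm_num : 262144 ≤ 2 ^ 18)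
      (Nat.pow_le_pow_right (by norm_num) (by omega))))]

omit hω in
theorem dec_appM_rec (M v : ℕ) : ∀ n, dec ω (Nat.rec 0 (fun i acc =>
    Nat.xor (Nat.mul (Nat.land (Nat.shiftRight v i) 1) (getP 18 M i)) acc) n) =
      fun w => ∑ i ∈ Finset.range n, bitF (v.testBit i) (1 : F) * dec ω (getP 18 M i) w := by
  intro n
  induction n with
  | zero => funext w; simp [dec, bitF]
  | succ k ih =>
    funext w
    show dec ω (Nat.xor _ _) w = _
    rw [dec_xor ω h2, Pi.add_apply, ih, Finset.sum_range_succ, add_comm]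
    congr 1
    show dec ω ((v >>> k &&& 1) * getP 18 M k) w = _
    rw [Nat.and_one_is_mod]
    have hb : v.testBit k = decide ((v >>> k) % 2 = 1) := by
      rw [Nat.testBit_eq_decide_div_mod_eq, Nat.shiftRight_eq_div_pow]
    rw [hb]
    rcases Nat.mod_two_eq_zero_or_one (v >>> k) with e | e <;> simp [e, bitF, dec]

theorem dec_appM {M : ℕ} (hM : validM M = true) (v : ℕ) :
    dec ω (appM M v) = (matOf ω M).mulVec (dec ω v) := by
  funext w
  rw [appM_eq]
  rw [dec_appM_rec ω h2]
  beta_reduce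
  rw [show Finset.range 18 = Finset.range (9 + 9) from rfl, Finset.sum_range_add,
    ← Finset.sum_add_distrib]
  have hb : ∀ i, ∀ c : F, bitF (v.testBit i) (1 : F) * c = bitF (v.testBit i) c := fun i c => by
    cases v.testBit i <;> simp [bitF]
  have key : ∀ z : F9, matOf ω M w z * dec ω v z =
      bitF (v.testBit (idx z)) (1 : F) * dec ω (getP 18 M (idx z)) w +
        bitF (v.testBit (9 + idx z)) (1 : F) * dec ω (getP 18 M (9 + idx z)) w := by
    intro z
    rw [(validM_iff.1 hM).2 _ (idx_lt z), dec_wmul ω h2 hω (getP_lt _ _)]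
    show dec ω (getP 18 M (idx z)) w * dec ω v z = _
    simp only [dec, Pi.smul_apply, smul_eq_mul, mul_add, hb]
    cases v.testBit (idx z) <;> cases v.testBit (9 + idx z) <;> simp [bitF] <;> ring
  show _ = ∑ z, matOf ω M w z * dec ω v z
  simp only [key]
  exact (Finset.sum_bij (fun z _ => idx z) (fun z _ => Finset.mem_range.2 (idx_lt z))
    (fun a _ b _ h => idx_inj h)
    (fun i hi => ⟨(exists_idx i (Finset.mem_range.1 hi)).choose, Finset.mem_univ _,
      (exists_idx i (Finset.mem_range.1 hi)).choose_spec⟩)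
    (fun z _ => rfl)).symm

omit h2 hω in
theorem getP_mulM (A B i : ℕ) (hi : i < 18) : getP 18 (mulM A B) i = appM A (getP 18 B i) := by
  rw [mulM_eq]
  exact getP_packP 18 _ 18 (fun _ _ => lt_of_lt_of_le (appM_lt _ _) (by norm_num)) i hi

theorem validM_mulM {A B : ℕ} (hA : validM A = true) (hB : validM B = true) :
    validM (mulM A B) = true := by
  refine validM_iff.2 ⟨(packP_congr 18 18 fun i hi => getP_mulM A B i hi).trans (mulM_eq A B).symm, fun z hz => ?_⟩
  rw [getP_mulM A B _ (by omega), getP_mulM A B z (by omega), (validM_iff.1 hB).2 z hz]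
  refine dec_inj ω h2 hω (appM_lt _ _) ?_ ?_
  · have h := appM_lt A (getP 18 B z)
    show _ ||| _ < 2 ^ 18
    refine Nat.or_lt_two_pow ?_ ?_
    · show appM A (getP 18 B z) >>> 9 < 2 ^ 18
      rw [Nat.shiftRight_eq_div_pow]; omega
    · show ((appM A (getP 18 B z) &&& 511) ^^^ (appM A (getP 18 B z) >>> 9)) <<< 9 < 2 ^ 18
      have h9 : (appM A (getP 18 B z) &&& 511) ^^^ (appM A (getP 18 B z) >>> 9) < 2 ^ 9 :=
        Nat.xor_lt_two_pow (lt_of_le_of_lt Nat.and_le_right (by norm_num))
          (by rw [Nat.shiftRight_eq_div_pow]; omega)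
      rw [Nat.shiftLeft_eq]; omega
  · rw [dec_wmul ω h2 hω (appM_lt _ _), dec_appM ω h2 hω hA, dec_appM ω h2 hω hA,
      dec_wmul ω h2 hω (getP_lt _ _), Matrix.mulVec_smul]

theorem matOf_mulM {A B : ℕ} (hA : validM A = true) :
    matOf ω (mulM A B) = matOf ω A * matOf ω B := by
  ext w z
  show dec ω (getP 18 (mulM A B) (idx z)) w = _
  rw [getP_mulM A B _ (lt_trans (idx_lt z) (by norm_num)), dec_appM ω h2 hω hA]
  rfl

omit h2 hω in
theorem validM_oneM : validM oneM = true := by decide +kernel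

omit h2 hω in
theorem matOf_oneM : matOf ω oneM = 1 := by
  ext w z
  show dec ω (getP 18 oneM (idx z)) w = _
  have h : getP 18 oneM (idx z) = 1 <<< idx z :=
    getP_packP 18 (fun i => 1 <<< i) 18 (fun i hi => by
      rw [Nat.shiftLeft_eq, one_mul]; exact Nat.pow_lt_pow_right (by norm_num) hi)
      (idx z) (lt_trans (idx_lt z) (by norm_num))
  rw [h, Nat.shiftLeft_eq, one_mul]
  have hw := idx_lt w
  have hz := idx_lt z
  by_cases e : w = z
  · subst e
    simp [dec, bitF]
  · have e' : idx z ≠ idx w := fun q => e (idx_inj q).symm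
    simp [dec, bitF, e', Matrix.one_apply_ne e, show idx z ≠ 9 + idx w by omega]

theorem matOf_inj {A B : ℕ} (hA : validM A = true) (hB : validM B = true)
    (h : matOf ω A = matOf ω B) : A = B := by
  rw [← (validM_iff.1 hA).1, ← (validM_iff.1 hB).1]
  refine packP_congr 18 18 fun i hi => ?_
  have key : ∀ z : F9, getP 18 A (idx z) = getP 18 B (idx z) := fun z =>
    dec_inj ω h2 hω (getP_lt _ _) (getP_lt _ _) (funext fun w => congrFun (congrFun h w) z)
  by_cases h9 : i < 9
  · obtain ⟨z, rfl⟩ := exists_idx i h9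
    exact key z
  · obtain ⟨z, hz⟩ := exists_idx (i - 9) (by omega)
    rw [show i = 9 + idx z by omega, (validM_iff.1 hA).2 _ (idx_lt z),
      (validM_iff.1 hB).2 _ (idx_lt z), key z]

end

end Cfsg.Agent.H44.J3
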