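import Cfsg.Agent.H44.J3.Code

/-!
Checkers for the certificate of the order of 3·J₃: a subgroup H (stabiliser chain on vectors), an
element s, coset representatives of C_H(s) in H and double coset representatives of H.
-/

set_option autoImplicit false

namespace Cfsg.Agent.H44.J3

open Cfsg.Agent.Compute

/-- Data of one double coset representative: matrix, inverse, parent and coset index. -/
structure DRep where
  d : ℕ
  di : ℕ
  par : ℕ
  r : ℕ

/-- Data attached to one representative: stabiliser elements with words, witnesses, links. -/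
structure DData where
  es : List (ℕ × List ℕ)
  wit : List (ℕ × ℕ × ℕ)
  links : List (ℕ × ℕ)

/-- The whole algebraic certificate. -/
structure GCert where
  lvl : Level ℕ
  rest : List (Level ℕ)
  s : ℕ
  reps : List (ℕ × ℕ)
  tabs : List (List ℕ)
  ds : List DRep

noncomputable def GCert.chain (c : GCert) : List (Level ℕ) := c.lvl :: c.rest

noncomputable def GCert.gen (c : GCert) (a : ℕ) : ℕ := (nth (oneM, oneM) c.lvl.gens a).1

noncomputable def GCert.rep (c : GCert) (i : ℕ) : ℕ × ℕ := nth (oneM, oneM) c.reps i

noncomputable def GCert.tab (c : GCert) (a i : ℕ) : ℕ := nth 0 (nth [] c.tabs a) i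

noncomputable def GCert.dr (c : GCert) (j : ℕ) : DRep := nth ⟨oneM, oneM, 0, 0⟩ c.ds j

/-- Product of generators along a word. -/
noncomputable def GCert.word (c : GCert) (w : List ℕ) : ℕ :=
  List.rec oneM (fun a _ ih => mulM (c.gen a) ih) w

/-- Right action of a word on coset indices. -/
noncomputable def GCert.wordAct (c : GCert) (w : List ℕ) : ℕ → ℕ :=
  List.rec (fun i => i) (fun a _ ih i => ih (c.tab a i)) w

/-- Basic checks on `s`, the coset representatives and the double coset representatives. -/
noncomputable def GCert.baseOK (c : GCert) : Bool :=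
  invM c.s c.s && Nat.beq (c.rep 0).1 oneM &&
    lall c.reps (fun p => invM p.1 p.2 && sift mOps c.chain p.1) &&
    allN c.lvl.gens.length (fun a => allN c.reps.length (fun i =>
      Nat.ble (Nat.add (c.tab a i) 1) c.reps.length &&
        (let k := mulM (c.rep i).1 (mulM (c.gen a) (c.rep (c.tab a i)).2)
         sift mOps c.chain k && Nat.beq (mulM k c.s) (mulM c.s k)))) &&
    allN c.ds.length (fun j => invM (c.dr j).d (c.dr j).di &&
      cond (Nat.beq j 0) (Nat.beq (c.dr j).d oneM)
        (Nat.ble (Nat.add (c.dr j).par 1) j && Nat.ble (Nat.add (c.dr j).r 1) c.reps.length &&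
          Nat.beq (c.dr j).d (mulM c.s (mulM (c.rep (c.dr j).r).1 (c.dr (c.dr j).par).d))))

/-- Indices reached by the links from the witnesses. -/
noncomputable def reach (c : GCert) (x : DData) : ℕ :=
  List.rec (fun m => m)
    (fun l _ ih m => ih (cond (Nat.beq (Nat.land (Nat.shiftRight m l.1) 1) 1)
      (Nat.lor m (Nat.shiftLeft 1 (c.wordAct (nth (oneM, []) x.es l.2).2 l.1))) m))
    x.links
    (List.rec 0 (fun w _ ih => Nat.lor (Nat.shiftLeft 1 w.1) ih) x.wit)

/-- Check of the data attached to representative `j`. -/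
noncomputable def GCert.dataOK (c : GCert) (j : ℕ) (x : DData) : Bool :=
  lall x.es (fun e =>
    lall e.2 (fun a => Nat.ble (Nat.add a 1) c.lvl.gens.length) &&
      Nat.beq e.1 (c.word e.2) &&
      sift mOps c.chain (mulM (c.dr j).di (mulM e.1 (c.dr j).d))) &&
    lall x.wit (fun w => Nat.ble (Nat.add w.1 1) c.reps.length &&
      Nat.ble (Nat.add w.2.2 1) c.ds.length && validM w.2.1 && sift mOps c.chain w.2.1 &&
      sift mOps c.chain (mulM (c.dr w.2.2).di
        (mulM w.2.1 (mulM c.s (mulM (c.rep w.1).1 (c.dr j).d))))) &&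
    lall x.links (fun l => Nat.ble (Nat.add l.2 1) x.es.length) &&
    Nat.beq (reach c x) (Nat.sub (Nat.shiftLeft 1 c.reps.length) 1)

/-- A coded matrix with its inverse lies in H·D·H. -/
noncomputable def GCert.inT (c : GCert) (p : (ℕ × ℕ) × ℕ × ℕ) : Bool :=
  invM p.1.1 p.1.2 && validM p.2.1 && Nat.ble (Nat.add p.2.2 1) c.ds.length &&
    sift mOps c.chain p.2.1 &&
    sift mOps c.chain (mulM (c.dr p.2.2).di (mulM p.2.1 p.1.1))

end Cfsg.Agent.H44.J3
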