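import Cfsg.Agent.H44.J3.Sound
import Cfsg.Agent.H44.J3.Defs

/-!
A successful check shows that H·D·H is the subgroup generated by H and `s`.
-/

set_option autoImplicit false

namespace Cfsg.Agent.H44.J3

open Cfsg.Agent.Compute
open Cfsg.Spor (F9)

attribute [local irreducible] validM invM mulM appM oneM wmul sift checkChain

/-- A fully checked algebraic certificate. -/
structure GOK (c : GCert) : Prop where
  chain : checkChain mOps c.chain = true
  base : c.baseOK = true
  npos : 0 < c.reps.length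
  dpos : 0 < c.ds.length
  data : ∀ j < c.ds.length, ∃ x, c.dataOK j x = true

section
variable {F : Type*} [Field F] [Fintype F] {ω : F} (hf : Four F ω) (c : GCert)

/-- The certified subgroup H. -/
noncomputable def hGrp : Subgroup (GL F9 F) := (snd hf).grp c.chain

/-- The element s. -/
noncomputable def sEl : GL F9 F := (snd hf).den c.s

/-- Coset representative. -/
noncomputable def rEl (i : ℕ) : GL F9 F := (snd hf).den (c.rep i).1

/-- Double coset representative. -/
noncomputable def dEl (j : ℕ) : GL F9 F := (snd hf).den (c.dr j).d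

/-- Membership in H·D·H. -/
def InT (g : GL F9 F) : Prop :=
  ∃ h ∈ hGrp hf c, ∃ j < c.ds.length, (dEl hf c j)⁻¹ * h * g ∈ hGrp hf c

include hf in
theorem isUnit_of_sift_aux : ∀ {ls : List (Level ℕ)}, checkChain mOps ls = true →
    ∀ {a : ℕ}, validM a = true → sift mOps ls a = true → IsUnit (matOf ω a) := by
  intro ls
  induction ls with
  | nil =>
    intro _ a _ h
    have h' : mOps.eqv a mOps.one = true := by rw [sift] at h; exact h
    have e : a = oneM := Nat.eq_of_beq_eq_true h'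
    rw [e, matOf_oneM]
    exact isUnit_one
  | cons l t ih =>
    intro hl a ha h
    have F' := checkChain_facts (snd hf) hl
    rw [sift] at h
    cases hb : lfind l.orb (fun e => Nat.beq e.pt (mOps.img a l.base)) with
    | none => simp only [hb] at h; exact absurd h (by simp)
    | some e =>
      simp only [hb] at h
      obtain ⟨-, ov, -, -⟩ := F'.orb_ok e (lfind_some hb).1
      have h' : sift mOps t (mulM e.v a) = true := by rw [sift]; exact h
      have hu := ih (checkChain_tail hl) (validM_mulM ω hf.two hf.root ov.1 ha) h'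
      rw [matOf_mulM ω hf.two hf.root ov.1] at hu
      obtain ⟨u, hu'⟩ := ov.2
      have hu2 := (u⁻¹).isUnit.mul hu
      rwa [← hu', ← mul_assoc, Units.inv_mul, one_mul] at hu2

variable {c} (hc : GOK c)
include hc

include hf in
theorem isUnit_of_sift {a : ℕ} (ha : validM a = true) (h : sift mOps c.chain a = true) :
    IsUnit (matOf ω a) := isUnit_of_sift_aux hf hc.chain ha h

theorem hGrp_finite : Finite (hGrp hf c) :=
  Nat.finite_of_card_ne_zero
    (by rw [hGrp, (checkChain_sound (snd hf) hc.chain).card]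
        exact (checkChain_sound (snd hf) hc.chain).pos.ne')

theorem sift_mem {a : ℕ} (ha : (snd hf).ok a) (h : sift mOps c.chain a = true) :
    (snd hf).den a ∈ hGrp hf c :=
  ((checkChain_sound (snd hf) hc.chain).sift_iff a ha).1 h

theorem gen_ok {a : ℕ} (ha : a < c.lvl.gens.length) :
    (snd hf).ok (c.gen a) ∧ (snd hf).den (c.gen a) ∈ hGrp hf c := by
  have hm : nth (oneM, oneM) c.lvl.gens a ∈ nextGens c.chain := nth_mem _ _ a ha
  exact ⟨(checkChain_sound (snd hf) hc.chain).gens_ok _ hm, gens_mem (snd hf) _ hm⟩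

theorem s_ok : (snd hf).ok c.s ∧ sEl hf c * sEl hf c = 1 := by
  have h := hc.base
  simp only [GCert.baseOK, Bool.and_eq_true] at h
  obtain ⟨a, b, e⟩ := (snd hf).okInv_sound (a := c.s) (b := c.s) h.1.1.1.1
  exact ⟨a, mul_eq_one_iff_eq_inv.2 e⟩

theorem rep_spec {i : ℕ} (hi : i < c.reps.length) :
    (snd hf).ok (c.rep i).1 ∧ (snd hf).ok (c.rep i).2 ∧
      (snd hf).den (c.rep i).2 = (rEl hf c i)⁻¹ ∧ rEl hf c i ∈ hGrp hf c := by
  have h := hc.base
  simp only [GCert.baseOK, Bool.and_eq_true, lall_iff] at h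
  have h' := h.1.1.2 _ (nth_mem (oneM, oneM) c.reps i hi)
  obtain ⟨a, b, e⟩ := (snd hf).okInv_sound (a := (c.rep i).1) (b := (c.rep i).2) h'.1
  exact ⟨a, b, e, sift_mem hf hc a h'.2⟩

theorem rEl_zero : rEl hf c 0 = 1 := by
  have h := hc.base
  simp only [GCert.baseOK, Bool.and_eq_true, Nat.beq_eq] at h
  rw [rEl, h.1.1.1.2]
  exact (snd hf).den_one

theorem tab_spec {a i : ℕ} (ha : a < c.lvl.gens.length) (hi : i < c.reps.length) :
    c.tab a i < c.reps.length ∧ ∃ k ∈ hGrp hf c, Commute k (sEl hf c) ∧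
      rEl hf c i * (snd hf).den (c.gen a) = k * rEl hf c (c.tab a i) := by
  have h := hc.base
  simp only [GCert.baseOK, Bool.and_eq_true, allN_iff, Nat.beq_eq, Nat.ble_eq] at h
  obtain ⟨hj, hs, he⟩ := h.1.2 a ha i hi
  have hj' : c.tab a i < c.reps.length := hj
  obtain ⟨o1, -, -, -⟩ := rep_spec hf hc hi
  obtain ⟨og, -⟩ := gen_ok hf hc ha
  obtain ⟨-, o2, e2, -⟩ := rep_spec hf hc hj'
  have ok' : (snd hf).ok (mulM (c.rep i).1 (mulM (c.gen a) (c.rep (c.tab a i)).2)) :=
    (snd hf).ok_mul o1 ((snd hf).ok_mul og o2)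
  have ek : (snd hf).den (mulM (c.rep i).1 (mulM (c.gen a) (c.rep (c.tab a i)).2)) =
      rEl hf c i * ((snd hf).den (c.gen a) * (rEl hf c (c.tab a i))⁻¹) := by
    show (snd hf).den (mOps.mul _ (mOps.mul _ _)) = _
    rw [(snd hf).den_mul o1 ((snd hf).ok_mul og o2), (snd hf).den_mul og o2, e2]
    rfl
  refine ⟨hj', _, sift_mem hf hc ok' hs, ?_, ?_⟩
  · have := congrArg (snd hf).den he
    rw [show mulM _ c.s = mOps.mul _ c.s from rfl, show mulM c.s _ = mOps.mul c.s _ from rfl,
      (snd hf).den_mul ok' (s_ok hf hc).1, (snd hf).den_mul (s_ok hf hc).1 ok'] at this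
    exact this
  · rw [ek]; group

theorem d_spec {j : ℕ} (hj : j < c.ds.length) :
    (snd hf).ok (c.dr j).d ∧ (snd hf).ok (c.dr j).di ∧
      (snd hf).den (c.dr j).di = (dEl hf c j)⁻¹ ∧
      ((j = 0 ∧ dEl hf c j = 1) ∨ ((c.dr j).par < j ∧ (c.dr j).r < c.reps.length ∧
        dEl hf c j = sEl hf c * (rEl hf c (c.dr j).r * dEl hf c (c.dr j).par))) := by
  have key : ∀ i < c.ds.length, invM (c.dr i).d (c.dr i).di = true ∧
      cond (Nat.beq i 0) (Nat.beq (c.dr i).d oneM)
        (Nat.ble (Nat.add (c.dr i).par 1) i && Nat.ble (Nat.add (c.dr i).r 1) c.reps.length &&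
          Nat.beq (c.dr i).d
            (mulM c.s (mulM (c.rep (c.dr i).r).1 (c.dr (c.dr i).par).d))) = true := by
    have h := hc.base
    simp only [GCert.baseOK, Bool.and_eq_true, allN_iff] at h
    exact h.2
  obtain ⟨hinv, hcond⟩ := key j hj
  obtain ⟨a, b, e⟩ := (snd hf).okInv_sound (a := (c.dr j).d) (b := (c.dr j).di) hinv
  refine ⟨a, b, e, ?_⟩
  rcases Nat.eq_zero_or_pos j with h0 | h0
  · rw [show Nat.beq j 0 = true by simp [h0], cond_true, Nat.beq_eq] at hcond
    exact Or.inl ⟨h0, by rw [dEl, hcond]; exact (snd hf).den_one⟩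
  · rw [show Nat.beq j 0 = false by rw [Bool.eq_false_iff, Ne, Nat.beq_eq]; omega, cond_false,
      Bool.and_eq_true, Bool.and_eq_true, Nat.ble_eq, Nat.ble_eq, Nat.beq_eq] at hcond
    obtain ⟨⟨hp, hr⟩, he⟩ := hcond
    have hp' : (c.dr j).par < j := hp
    have hr' : (c.dr j).r < c.reps.length := hr
    obtain ⟨o1, -, -, -⟩ := rep_spec hf hc hr'
    obtain ⟨o2, -⟩ := (snd hf).okInv_sound (a := (c.dr (c.dr j).par).d)
      (b := (c.dr (c.dr j).par).di) (key _ (by omega)).1
    refine Or.inr ⟨hp', hr', ?_⟩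
    rw [dEl, he, show mulM c.s _ = mOps.mul c.s _ from rfl,
      show mulM (c.rep (c.dr j).r).1 _ = mOps.mul (c.rep (c.dr j).r).1 _ from rfl,
      (snd hf).den_mul (s_ok hf hc).1 ((snd hf).ok_mul o1 o2), (snd hf).den_mul o1 o2]
    rfl

theorem dEl_zero : dEl hf c 0 = 1 := by
  rcases (d_spec hf hc hc.dpos).2.2.2 with ⟨-, h⟩ | ⟨h, -⟩
  · exact h
  · omega

theorem inT_one : InT hf c 1 :=
  ⟨1, one_mem _, 0, hc.dpos, by rw [dEl_zero hf hc]; simp⟩

theorem inT_left {k g : GL F9 F} (hk : k ∈ hGrp hf c) : InT hf c g → InT hf c (k * g) := by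
  rintro ⟨h, hh, j, hj, hm⟩
  exact ⟨h * k⁻¹, Subgroup.mul_mem _ hh (Subgroup.inv_mem _ hk), j, hj,
    by simpa [mul_assoc] using hm⟩

theorem inT_right {k g : GL F9 F} (hk : k ∈ hGrp hf c) : InT hf c g → InT hf c (g * k) := by
  rintro ⟨h, hh, j, hj, hm⟩
  exact ⟨h, hh, j, hj, by simpa [mul_assoc] using Subgroup.mul_mem _ hm hk⟩

/-- Right cosets of the centraliser of s in H. -/
theorem coset_cover {h : GL F9 F} (hh : h ∈ hGrp hf c) :
    ∃ i < c.reps.length, ∃ k ∈ hGrp hf c, Commute k (sEl hf c) ∧ h = k * rEl hf c i := by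
  let X : Set (GL F9 F) :=
    {g | ∃ i < c.reps.length, ∃ k ∈ hGrp hf c, Commute k (sEl hf c) ∧ g = k * rEl hf c i}
  have := hGrp_finite hf hc
  have hX : X.Finite := (Set.toFinite (hGrp hf c : Set (GL F9 F))).subset fun g hg => by
    obtain ⟨i, hi, k, hk, -, rfl⟩ := hg
    exact Subgroup.mul_mem _ hk (rep_spec hf hc hi).2.2.2
  have h1 : ∀ x ∈ X, x * h ∈ X := by
    refine Subgroup.closure_induction (p := fun y _ => ∀ x ∈ X, x * y ∈ X) ?_ (by simp) ?_ ?_ hh
    · rintro _ ⟨a, ⟨g, hg, rfl⟩, rfl⟩ x ⟨i, hi, k, hk, hkc, rfl⟩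
      obtain ⟨n, hn, rfl⟩ := List.getElem_of_mem (show g ∈ c.lvl.gens from hg)
      have e : c.lvl.gens[n].1 = c.gen n := by rw [GCert.gen, nth_eq_getElem _ _ _ hn]
      obtain ⟨hj, k', hk', hkc', he⟩ := tab_spec hf hc hn hi
      exact ⟨_, hj, k * k', Subgroup.mul_mem _ hk hk', hkc.mul_left hkc', by
        rw [e, mul_assoc, he, ← mul_assoc]⟩
    · intro a b _ _ ha hb x hx; rw [← mul_assoc]; exact hb _ (ha x hx)
    · intro a _ ha x hx
      have himg : (fun y => y * a) '' X = X :=
        Set.eq_of_subset_of_ncard_le (by rintro _ ⟨y, hy, rfl⟩; exact ha y hy)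
          (Set.ncard_image_of_injective X (mul_left_injective a)).ge hX
      rw [← himg] at hx
      obtain ⟨y, hy, rfl⟩ := hx
      simpa using hy
  have h0 : (1 : GL F9 F) ∈ X :=
    ⟨0, hc.npos, 1, one_mem _, Commute.one_left _, by rw [rEl_zero hf hc, one_mul]⟩
  simpa [X] using h1 1 h0

theorem word_spec : ∀ (w : List ℕ), (∀ a ∈ w, a < c.lvl.gens.length) →
    ((snd hf).ok (c.word w) ∧ (snd hf).den (c.word w) ∈ hGrp hf c) ∧
    ∀ i < c.reps.length, c.wordAct w i < c.reps.length ∧
      ∃ k ∈ hGrp hf c, Commute k (sEl hf c) ∧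
        rEl hf c i * (snd hf).den (c.word w) = k * rEl hf c (c.wordAct w i) := by
  intro w
  induction w with
  | nil =>
    intro _
    have e : (snd hf).den (c.word []) = 1 := (snd hf).den_one
    exact ⟨⟨(snd hf).ok_one, by rw [e]; exact one_mem _⟩,
      fun i hi => ⟨hi, 1, one_mem _, Commute.one_left _, by rw [e, mul_one, one_mul]; rfl⟩⟩
  | cons a t ih =>
    intro h
    obtain ⟨⟨ot, mt⟩, ht⟩ := ih fun b hb => h b (List.mem_cons_of_mem _ hb)
    obtain ⟨oa, ma⟩ := gen_ok hf hc (h a List.mem_cons_self)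
    have e : (snd hf).den (c.word (a :: t)) = (snd hf).den (c.gen a) * (snd hf).den (c.word t) :=
      (snd hf).den_mul oa ot
    refine ⟨⟨(snd hf).ok_mul oa ot, by rw [e]; exact Subgroup.mul_mem _ ma mt⟩, fun i hi => ?_⟩
    obtain ⟨hj, k, hk, hkc, he⟩ := tab_spec hf hc (h a List.mem_cons_self) hi
    obtain ⟨hj', k', hk', hkc', he'⟩ := ht _ hj
    refine ⟨hj', k * k', Subgroup.mul_mem _ hk hk', hkc.mul_left hkc', ?_⟩
    show rEl hf c i * _ = k * k' * rEl hf c (c.wordAct t (c.tab a i))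
    rw [e, ← mul_assoc, he, mul_assoc, he', mul_assoc]

theorem inT_rep {j : ℕ} (hj : j < c.ds.length) {i : ℕ} (hi : i < c.reps.length) :
    InT hf c (sEl hf c * rEl hf c i * dEl hf c j) := by
  obtain ⟨x, hx⟩ := hc.data j hj
  simp only [GCert.dataOK, Bool.and_eq_true, lall_iff, Nat.ble_eq, Nat.beq_eq] at hx
  obtain ⟨⟨⟨hes, hwit⟩, hlinks⟩, hreach⟩ := hx
  obtain ⟨od, odi, edi, -⟩ := d_spec hf hc hj
  let P : ℕ → Prop := fun i => i < c.reps.length ∧ InT hf c (sEl hf c * rEl hf c i * dEl hf c j)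
  have init : ∀ (l : List (ℕ × ℕ × ℕ)), (∀ w ∈ l, P w.1) →
      ∀ n, (List.rec (motive := fun _ => ℕ) 0
        (fun w _ ih => Nat.lor (Nat.shiftLeft 1 w.1) ih) l).testBit n = true → P n := by
    intro l
    induction l with
    | nil => intro _ n hn; simp at hn
    | cons w t ih =>
      intro h n hn
      change (1 <<< w.1 ||| _).testBit n = true at hn
      rw [Nat.testBit_or, Bool.or_eq_true, Nat.shiftLeft_eq, one_mul, Nat.testBit_two_pow,
        decide_eq_true_eq] at hn
      rcases hn with rfl | hn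
      · exact h w List.mem_cons_self
      · exact ih (fun w' hw => h w' (List.mem_cons_of_mem _ hw)) n hn
  have step : ∀ (l : List (ℕ × ℕ)), (∀ p ∈ l, p.2 < x.es.length) → ∀ m : ℕ,
      (∀ n, m.testBit n = true → P n) →
      ∀ n, ((List.rec (motive := fun _ => ℕ → ℕ) (fun m => m)
        (fun l _ ih m => ih (cond (Nat.beq (Nat.land (Nat.shiftRight m l.1) 1) 1)
          (Nat.lor m (Nat.shiftLeft 1 (c.wordAct (nth (oneM, []) x.es l.2).2 l.1))) m))
        l) m).testBit n = true → P n := by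
    intro l
    induction l with
    | nil => intro _ m hm n hn; exact hm n hn
    | cons p t ih =>
      intro h m hm
      refine ih (fun q hq => h q (List.mem_cons_of_mem _ hq)) _ ?_
      cases hb : Nat.beq (Nat.land (Nat.shiftRight m p.1) 1) 1 with
      | false => simpa using hm
      | true =>
        intro n hn
        rw [cond_true] at hn
        change (m ||| 1 <<< _).testBit n = true at hn
        rw [Nat.testBit_or, Bool.or_eq_true, Nat.shiftLeft_eq, one_mul, Nat.testBit_two_pow,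
          decide_eq_true_eq] at hn
        rcases hn with hn | rfl
        · exact hm n hn
        · have hbit : m.testBit p.1 = true := by
            rw [Nat.beq_eq] at hb
            have hb' : (m >>> p.1) &&& 1 = 1 := hb
            rw [Nat.testBit, Nat.one_and_eq_mod_two, bne_iff_ne]
            rw [Nat.and_one_is_mod] at hb'
            omega
          obtain ⟨hip, hT⟩ := hm _ hbit
          have he : nth (oneM, []) x.es p.2 ∈ x.es := nth_mem _ _ _ (h p List.mem_cons_self)
          obtain ⟨⟨hw, hew⟩, hsift⟩ := hes _ he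
          obtain ⟨⟨ow, mw⟩, hact⟩ := word_spec hf hc (nth (oneM, []) x.es p.2).2 hw
          obtain ⟨hj', k, hk, hkc, hke⟩ := hact _ hip
          refine ⟨hj', ?_⟩
          rw [hew] at hsift
          have oconj : (snd hf).ok (mulM (c.dr j).di (mulM (c.word (nth (oneM, []) x.es p.2).2)
              (c.dr j).d)) := (snd hf).ok_mul odi ((snd hf).ok_mul ow od)
          have mconj := sift_mem hf hc oconj hsift
          rw [show mulM (c.dr j).di (mulM (c.word (nth (oneM, []) x.es p.2).2) (c.dr j).d) =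
              mOps.mul (c.dr j).di (mOps.mul (c.word (nth (oneM, []) x.es p.2).2) (c.dr j).d)
              from rfl, (snd hf).den_mul odi ((snd hf).ok_mul ow od),
            (snd hf).den_mul ow od, edi] at mconj
          have e1 : sEl hf c * rEl hf c (c.wordAct (nth (oneM, []) x.es p.2).2 p.1) * dEl hf c j =
              k⁻¹ * ((sEl hf c * rEl hf c p.1 * dEl hf c j) * ((dEl hf c j)⁻¹ *
                ((snd hf).den (c.word (nth (oneM, []) x.es p.2).2) *
                  (snd hf).den (c.dr j).d))) := by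
            rw [show (snd hf).den (c.dr j).d = dEl hf c j from rfl]
            have hk1 : k⁻¹ * sEl hf c = sEl hf c * k⁻¹ := hkc.inv_left.eq
            calc sEl hf c * rEl hf c (c.wordAct (nth (oneM, []) x.es p.2).2 p.1) * dEl hf c j
                = sEl hf c * k⁻¹ * (k * rEl hf c (c.wordAct (nth (oneM, []) x.es p.2).2 p.1)) *
                  dEl hf c j := by group
              _ = k⁻¹ * sEl hf c * (rEl hf c p.1 *
                  (snd hf).den (c.word (nth (oneM, []) x.es p.2).2)) * dEl hf c j := by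
                rw [hke, hk1]
              _ = _ := by group
          rw [e1]
          exact inT_left hf hc (Subgroup.inv_mem _ hk) (inT_right hf hc mconj hT)
  have hwitP : ∀ w ∈ x.wit, P w.1 := by
    intro w hw
    obtain ⟨⟨⟨⟨hw1, hw2⟩, hv⟩, hs1⟩, hs2⟩ := hwit w hw
    have hw1' : w.1 < c.reps.length := hw1
    have hw2' : w.2.2 < c.ds.length := hw2
    obtain ⟨or', -, -, -⟩ := rep_spec hf hc hw1'
    obtain ⟨-, odi', edi', -⟩ := d_spec hf hc hw2'
    have ohi : (snd hf).ok w.2.1 := by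
      refine ⟨hv, ?_⟩
      exact isUnit_of_sift hf hc hv hs1
    have osr := (snd hf).ok_mul (s_ok hf hc).1 ((snd hf).ok_mul or' od)
    have m2 := sift_mem hf hc ((snd hf).ok_mul odi' ((snd hf).ok_mul ohi osr)) hs2
    rw [(snd hf).den_mul odi' ((snd hf).ok_mul ohi osr), (snd hf).den_mul ohi osr,
      (snd hf).den_mul (s_ok hf hc).1 ((snd hf).ok_mul or' od), (snd hf).den_mul or' od, edi']
      at m2
    refine ⟨hw1', (snd hf).den w.2.1, sift_mem hf hc ohi hs1, w.2.2, hw2', ?_⟩
    simpa [sEl, rEl, dEl, mul_assoc] using m2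
  have full := step x.links hlinks _ (init x.wit hwitP) i
  have e : (List.rec (motive := fun _ => ℕ → ℕ) (fun m => m)
        (fun l _ ih m => ih (cond (Nat.beq (Nat.land (Nat.shiftRight m l.1) 1) 1)
          (Nat.lor m (Nat.shiftLeft 1 (c.wordAct (nth (oneM, []) x.es l.2).2 l.1))) m))
        x.links) (List.rec (motive := fun _ => ℕ) 0
          (fun w _ ih => Nat.lor (Nat.shiftLeft 1 w.1) ih) x.wit) =
      2 ^ c.reps.length - 1 := by
    rw [show (2 : ℕ) ^ c.reps.length = 1 <<< c.reps.length by rw [Nat.shiftLeft_eq, one_mul]]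
    exact hreach
  exact (full (by rw [e, Nat.testBit_two_pow_sub_one]; simpa using hi)).2

theorem inT_s {g : GL F9 F} (hg : InT hf c g) : InT hf c (sEl hf c * g) := by
  obtain ⟨h, hh, j, hj, hm⟩ := hg
  obtain ⟨i, hi, k, hk, hkc, he⟩ := coset_cover hf hc (Subgroup.inv_mem _ hh)
  have e : sEl hf c * g = k * (sEl hf c * rEl hf c i * dEl hf c j) *
      ((dEl hf c j)⁻¹ * h * g) := by
    have h1 : k * sEl hf c = sEl hf c * k := hkc.eq
    calc sEl hf c * g = sEl hf c * h⁻¹ * (h * g) := by group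
      _ = sEl hf c * k * rEl hf c i * (h * g) := by rw [he]; group
      _ = _ := by rw [← h1]; group
  rw [e]
  exact inT_right hf hc hm (inT_left hf hc hk (inT_rep hf hc hj hi))

theorem dEl_mem : ∀ j < c.ds.length,
    dEl hf c j ∈ Subgroup.closure ((hGrp hf c : Set (GL F9 F)) ∪ {sEl hf c}) := by
  intro j
  induction j using Nat.strong_induction_on with
  | _ j ih =>
    intro hj
    rcases (d_spec hf hc hj).2.2.2 with ⟨-, e⟩ | ⟨hp, hr, e⟩
    · rw [e]; exact one_mem _
    · rw [e]
      exact Subgroup.mul_mem _ (Subgroup.subset_closure (Or.inr rfl)) (Subgroup.mul_mem _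
        (Subgroup.subset_closure (Or.inl (rep_spec hf hc hr).2.2.2)) (ih _ hp (by omega)))

/-- The main conclusion. -/
theorem mem_closure_iff (g : GL F9 F) :
    g ∈ Subgroup.closure ((hGrp hf c : Set (GL F9 F)) ∪ {sEl hf c}) ↔ InT hf c g := by
  constructor
  · intro hg
    have := hGrp_finite hf hc
    let T : Set (GL F9 F) := {x | InT hf c x}
    have hT : T.Finite := by
      refine (Set.finite_range fun p : hGrp hf c × Fin c.ds.length × hGrp hf c =>
        (p.1 : GL F9 F)⁻¹ * dEl hf c p.2.1 * p.2.2).subset ?_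
      rintro x ⟨h, hh, j, hj, hm⟩
      exact ⟨⟨⟨h, hh⟩, ⟨j, hj⟩, ⟨_, hm⟩⟩, by group⟩
    have h1 : ∀ x ∈ T, g * x ∈ T := by
      refine Subgroup.closure_induction (p := fun y _ => ∀ x ∈ T, y * x ∈ T) ?_ (by simp) ?_ ?_ hg
      · rintro y (hy | hy) x hx
        · exact inT_left hf hc hy hx
        · rw [Set.mem_singleton_iff.1 hy]; exact inT_s hf hc hx
      · intro a b _ _ ha hb x hx; rw [mul_assoc]; exact ha _ (hb x hx)
      · intro a _ ha x hx
        have himg : (fun y => a * y) '' T = T :=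
          Set.eq_of_subset_of_ncard_le (by rintro _ ⟨y, hy, rfl⟩; exact ha y hy)
            (Set.ncard_image_of_injective T (mul_right_injective a)).ge hT
        rw [← himg] at hx
        obtain ⟨y, hy, rfl⟩ := hx
        simpa using hy
    simpa [T] using h1 1 (inT_one hf hc)
  · rintro ⟨h, hh, j, hj, hm⟩
    have e : g = h⁻¹ * dEl hf c j * ((dEl hf c j)⁻¹ * h * g) := by group
    rw [e]
    exact Subgroup.mul_mem _ (Subgroup.mul_mem _
      (Subgroup.inv_mem _ (Subgroup.subset_closure (Or.inl hh))) (dEl_mem hf hc j hj))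
      (Subgroup.subset_closure (Or.inl hm))

theorem inT_sound {p : (ℕ × ℕ) × ℕ × ℕ} (h : c.inT p = true) :
    (snd hf).ok p.1.1 ∧ InT hf c ((snd hf).den p.1.1) := by
  simp only [GCert.inT, Bool.and_eq_true, Nat.ble_eq] at h
  obtain ⟨⟨⟨⟨hi, hv⟩, hj⟩, h1⟩, h2⟩ := h
  have hj' : p.2.2 < c.ds.length := hj
  obtain ⟨og, -, -⟩ := (snd hf).okInv_sound (a := p.1.1) (b := p.1.2) hi
  obtain ⟨-, odi, edi, -⟩ := d_spec hf hc hj'
  have ohi : (snd hf).ok p.2.1 := ⟨hv, isUnit_of_sift hf hc hv h1⟩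
  have m := sift_mem hf hc ((snd hf).ok_mul odi ((snd hf).ok_mul ohi og)) h2
  rw [(snd hf).den_mul odi ((snd hf).ok_mul ohi og), (snd hf).den_mul ohi og, edi, ← mul_assoc]
    at m
  exact ⟨og, _, sift_mem hf hc ohi h1, _, hj', m⟩

end

end Cfsg.Agent.H44.J3
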