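import Cfsg.Agent.H44.J3.Sound

/-!
A concrete field with four elements and a cube root of unity.
-/

set_option autoImplicit false

namespace Cfsg.Agent.H44.J3

theorem exists_four : ∃ (F : Type) (_ : Field F) (_ : Fintype F) (ω : F), Four F ω := by
  classical
  let F := GaloisField 2 2
  have _i : Fintype F := Fintype.ofFinite F
  have hc : Fintype.card F = 4 := by
    rw [← Nat.card_eq_fintype_card, GaloisField.card 2 2 (by norm_num)]; norm_num
  obtain ⟨w, hw0, hw1⟩ : ∃ w : F, w ≠ 0 ∧ w ≠ 1 := by
    by_contra h
    push Not at h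
    have hsub : (Finset.univ : Finset F) ⊆ {0, 1} := fun x _ => by
      by_cases hx : x = 0
      · simp [hx]
      · simp [h x hx]
    have := Finset.card_le_card hsub
    rw [Finset.card_univ, hc] at this
    have h2 := Finset.card_insert_le (0 : F) ({1} : Finset F)
    rw [Finset.card_singleton] at h2
    omega
  refine ⟨F, inferInstance, _i, w, hc, ?_⟩
  have h3 : w ^ 3 = 1 := by
    have := FiniteField.pow_card_sub_one_eq_one w hw0
    rwa [hc] at this
  have hz : (w - 1) * (w ^ 2 + w + 1) = 0 := by linear_combination h3
  exact (mul_eq_zero.1 hz).resolve_left (sub_ne_zero.2 hw1)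

end Cfsg.Agent.H44.J3
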