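import Cfsg.Agent.H44.J3.FusionGL
import Cfsg.Agent.H89.SimpleTools

/-!
The 2-fusion system of J₃ is simple.
-/

set_option autoImplicit false

namespace Cfsg.Agent.H44.J3

open Cfsg Cfsg.FusionSystem Cfsg.Agent.FusionSys Cfsg.Agent.H89
open Cfsg.Spor (F9)

attribute [local irreducible] sGrp qGrp zEl tEl scEl lineStab nGrp

section
variable {F : Type} [Field F] [Fintype F] {ω : F} (hf : Four F ω)
include hf

theorem two_scalar {u z : GL F9 F} (hz : z ∈ Subgroup.zpowers (scEl hf)) (hu : u ^ 128 = 1)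
    (huz : (u * z) ^ 128 = 1) : z = 1 := by
  obtain ⟨k, rfl⟩ := hz
  have h3 : (scEl hf ^ k) ^ 3 = 1 := by
    show (scEl hf ^ k) ^ 3 = 1
    rw [← zpow_natCast, ← zpow_mul, mul_comm, zpow_mul, zpow_natCast, scEl_pow_three hf, one_zpow]
  have hc : Commute u (scEl hf ^ k) := ((scEl_central hf u).zpow_left k).symm
  rw [hc.mul_pow, hu, one_mul] at huz
  have h : (scEl hf ^ k) ^ 128 = ((scEl hf ^ k) ^ 3) ^ 42 * (scEl hf ^ k) ^ 2 := by
    rw [← pow_mul, ← pow_add]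
  rw [h, h3, one_pow, one_mul] at huz
  show scEl hf ^ k = 1
  rw [pow_succ, huz, one_mul] at h3
  exact h3

theorem sGrp_pow {u : GL F9 F} (hu : u ∈ sGrp hf) : u ^ 128 = 1 := by
  have h : (⟨u, hu⟩ : sGrp hf) ^ Nat.card (sGrp hf) = 1 := pow_card_eq_one'
  rw [card_sGrp hf] at h
  exact congrArg Subtype.val h

theorem main {G : Type*} [Group G] [Finite G] (π : Cfsg.Spor.threeJ3 F ω →* G)
    (hπ : Function.Surjective π)
    (hker : ∀ z, π z = 1 ↔ (z : GL F9 F) ∈ Subgroup.zpowers (scEl hf)) (S : Sylow 2 G)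
    (hS : (S : Subgroup G) = ((sGrp hf).subgroupOf (Cfsg.Spor.threeJ3 F ω)).map π) :
    (groupFusionSystem (S : Subgroup G)).IsSimple 2 := by
  classical
  have hπS : ∀ u : Cfsg.Spor.threeJ3 F ω, (u : GL F9 F) ∈ sGrp hf → π u ∈ (S : Subgroup G) :=
    fun u hu => hS ▸ Subgroup.mem_map_of_mem π (Subgroup.mem_subgroupOf.2 hu)
  have hlift : ∀ s ∈ (S : Subgroup G), ∃ u : Cfsg.Spor.threeJ3 F ω,
      (u : GL F9 F) ∈ sGrp hf ∧ π u = s := by
    intro s hs
    rw [hS] at hs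
    obtain ⟨u, hu, rfl⟩ := hs
    exact ⟨u, hu, rfl⟩
  have hinj : ∀ u : Cfsg.Spor.threeJ3 F ω, (u : GL F9 F) ∈ sGrp hf → π u = 1 → u = 1 := by
    intro u hu h
    refine Subtype.ext (two_scalar hf ((hker u).1 h) (one_pow 128) ?_)
    rw [one_mul]
    exact sGrp_pow hf hu
  have hcomm : ∀ u v : Cfsg.Spor.threeJ3 F ω, (u : GL F9 F) ∈ sGrp hf → (v : GL F9 F) ∈ sGrp hf →
      π u * π v = π v * π u → Commute (u : GL F9 F) (v : GL F9 F) := by
    intro u v hu hv h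
    have h1 : u * v * (v * u)⁻¹ = 1 := hinj _
      (mul_mem (mul_mem hu hv) (inv_mem (mul_mem hv hu))) (by
        simp only [map_mul, map_inv, h]; group)
    exact congrArg Subtype.val (mul_inv_eq_one.1 h1)
  obtain ⟨hzS, hz1, -, hzcen⟩ := z_facts hf
  obtain ⟨hqs, hqn, hqc⟩ := q_facts hf
  set zz : Cfsg.Spor.threeJ3 F ω := ⟨zEl hf, sGrp_le hf hzS⟩ with hzz
  have hord : ∀ x : G, (∃ e, x ^ (2 ^ e) = 1) → ∃ k, orderOf x = 2 ^ k := by
    rintro x ⟨e, he⟩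
    obtain ⟨k, -, hk⟩ := (Nat.dvd_prime_pow Nat.prime_two).1 (orderOf_dvd_of_pow_eq_one he)
    exact ⟨k, hk⟩
  refine isSimple_of_criterion S (isSaturated_group S) ?_ ?_ ?_
  · intro hbot
    exact hz1 (congrArg Subtype.val
      (hinj zz hzS (Subgroup.mem_bot.1 (hbot ▸ hπS zz hzS))))
  · intro T hT
    by_cases hne : T = ⊥
    · exact Or.inl hne
    refine Or.inr (le_antisymm hT.1 ?_)
    obtain ⟨c, hcT, hc1, hcc⟩ := exists_central_mem S hT hne
    obtain ⟨u, hu, rfl⟩ := hlift c (hT.1 hcT)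
    have hu' : (u : GL F9 F) = 1 ∨ (u : GL F9 F) = zEl hf := hzcen _ hu fun s hs =>
      hcomm u ⟨s, sGrp_le hf hs⟩ hu hs (hcc _ (hπS ⟨s, sGrp_le hf hs⟩ hs)).symm
    have hzT : π zz ∈ T := by
      rcases hu' with h | h
      · exact absurd (by rw [show u = 1 from Subtype.ext h, map_one]) hc1
      · rwa [show zz = u from Subtype.ext h.symm]
    have hle : sGrp hf ≤ (T.comap π).map (Cfsg.Spor.threeJ3 F ω).subtype := by
      refine le_trans (sGrp_le_conj hf) ((Subgroup.closure_le _).2 ?_)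
      rintro x ⟨hx, g, hg, rfl⟩
      refine ⟨⟨g, hg⟩ * zz * ⟨g, hg⟩⁻¹, ?_, rfl⟩
      show π (⟨g, hg⟩ * zz * ⟨g, hg⟩⁻¹) ∈ T
      rw [map_mul, map_mul, map_inv]
      refine mem_of_conj_mem hT hzT ?_
      rw [← map_inv, ← map_mul, ← map_mul]
      exact hπS _ hx
    intro s hs
    obtain ⟨v, hv, rfl⟩ := hlift s hs
    obtain ⟨w, hw, e⟩ := hle hv
    rwa [show w = v from Subtype.ext e] at hw
  · set R : Subgroup G := ((qGrp hf).subgroupOf (Cfsg.Spor.threeJ3 F ω)).map π with hR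
    have hnR : ∀ g : Cfsg.Spor.threeJ3 F ω,
        (∀ y ∈ qGrp hf, (g : GL F9 F) * y * (g : GL F9 F)⁻¹ ∈ qGrp hf) →
        π g ∈ Subgroup.normalizer (R : Set G) := by
      intro g hg
      refine mem_normalizer_of_maps ?_
      rintro _ ⟨u, hu, rfl⟩
      rw [← map_inv, ← map_mul, ← map_mul]
      exact Subgroup.mem_map_of_mem π (Subgroup.mem_subgroupOf.2 (hg u hu))
    have hRS : R ≤ (S : Subgroup G) := by
      rintro _ ⟨u, hu, rfl⟩
      exact hπS u (hqs hu)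
    have hnS : (S : Subgroup G) ≤ Subgroup.normalizer (R : Set G) := by
      intro s hs
      obtain ⟨v, hv, rfl⟩ := hlift s hs
      exact hnR v (hqn _ hv)
    have hcR : centralizerIn (S : Subgroup G) R ≤ R := by
      intro x hx
      obtain ⟨hxS, hxc⟩ := FusionSys.mem_centralizerIn.1 hx
      obtain ⟨u, hu, rfl⟩ := hlift x hxS
      refine Subgroup.mem_map_of_mem π (Subgroup.mem_subgroupOf.2 (hqc _ hu fun y hy => ?_))
      exact hcomm u ⟨y, qGrp_le hf hy⟩ hu (hqs hy)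
        (hxc _ (Subgroup.mem_map_of_mem π (x := ⟨y, qGrp_le hf hy⟩) (Subgroup.mem_subgroupOf.2 hy))).symm
    have hgen : Subgroup.closure ((sGrp hf : Set (GL F9 F)) ∪ {tEl hf, scEl hf}) ≤
        ((pElementsOfNormalizer 2 R).comap π).map (Cfsg.Spor.threeJ3 F ω).subtype := by
      have h2 : ∀ g : Cfsg.Spor.threeJ3 F ω, (∃ e, (g : GL F9 F) ^ (2 ^ e) = 1) →
          (∀ y ∈ qGrp hf, (g : GL F9 F) * y * (g : GL F9 F)⁻¹ ∈ qGrp hf) →
          π g ∈ pElementsOfNormalizer 2 R := by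
        rintro g ⟨e, he⟩ hg
        refine Subgroup.subset_closure ⟨hnR g hg, hord _ ⟨e, ?_⟩⟩
        rw [← map_pow, show g ^ 2 ^ e = 1 from Subtype.ext (by rw [SubmonoidClass.coe_pow, he]; rfl),
          map_one]
      refine (Subgroup.closure_le _).2 ?_
      rintro x (hx | rfl | rfl)
      · exact ⟨⟨x, sGrp_le hf hx⟩, h2 _ ⟨7, sGrp_pow hf hx⟩ (hqn x hx), rfl⟩
      · obtain ⟨a, ha, b, hb, hab, ha8, hb8, han, hbn⟩ := t_facts hf
        refine ⟨⟨a, ha⟩ * ⟨b, hb⟩, ?_, hab⟩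
        show π (⟨a, ha⟩ * ⟨b, hb⟩) ∈ pElementsOfNormalizer 2 R
        rw [map_mul]
        exact mul_mem (h2 ⟨a, ha⟩ ⟨3, ha8⟩ han) (h2 ⟨b, hb⟩ ⟨3, hb8⟩ hbn)
      · refine ⟨⟨scEl hf, scEl_mem hf⟩, ?_, rfl⟩
        show π ⟨scEl hf, scEl_mem hf⟩ ∈ pElementsOfNormalizer 2 R
        rw [(hker _).2 (Subgroup.mem_zpowers _)]
        exact one_mem _
    intro α hα
    obtain ⟨x, -, hxn, rfl⟩ := mem_autInducedBy.1 hα
    obtain ⟨g, rfl⟩ := hπ x
    have hgS : ∀ y ∈ sGrp hf, (g : GL F9 F) * y * (g : GL F9 F)⁻¹ ∈ sGrp hf := by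
      intro y hy
      set u : Cfsg.Spor.threeJ3 F ω := ⟨y, sGrp_le hf hy⟩ with hu
      have h1 : π (g * u * g⁻¹) ∈ (S : Subgroup G) := by
        rw [map_mul, map_mul, map_inv]
        exact (Subgroup.mem_normalizer_iff.1 hxn (π u)).1 (hπS u hy)
      obtain ⟨v, hv, hve⟩ := hlift _ h1
      have hz : ((v⁻¹ * (g * u * g⁻¹) : Cfsg.Spor.threeJ3 F ω) : GL F9 F) ∈
          Subgroup.zpowers (scEl hf) := (hker _).1 (by rw [map_mul, map_inv, hve]; group)
      have hz1 := two_scalar hf hz (sGrp_pow hf hv) (by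
        rw [← Subgroup.coe_mul, mul_inv_cancel_left]
        show ((g : GL F9 F) * y * (g : GL F9 F)⁻¹) ^ 128 = 1
        rw [conj_pow, sGrp_pow hf hy]
        group)
      have e : v = g * u * g⁻¹ := inv_mul_eq_one.1 (Subtype.ext hz1)
      rwa [show (v : GL F9 F) = (g : GL F9 F) * y * (g : GL F9 F)⁻¹ from congrArg Subtype.val e] at hv
    obtain ⟨w, hw, e⟩ := hgen (normalizer_sGrp hf g.2 hgS)
    rw [show w = g from Subtype.ext e] at hw
    exact (le_iSup₂ (f := fun R _ => autInducedBy (pElementsOfNormalizer 2 R) (S : Subgroup G)) R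
      ⟨isFullyNormalized_of_le_normalizer S hRS hnS, isCentric_of_le_normalizer S hRS hnS hcR⟩)
      (mem_autInducedBy.2 ⟨π g, hw, hxn, rfl⟩)

end

theorem two_fusion_simple {G : Type*} [Group G] [Finite G] (hG : Cfsg.Spor.IsoJ3 G)
    (S : Sylow 2 G) : (groupFusionSystem (S : Subgroup G)).IsSimple 2 := by
  classical
  obtain ⟨F, iF, iT, ω, h4, hω, ⟨e⟩⟩ := hG
  have hf : Four F ω := ⟨h4, hω⟩
  let π₀ : Cfsg.Spor.threeJ3 F ω →* G :=
    e.symm.toMonoidHom.comp (QuotientGroup.mk' (Subgroup.center (Cfsg.Spor.threeJ3 F ω)))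
  have hπ₀ : Function.Surjective π₀ := e.symm.surjective.comp (QuotientGroup.mk'_surjective _)
  have hk₀ : ∀ z, π₀ z = 1 ↔ (z : GL F9 F) ∈ Subgroup.zpowers (scEl hf) := fun z => by
    rw [← mk_eq_one_iff hf]
    exact map_eq_one_iff e.symm.toMonoidHom e.symm.injective
  set P : Subgroup G := ((sGrp hf).subgroupOf (Cfsg.Spor.threeJ3 F ω)).map π₀ with hP
  have hPcard : Nat.card P = 128 := by
    rw [← card_sGrp hf, ← Nat.card_congr (Subgroup.subgroupOfEquivOfLe (sGrp_le hf)).toEquiv]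
    refine Nat.card_congr (Equiv.ofBijective (fun u => (⟨π₀ u.1, Subgroup.mem_map_of_mem π₀ u.2⟩ : P))
      ⟨?_, ?_⟩).symm
    · intro a b h
      have h1 : π₀ (a.1 * b.1⁻¹) = 1 := by
        rw [map_mul, map_inv, show π₀ a.1 = π₀ b.1 from congrArg Subtype.val h, mul_inv_cancel]
      have hm : ((a.1 * b.1⁻¹ : Cfsg.Spor.threeJ3 F ω) : GL F9 F) ∈ sGrp hf :=
        mul_mem a.2 (inv_mem b.2)
      have := two_scalar hf ((hk₀ _).1 h1) (one_pow 128) (by rw [one_mul]; exact sGrp_pow hf hm)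
      exact Subtype.ext (mul_inv_eq_one.1 (Subtype.ext this))
    · rintro ⟨_, u, hu, rfl⟩
      exact ⟨⟨u, hu⟩, rfl⟩
  have hindex : ¬ 2 ∣ P.index := by
    have h := P.card_mul_index
    rw [hPcard, Nat.card_congr e.toEquiv, card_J3 hf] at h
    omega
  let P' : Sylow 2 G := (IsPGroup.of_card (n := 7) (hPcard.trans (by norm_num))).toSylow hindex
  obtain ⟨g, hg⟩ := MulAction.exists_smul_eq G P' S
  refine main hf ((MulAut.conj g).toMonoidHom.comp π₀) ((MulAut.conj g).surjective.comp hπ₀)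
    (fun z => ?_) S ?_
  · rw [← hk₀]
    exact map_eq_one_iff (MulAut.conj g).toMonoidHom (MulAut.conj g).injective
  · rw [← hg, Sylow.coe_subgroup_smul, ← Subgroup.map_map]
    rfl

end Cfsg.Agent.H44.J3
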