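import Cfsg.Agent.H44.J3.Defs

/-!
Checkers for the orbit of the coded line ⟨e₀⟩.
-/

set_option autoImplicit false

namespace Cfsg.Agent.H44.J3

open Cfsg.Agent.Compute

/-- Lookup in a table packed in rows of 128 entries, 16 rows per block. -/
noncomputable def getT (w : ℕ) (T : List (List ℕ)) (i : ℕ) : ℕ :=
  getP w (nth 0 (nth [] T (Nat.div i 2048)) (Nat.mod (Nat.div i 128) 16)) (Nat.mod i 128)

/-- Check a property below `n`, in blocks. -/
noncomputable def allB (n : ℕ) (f : ℕ → Bool) : Bool :=
  allN (Nat.add (Nat.div n 128) 1) (fun b => allN 128 (fun k =>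
    cond (Nat.ble (Nat.add (Nat.add (Nat.mul 128 b) k) 1) n) (f (Nat.add (Nat.mul 128 b) k)) true))

theorem allB_iff (n : ℕ) (f : ℕ → Bool) : allB n f = true ↔ ∀ i < n, f i = true := by
  simp only [allB, allN_iff]
  constructor
  · intro h i hi
    have := h (i / 128) (by show i / 128 < n / 128 + 1; omega) (i % 128) (Nat.mod_lt _ (by norm_num))
    have e : Nat.add (Nat.mul 128 (i / 128)) (i % 128) = i := Nat.div_add_mod i 128
    rw [e, show Nat.ble (Nat.add i 1) n = true from Nat.ble_eq.symm ▸ hi, cond_true] at this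
    exact this
  · intro h b _ k _
    cases hb : Nat.ble (Nat.add (Nat.add (Nat.mul 128 b) k) 1) n
    · rfl
    · rw [Nat.ble_eq] at hb
      exact h _ hb

/-- Equality of coded vectors up to a nonzero scalar. -/
noncomputable def lineEq (v u : ℕ) : Bool :=
  Nat.beq v u || Nat.beq v (wmul u) || Nat.beq v (wmul (wmul u))

/-- Selection predicate for representatives of lines. -/
noncomputable def normOK (u : ℕ) : Bool :=
  let m := Nat.lor (Nat.land u 511) (Nat.shiftRight u 9)
  Nat.ble 1 m &&
    Nat.beq (Nat.land (Nat.shiftRight u 9) (Nat.xor m (Nat.land m (Nat.sub m 1)))) 0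

/-- A selected code is the only selected one on its line. -/
noncomputable def repOK (u : ℕ) : Bool :=
  Nat.ble (Nat.add u 1) 262144 && normOK u && !normOK (wmul u) && !normOK (wmul (wmul u))

/-- Orbit certificate: sorted codes, generator tables, parents and orbit representatives. -/
structure OCert where
  n : ℕ
  codes : List (List ℕ)
  perms : List (List (List ℕ))
  par : List (List ℕ)
  dIdx : List ℕ

noncomputable def OCert.code (o : OCert) (i : ℕ) : ℕ := getT 18 o.codes i

noncomputable def OCert.perm (o : OCert) (a i : ℕ) : ℕ := getT 16 (nth [] o.perms a) i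

noncomputable def OCert.entry (o : OCert) (i : ℕ) : ℕ := getT 32 o.par i

noncomputable def OCert.depth (o : OCert) (i : ℕ) : ℕ := Nat.shiftRight (o.entry i) 21

noncomputable def OCert.kind (o : OCert) (i : ℕ) : ℕ :=
  Nat.land (Nat.shiftRight (o.entry i) 16) 31

noncomputable def OCert.parent (o : OCert) (i : ℕ) : ℕ := Nat.land (o.entry i) 65535

noncomputable def OCert.codesOK (o : OCert) : Bool :=
  allB o.n (fun i => repOK (o.code i) &&
    cond (Nat.ble (Nat.add i 2) o.n)
      (Nat.ble (Nat.add (o.code i) 1) (o.code (Nat.add i 1))) true)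

noncomputable def OCert.closeOK (o : OCert) (c : GCert) (a : ℕ) : Bool :=
  allB o.n (fun i => Nat.ble (Nat.add (o.perm a i) 1) o.n &&
    lineEq (appM (c.gen a) (o.code i)) (o.code (o.perm a i)))

noncomputable def OCert.parOK (o : OCert) (c : GCert) : Bool :=
  allB o.n (fun i => cond (Nat.beq (o.kind i) 0)
    (Nat.ble (Nat.add (o.parent i) 1) c.ds.length &&
      lineEq (appM (c.dr (o.parent i)).d 1) (o.code i))
    (Nat.ble (o.kind i) c.lvl.gens.length && Nat.ble (Nat.add (o.parent i) 1) o.n &&
      Nat.ble (Nat.add (o.depth (o.parent i)) 1) (o.depth i) &&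
      Nat.beq (o.perm (Nat.sub (o.kind i) 1) (o.parent i)) i))

noncomputable def OCert.repsOK (o : OCert) (c : GCert) : Bool :=
  allN c.ds.length (fun j => Nat.ble (Nat.add (nth 0 o.dIdx j) 1) o.n &&
    lineEq (appM (c.dr j).d 1) (o.code (nth 0 o.dIdx j)) &&
      cond (Nat.beq j 0) true (!lineEq (appM (c.dr j).d 1) 1)) &&
  allN c.lvl.gens.length (fun a => lineEq (appM (c.gen a) 1) 1)

end Cfsg.Agent.H44.J3
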