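import Cfsg.Agent.H44.J3.SimpleCheck
import Cfsg.Agent.H44.J3.OrbitDefs
import Cfsg.Agent.H44.J3.DataFusion
import Cfsg.Agent.H44.J3.DataIso

/-!
Kernel checks for the 2-fusion system of J3.
-/

set_option autoImplicit false
set_option Elab.async false

namespace Cfsg.Agent.H44.J3

open Cfsg.Agent.Compute

/-- All elements of the group of a chain, as products of transversal elements. -/
noncomputable def elemsOf (ls : List (Level ℕ)) : List ℕ :=
  List.rec [oneM] (fun l _ ih => l.orb.flatMap (fun e => ih.map (mulM e.u))) ls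

/-- Commutation of coded matrices. -/
noncomputable def commB (a b : ℕ) : Bool := Nat.beq (mulM a b) (mulM b a)

/-- The code `g` occurs in the witness list. -/
noncomputable def inWit (g : ℕ) : Bool :=
  Option.isSome (lfind fSWit (fun p => Nat.beq p.1.1 g))

/-- All witnesses of membership in 3·J₃. -/
noncomputable def fWitAll : List ((ℕ × ℕ) × ℕ × ℕ) :=
  fSWit ++ (fConj ++ (fR.map Prod.fst ++ [fZ, fT.1, fT.2.1, fT.2.2]))

theorem fWit_ok : lall fWitAll (fun p => cert.inT p) = true := by decide +kernel

theorem fS_ok : checkChain mOps fS = true := by decide +kernel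

theorem fQ_ok : checkChain mOps fQ = true := by decide +kernel

theorem fN_ok : checkChain mOps fN = true := by decide +kernel

/-- Facts on z. -/
noncomputable def fZOK : Bool :=
  lall (nextGens fS ++ nextGens fQ) (fun g => inWit g.1) &&
    sift mOps fS fZ.1.1 && !Nat.beq fZ.1.1 oneM &&
    lall (nextGens fS) (fun g => commB fZ.1.1 g.1) &&
    lall (elemsOf fS) (fun s => !lall (nextGens fS) (fun g => commB s g.1) ||
      Nat.beq s oneM || Nat.beq s fZ.1.1)

theorem fZ_ok : fZOK = true := by decide +kernel

/-- Facts on Q. -/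
noncomputable def fQOK : Bool :=
  lall (nextGens fQ) (fun q => sift mOps fS q.1) &&
    lall (nextGens fS) (fun g => lall (nextGens fQ) (fun q =>
      sift mOps fQ (mulM g.1 (mulM q.1 g.2)))) &&
    lall (elemsOf fS) (fun s => !lall (nextGens fQ) (fun q => commB s q.1) || sift mOps fQ s) &&
    lall [fT.2.1.1, fT.2.2.1] (fun a => Nat.beq (powM a.1 8) oneM &&
      lall (nextGens fQ) (fun q => sift mOps fQ (mulM a.1 (mulM q.1 a.2)))) &&
    Nat.beq (mulM fT.2.1.1.1 fT.2.2.1.1) fT.1.1.1

theorem fQ_facts : fQOK = true := by decide +kernel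

/-- Generators allowed in the words for fN. -/
noncomputable def fNGen (a : ℕ) : ℕ :=
  nth oneM ((nextGens fS).map Prod.fst ++ [fT.1.1.1, scalM]) a

noncomputable def fNWord (w : List ℕ) : ℕ :=
  List.rec oneM (fun a _ ih => mulM (fNGen a) ih) w

/-- Facts on N. -/
noncomputable def fNOK : Bool :=
  lall (nextGens fS) (fun g => sift mOps fN g.1 && Nat.beq (appM g.1 fLine) fLine) &&
    allN (nextGens fN).length (fun a =>
      let g := nth (oneM, oneM) (nextGens fN) a
      Nat.beq g.1 (fNWord (nth [] fNWords a)) && lineEq (appM g.1 fLine) fLine &&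
        lall (nextGens fS) (fun s => sift mOps fS (mulM g.1 (mulM s.1 g.2)))) &&
    sift mOps fN scalM && sift mOps fN fT.1.1.1 && Nat.beq fLine (getT 18 isoCodes isoRoot) &&
    allN 2 (fun i =>
      let r := nth (((oneM, oneM), 0, 0), 0) fR i
      lineEq (appM r.1.1.1 fLine) fLine && !sift mOps fN r.1.1.1 &&
        Nat.ble (Nat.add r.2 1) (nextGens fS).length &&
        !sift mOps fS (mulM r.1.1.1
          (mulM (nth (oneM, oneM) (nextGens fS) r.2).1 r.1.1.2))) &&
    !sift mOps fN (mulM (nth (((oneM, oneM), 0, 0), 0) fR 0).1.1.2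
      (nth (((oneM, oneM), 0, 0), 0) fR 1).1.1.1)

theorem fN_facts : fNOK = true := by decide +kernel

/-- A conjugate of z. -/
noncomputable def fZConj (i : ℕ) : ℕ :=
  mulM (nth ((oneM, oneM), 0, 0) fConj i).1.1
    (mulM fZ.1.1 (nth ((oneM, oneM), 0, 0) fConj i).1.2)

noncomputable def fSWord (w : List ℕ) : ℕ :=
  List.rec oneM (fun a _ ih => mulM (fZConj a) ih) w

/-- The conjugates of z lie in S and generate it. -/
noncomputable def fConjOK : Bool :=
  allN fConj.length (fun i => sift mOps fS (fZConj i)) &&
    lall fSWords (fun w => lall w (fun a => Nat.ble (Nat.add a 1) fConj.length)) &&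
    Nat.beq fSWords.length (nextGens fS).length &&
    allN (nextGens fS).length (fun a =>
      Nat.beq (nth (oneM, oneM) (nextGens fS) a).1 (fSWord (nth [] fSWords a)))

theorem fConj_ok : fConjOK = true := by decide +kernel

/-- Fixed-space operator built from S. -/
noncomputable def fFixOp : ℕ :=
  List.rec oneM (fun p _ ih => Nat.xor (mulM p.1 (Nat.xor p.2 oneM)) ih)
    (List.zip fFix ((nextGens fS).map Prod.fst))

/-- The fixed space of S is one line. -/
noncomputable def fFixOK : Bool :=
  lall fFix validM &&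
    allN 9 (fun i => Nat.beq (getP 18 fFixOp i) 0 || lineEq (getP 18 fFixOp i) fLine)

theorem fFix_ok : fFixOK = true := by decide +kernel

end Cfsg.Agent.H44.J3
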