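import Cfsg.Agent.H44.J3.Group
import Cfsg.Agent.H44.J3.CheckIso0
import Cfsg.Agent.H44.J3.CheckIso1
import Cfsg.Agent.H44.J3.CheckIso2
import Cfsg.Agent.H44.J3.CheckIso3

/-!
3·J₃ is transitive on isotropic lines, and ⟨e₀⟩ has 23256 images.
-/

set_option autoImplicit false

namespace Cfsg.Agent.H44.J3

open Cfsg.Agent.Compute
open Cfsg.Spor (F9)

attribute [local irreducible] validM invM mulM appM oneM wmul sift checkChain normOK fold9 par9

theorem fold9_eq : ∀ m < 512, fold9 m = par9 m := by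
  have h : allN 512 (fun m => Nat.beq (fold9 m) (par9 m)) = true := by decide +kernel
  intro m hm
  exact Nat.eq_of_beq_eq_true ((allN_iff _ _).1 h m hm)

theorem isoRoot_lt : isoRoot < isoN := by decide +kernel

theorem iso_entry {i : ℕ} (hi : i ≤ isoN) : isoEntryOK i = true := by
  have h0 := iso0_ok
  have h1 := iso1_ok
  have h2 := iso2_ok
  simp only [isoRangeOK, allN_iff] at h0 h1 h2
  have hk : i % 128 < 128 := Nat.mod_lt _ (by norm_num)
  have hi' : i ≤ 43605 := hi
  have use' : ∀ (b m : ℕ), (∀ a < m, ∀ k < 128,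
      cond (Nat.ble (Nat.add (Nat.mul 128 (Nat.add b a)) k) isoN)
        (isoEntryOK (Nat.add (Nat.mul 128 (Nat.add b a)) k)) true = true) →
      b ≤ i / 128 → i / 128 < b + m → isoEntryOK i = true := by
    intro b m h hb hm
    have h' := h (i / 128 - b) (by omega) (i % 128) hk
    rw [show Nat.add (Nat.mul 128 (Nat.add b (i / 128 - b))) (i % 128) = i by
      show 128 * (b + (i / 128 - b)) + i % 128 = i
      omega] at h'
    rw [show Nat.ble i isoN = true from Nat.ble_eq.symm ▸ hi, cond_true] at h'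
    exact h'
  rcases lt_or_ge (i / 128) 114 with q | q
  · exact use' _ _ h0 (by omega) q
  · rcases lt_or_ge (i / 128) 228 with r | r
    · exact use' _ _ h1 q r
    · exact use' _ _ h2 r (by omega)

theorem iCode_spec {i : ℕ} (hi : i < isoN) : repOK (iCode i) = true ∧ isoB (iCode i) = true := by
  have h := iso_entry hi.le
  simp only [isoEntryOK, show Nat.ble (Nat.add i 1) isoN = true from Nat.ble_eq.symm ▸ hi,
    cond_true, Bool.and_eq_true] at h
  exact ⟨h.1.1.1, h.1.1.2⟩

theorem iCode_lt_succ {i : ℕ} (hi : i + 1 < isoN) : iCode i < iCode (i + 1) := by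
  have h := isoSort_ok
  simp only [allN_iff] at h
  have hi' : i + 1 < 43605 := hi
  have h' := h (i / 128) (by omega) (i % 128) (Nat.mod_lt _ (by norm_num))
  rw [show Nat.add (Nat.mul 128 (i / 128)) (i % 128) = i by
    show 128 * (i / 128) + i % 128 = i
    omega] at h'
  rw [isoSortB, show Nat.ble (Nat.add i 2) isoN = true from Nat.ble_eq.symm ▸ hi, cond_true,
    Nat.ble_eq] at h'
  exact h'

theorem iso_gap {i : ℕ} (hi : i ≤ isoN) {u : ℕ} (h1 : gapLo i ≤ u) (h2 : u < gapHi i) :
    gapB u = true := by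
  have h := iso_entry hi
  simp only [isoEntryOK, Bool.and_eq_true, allN_iff] at h
  have := h.2 (u - gapLo i) (by
    show u - gapLo i < gapHi i - gapLo i
    omega)
  rwa [show Nat.add (gapLo i) (u - gapLo i) = u by show gapLo i + (u - gapLo i) = u; omega] at this

theorem iCode_cover {u : ℕ} (hu : u < 262144) (hu1 : 1 ≤ u) (hiso : isoB u = true) :
    (∃ i < isoN, iCode i = u) ∨
      (normOK u = false ∧ (normOK (wmul u) = true ∨ normOK (wmul (wmul u)) = true)) := by
  classical
  by_cases hex : ∃ i < isoN, iCode i = u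
  · exact Or.inl hex
  refine Or.inr ?_
  -- first index whose code exceeds u
  have hP : ∃ i, i = isoN ∨ u < iCode i := ⟨isoN, Or.inl rfl⟩
  let i := Nat.find hP
  have hiN : i ≤ isoN := Nat.find_le (Or.inl rfl)
  have hlo : gapLo i ≤ u := by
    unfold gapLo
    rcases Nat.eq_zero_or_pos i with h0 | h0
    · rw [show Nat.beq i 0 = true by simp [h0], cond_true]; exact hu1
    · rw [show Nat.beq i 0 = false by rw [Bool.eq_false_iff, Ne, Nat.beq_eq]; omega, cond_false]
      have hm := Nat.find_min hP (show i - 1 < i by omega)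
      simp only [not_or, not_lt] at hm
      have hne : iCode (i - 1) ≠ u := fun e => hex ⟨i - 1, by omega, e⟩
      show iCode (i - 1) + 1 ≤ u
      omega
  have hhi : u < gapHi i := by
    unfold gapHi
    rcases Nat.find_spec hP with h | h
    · have h' : i = isoN := h
      rw [show Nat.ble (Nat.add i 1) isoN = false by
        rw [Bool.eq_false_iff, Ne, Nat.ble_eq]; show ¬ (i + 1 ≤ isoN); omega, cond_false]
      exact hu
    · cases Nat.ble (Nat.add i 1) isoN
      · exact hu
      · exact h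
  have := iso_gap hiN hlo hhi
  simp only [gapB, hiso, Bool.not_true, Bool.false_or, Bool.and_eq_true, Bool.or_eq_true,
    Bool.not_eq_true'] at this
  exact this

section
variable {F : Type*} [Field F] [Fintype F] {ω : F} (hf : Four F ω)
include hf

theorem isoB_iff {u : ℕ} (hu : u < 262144) :
    isoB u = true ↔ ∑ z : F9, dec ω u z ^ 3 = 0 := by
  classical
  let m := (u &&& 511) ||| (u >>> 9)
  have hm : m < 512 := Nat.or_lt_two_pow (n := 9)
    (lt_of_le_of_lt Nat.and_le_right (by norm_num))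
    (by show u >>> 9 < 2 ^ 9; rw [Nat.shiftRight_eq_div_pow]; omega)
  have hbit : ∀ z : F9, dec ω u z ^ 3 = bitF (m.testBit (idx z)) 1 := by
    intro z
    have hz := idx_lt z
    have h0 := omega_ne_zero ω hf.root
    have e : m.testBit (idx z) = (u.testBit (idx z) || u.testBit (9 + idx z)) := by
      simp only [m, Nat.testBit_or, Nat.testBit_and, Nat.testBit_shiftRight]
      rw [show (511 : ℕ) = 2 ^ 9 - 1 by norm_num, Nat.testBit_two_pow_sub_one]
      simp [hz]
    have h3 : ω ^ 3 = 1 := by linear_combination (ω - 1) * hf.root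
    have h3' : (1 + ω) ^ 3 = 1 := by
      linear_combination (ω + 2) * hf.root + (ω * 0 - 1) * hf.two + hf.two * 0 - 0 * h3
    rw [e]
    cases ha : u.testBit (idx z) <;> cases hb : u.testBit (9 + idx z) <;>
      simp [dec, bitF, ha, hb, h3, h3']
  have hrec : ∀ n, bitF (decide ((Nat.rec (motive := fun _ => ℕ) 0
      (fun i acc => Nat.xor (Nat.land (Nat.shiftRight m i) 1) acc) n) = 1)) (1 : F) =
      ∑ i ∈ Finset.range n, bitF (m.testBit i) (1 : F) ∧ Nat.rec (motive := fun _ => ℕ) 0
      (fun i acc => Nat.xor (Nat.land (Nat.shiftRight m i) 1) acc) n ≤ 1 := by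
    intro n
    induction n with
    | zero => simp [bitF]
    | succ k ih =>
      rw [Finset.sum_range_succ, ← ih.1]
      obtain ⟨-, hle⟩ := ih
      show bitF (decide ((((m >>> k) &&& 1) ^^^ _) = 1)) (1 : F) = _ ∧ ((m >>> k) &&& 1) ^^^ _ ≤ 1
      have hb : m.testBit k = decide (((m >>> k) &&& 1) = 1) := by
        rw [Nat.and_one_is_mod, Nat.testBit_eq_decide_div_mod_eq, Nat.shiftRight_eq_div_pow]
      rw [hb]
      have h01 : (m >>> k) &&& 1 ≤ 1 := Nat.and_le_right
      generalize (m >>> k) &&& 1 = a at h01 ⊢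
      generalize Nat.rec (motive := fun _ => ℕ) 0
        (fun i acc => Nat.xor (Nat.land (Nat.shiftRight m i) 1) acc) k = c at hle ⊢
      have h2 : (1 : F) + 1 = 0 := by rw [one_add_one_eq_two, hf.two]
      interval_cases a <;> interval_cases c <;> simp [bitF, h2]
  have hsum : ∑ z : F9, dec ω u z ^ 3 = bitF (decide (par9 m = 1)) (1 : F) := by
    rw [show par9 m = Nat.rec (motive := fun _ => ℕ) 0
      (fun i acc => Nat.xor (Nat.land (Nat.shiftRight m i) 1) acc) 9 by unfold par9; rfl,
      (hrec 9).1]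
    simp only [hbit]
    exact Finset.sum_bij (fun z _ => idx z) (fun z _ => Finset.mem_range.2 (idx_lt z))
      (fun a _ b _ h => idx_inj h)
      (fun i hi => ⟨(exists_idx i (Finset.mem_range.1 hi)).choose, Finset.mem_univ _,
        (exists_idx i (Finset.mem_range.1 hi)).choose_spec⟩)
      (fun z _ => rfl)
  have hle : par9 m ≤ 1 := by
    rw [show par9 m = Nat.rec (motive := fun _ => ℕ) 0
      (fun i acc => Nat.xor (Nat.land (Nat.shiftRight m i) 1) acc) 9 by unfold par9; rfl]
    exact (hrec 9).2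
  rw [hsum, show isoB u = Nat.beq (fold9 m) 0 from rfl, fold9_eq m hm, Nat.beq_eq]
  interval_cases h : par9 m <;> simp [bitF]

theorem iso_reached {i : ℕ} (hi : i < isoN) :
    ∃ g ∈ Cfsg.Spor.threeJ3 F ω, ∃ k : F, k ≠ 0 ∧
      (g : Matrix F9 F9 F).mulVec (dec ω (iCode isoRoot)) = k • dec ω (iCode i) := by
  induction hd : iDepth i using Nat.strong_induction_on generalizing i with
  | _ d ih =>
    have h := iso_entry hi.le
    simp only [isoEntryOK, show Nat.ble (Nat.add i 1) isoN = true from Nat.ble_eq.symm ▸ hi,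
      cond_true, Bool.and_eq_true] at h
    have h' := h.1.2
    cases hk : Nat.beq (iKind i) 0 with
    | true =>
      rw [hk, cond_true, Nat.beq_eq] at h'
      subst h'
      exact ⟨1, one_mem _, 1, one_ne_zero, by rw [Units.val_one, Matrix.one_mulVec, one_smul]⟩
    | false =>
      rw [hk, cond_false] at h'
      simp only [Bool.and_eq_true, Nat.ble_eq] at h'
      obtain ⟨⟨⟨hkg, hp⟩, hdep⟩, hl⟩ := h'
      have hk0 : iKind i ≠ 0 := fun e => by rw [e] at hk; exact absurd hk (by simp)
      have hp' : iParent i < isoN := hp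
      obtain ⟨g, hg, k, hk', e⟩ := ih (iDepth (iParent i)) (hd ▸ hdep) hp' rfl
      obtain ⟨ob, mb⟩ := basic_mem hf (show iKind i - 1 < 10 by omega)
      have hrep := (iCode_spec hi).1
      simp only [repOK, Bool.and_eq_true, Nat.ble_eq] at hrep
      rw [show Nat.sub (iKind i) 1 = iKind i - 1 from rfl] at hl
      obtain ⟨k2, hk2, e2⟩ := lineEq_sound hf hrep.1.1.1 hl
      rw [dec_appM_den hf ob] at e2
      exact ⟨_, Subgroup.mul_mem _ mb hg, k * k2, mul_ne_zero hk' hk2, by
        rw [Units.val_mul, ← Matrix.mulVec_mulVec, e, Matrix.mulVec_smul]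
        show k • _ = _
        rw [e2, smul_smul]⟩

theorem iso_line_listed {v : F9 → F} (hv : v ≠ 0) (hs : ∑ z, v z ^ 3 = 0) :
    ∃ i < isoN, ∃ k : F, k ≠ 0 ∧ v = k • dec ω (iCode i) := by
  classical
  obtain ⟨u, hu, rfl⟩ := exists_code hf v
  have h0 := omega_ne_zero ω hf.root
  have h3 : ω ^ 3 = 1 := by linear_combination (ω - 1) * hf.root
  have step : ∀ w < 262144, dec ω w ≠ 0 → (∑ z, dec ω w z ^ 3 = 0) → normOK w = true →
      ∃ i < isoN, iCode i = w := by
    intro w hw hne hsum hn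
    have h1 : 1 ≤ w := by
      by_contra h
      refine hne ?_
      rw [show w = 0 by omega]
      funext z
      simp [dec, bitF]
    rcases iCode_cover hw h1 ((isoB_iff hf hw).2 hsum) with h | ⟨h, -⟩
    · exact h
    · rw [hn] at h; exact absurd h (by simp)
  have hu1 : 1 ≤ u := by
    by_contra h
    refine hv ?_
    rw [show u = 0 by omega]
    funext z
    simp [dec, bitF]
  rcases iCode_cover hu hu1 ((isoB_iff hf hu).2 hs) with ⟨i, hi, rfl⟩ | ⟨-, hn | hn⟩
  · exact ⟨i, hi, 1, one_ne_zero, (one_smul _ _).symm⟩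
  · have e := dec_wmul ω hf.two hf.root hu
    obtain ⟨i, hi, he⟩ := step _ (wmul_lt hf hu)
      (by rw [e]; exact smul_ne_zero h0 hv)
      (by simp only [e, Pi.smul_apply, smul_eq_mul, mul_pow, h3, one_mul]; exact hs) hn
    exact ⟨i, hi, ω⁻¹, inv_ne_zero h0, by rw [he, e, inv_smul_smul₀ h0]⟩
  · have e : dec ω (wmul (wmul u)) = ω • ω • dec ω u := by
      rw [dec_wmul ω hf.two hf.root (wmul_lt hf hu), dec_wmul ω hf.two hf.root hu]
    obtain ⟨i, hi, he⟩ := step _ (wmul_lt hf (wmul_lt hf hu))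
      (by rw [e]; exact smul_ne_zero h0 (smul_ne_zero h0 hv))
      (by simp only [e, Pi.smul_apply, smul_eq_mul, mul_pow, h3, one_mul]; exact hs) hn
    exact ⟨i, hi, ω⁻¹ * ω⁻¹, mul_ne_zero (inv_ne_zero h0) (inv_ne_zero h0), by
      rw [he, e, ← smul_smul, inv_smul_smul₀ h0, inv_smul_smul₀ h0]⟩

theorem iso_sum {i : ℕ} (hi : i < isoN) : ∑ z : F9, dec ω (iCode i) z ^ 3 = 0 := by
  obtain ⟨hr, hiso⟩ := iCode_spec hi
  simp only [repOK, Bool.and_eq_true, Nat.ble_eq] at hr
  exact (isoB_iff hf hr.1.1.1).1 hiso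

theorem iso_ne_zero {i : ℕ} (hi : i < isoN) : dec ω (iCode i) ≠ 0 := by
  intro h
  obtain ⟨hr, -⟩ := iCode_spec hi
  simp only [repOK, Bool.and_eq_true, Nat.ble_eq] at hr
  have h0 : dec ω 0 = (0 : F9 → F) := by funext z; simp [dec, bitF]
  have e := dec_inj ω hf.two hf.root hr.1.1.1 (by norm_num) (h.trans h0.symm)
  have hn := hr.1.1.2
  rw [e] at hn
  revert hn
  unfold normOK
  decide

theorem iso_inj {i j : ℕ} (hi : i < isoN) (hj : j < isoN) {c : F} (hc : c ≠ 0)
    (h : dec ω (iCode i) = c • dec ω (iCode j)) : i = j := by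
  obtain ⟨hri, -⟩ := iCode_spec hi
  obtain ⟨hrj, -⟩ := iCode_spec hj
  simp only [repOK, Bool.and_eq_true, Bool.not_eq_true', Nat.ble_eq] at hri hrj
  have hlt : ∀ {a b : ℕ}, a < b → b < isoN → iCode a < iCode b := by
    intro a b hab hb
    induction b with
    | zero => omega
    | succ m ih =>
      have h1 : iCode m < iCode (m + 1) := iCode_lt_succ hb
      rcases Nat.lt_succ_iff_lt_or_eq.1 hab with q | rfl
      · exact lt_trans (ih q (by omega)) h1
      · exact h1
  have hl := lineEq_complete hf hri.1.1.1 hrj.1.1.1 hc h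
  simp only [lineEq, Bool.or_eq_true, Nat.beq_eq] at hl
  rcases hl with (e | e) | e
  · rcases lt_trichotomy i j with q | q | q
    · have := hlt q hj; omega
    · exact q
    · have := hlt q hi; omega
  · have := hri.1.1.2; rw [e, hrj.1.2] at this; exact absurd this (by simp)
  · have := hri.1.1.2; rw [e, hrj.2] at this; exact absurd this (by simp)

theorem transitive_isotropic {v w : F9 → F} (hv : v ≠ 0) (hw : w ≠ 0)
    (hsv : ∑ z, v z ^ 3 = 0) (hsw : ∑ z, w z ^ 3 = 0) :
    ∃ g ∈ Cfsg.Spor.threeJ3 F ω, ∃ c : F, c ≠ 0 ∧ (g : Matrix F9 F9 F).mulVec v = c • w := by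
  obtain ⟨i, hi, k, hk, rfl⟩ := iso_line_listed hf hv hsv
  obtain ⟨j, hj, l, hl, rfl⟩ := iso_line_listed hf hw hsw
  obtain ⟨g, hg, a, ha, eg⟩ := iso_reached hf hi
  obtain ⟨h, hh, b, hb, eh⟩ := iso_reached hf hj
  refine ⟨h * g⁻¹, Subgroup.mul_mem _ hh (Subgroup.inv_mem _ hg), k * (a⁻¹ * b) * l⁻¹,
    mul_ne_zero (mul_ne_zero hk (mul_ne_zero (inv_ne_zero ha) hb)) (inv_ne_zero hl), ?_⟩
  have e := congrArg ((↑g⁻¹ : Matrix F9 F9 F).mulVec) eg
  rw [Matrix.mulVec_mulVec, ← Units.val_mul, inv_mul_cancel, Units.val_one, Matrix.one_mulVec,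
    Matrix.mulVec_smul] at e
  have e' : (↑g⁻¹ : Matrix F9 F9 F).mulVec (dec ω (iCode i)) = a⁻¹ • dec ω (iCode isoRoot) := by
    conv_rhs => rw [e, inv_smul_smul₀ ha]
  rw [Units.val_mul, ← Matrix.mulVec_mulVec, Matrix.mulVec_smul, e', Matrix.mulVec_smul,
    Matrix.mulVec_smul, eh, smul_smul, smul_smul, smul_smul]
  congr 1
  field_simp

theorem ncard_orbit :
    {L : Submodule F (F9 → F) | ∃ g ∈ Cfsg.Spor.threeJ3 F ω, L = Submodule.span F
      {(g : Matrix F9 F9 F).mulVec (Pi.single (0 : F9) (1 : F) : F9 → F)}}.ncard = 23256 := by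
  classical
  let f : Fin oCert.n → Submodule F (F9 → F) := fun i => Submodule.span F {dec ω (oCert.code i)}
  have hset : {L : Submodule F (F9 → F) | ∃ g ∈ Cfsg.Spor.threeJ3 F ω, L = Submodule.span F
      {(g : Matrix F9 F9 F).mulVec (Pi.single (0 : F9) (1 : F) : F9 → F)}} = Set.range f := by
    ext L
    constructor
    · rintro ⟨g, hg, rfl⟩
      rw [threeJ3_eq hf] at hg
      obtain ⟨i, hi, k, hk, e⟩ :=
        lineTo_exists hf ocert_ok cert_ok ((mem_closure_iff hf cert_ok _).1 hg)
      refine ⟨⟨i, hi⟩, ?_⟩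
      rw [e]
      exact (Submodule.span_singleton_smul_eq (IsUnit.mk0 k hk) _).symm
    · rintro ⟨i, rfl⟩
      obtain ⟨g, hg, k, hk, e⟩ := reached hf ocert_ok cert_ok i.2
      refine ⟨g, ?_, ?_⟩
      · rw [threeJ3_eq hf]; exact (mem_closure_iff hf cert_ok _).2 hg
      · rw [e]
        exact (Submodule.span_singleton_smul_eq (IsUnit.mk0 k hk) _).symm
  have hinj : Function.Injective f := by
    intro i j h
    have hm : dec ω (oCert.code i) ∈ Submodule.span F {dec ω (oCert.code j)} := by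
      rw [show Submodule.span F {dec ω (oCert.code j)} = f j from rfl, ← h]
      exact Submodule.mem_span_singleton_self _
    obtain ⟨k, hk⟩ := Submodule.mem_span_singleton.1 hm
    have hk0 : k ≠ 0 := by
      rintro rfl
      rw [zero_smul] at hk
      obtain ⟨g, -, m, -, e⟩ := reached hf ocert_ok cert_ok i.2
      rw [← hk, smul_zero] at e
      have h2 := congrArg ((↑g⁻¹ : Matrix F9 F9 F).mulVec) e
      rw [Matrix.mulVec_mulVec, ← Units.val_mul, inv_mul_cancel, Units.val_one, Matrix.one_mulVec,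
        Matrix.mulVec_zero] at h2
      exact one_ne_zero (α := F) (by simpa using congrFun h2 0)
    exact Fin.ext (code_line_inj hf ocert_ok i.2 j.2 hk0 hk.symm)
  rw [hset, Set.ncard_range_of_injective hinj, Nat.card_fin]
  decide +kernel

end

end Cfsg.Agent.H44.J3
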