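import Cfsg.Agent.H44.J3.GensCheck

/-!
The generators of 3·J₃ preserve the standard Hermitian form (kernel check).
-/

set_option autoImplicit false
set_option Elab.async false

namespace Cfsg.Agent.H44.J3

open Cfsg.Agent.Compute
open Cfsg.Spor (F9)

/-- Product in the field with four elements on bit pairs (a, b) ↦ a + bω. -/
def bMul (p q : Bool × Bool) : Bool × Bool :=
  ((p.1 && q.1) ^^ (p.2 && q.2), ((p.1 && q.2) ^^ (p.2 && q.1)) ^^ (p.2 && q.2))

/-- Sum on bit pairs. -/
def bAdd (p q : Bool × Bool) : Bool × Bool := (p.1 ^^ q.1, p.2 ^^ q.2)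

/-- Squaring on bit pairs. -/
def bSq (p : Bool × Bool) : Bool × Bool := (p.1 ^^ p.2, p.2)

/-- The nine points. -/
def pts : List F9 := [(0, 0), (0, 1), (0, 2), (1, 0), (1, 1), (1, 2), (2, 0), (2, 1), (2, 2)]

/-- Hermitian product of columns `a`, `b`. -/
noncomputable def hCol (g : ℕ) (a b : F9) : Bool × Bool :=
  List.rec (false, false) (fun w _ ih => bAdd (bMul (entryBits g w a) (bSq (entryBits g w b))) ih) pts

/-- Columns are orthonormal. -/
noncomputable def unitOK (g : ℕ) : Bool :=
  lall pts (fun a => lall pts (fun b => hCol g a b == cond (a == b) (true, false) (false, false)))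

theorem unit_ok : lall witGens (fun p => unitOK p.1.1) = true := by decide +kernel

end Cfsg.Agent.H44.J3
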