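import Cfsg.Agent.H44.J3.Simple
import Cfsg.Agent.H44.J3.UnitaryCheck
import Cfsg.Prelude.Def_Classical
import Cfsg.Prelude.Def_Sporadic

/-!
3·J₃ inside SU₉(2).
-/

set_option autoImplicit false

namespace Cfsg.Agent.H44.J3

open Cfsg.Agent.Compute
open Cfsg.Spor (F9)

attribute [local irreducible] validM invM mulM appM oneM wmul sift checkChain normOK xM scalM zM powM
  bWord

section
variable {F : Type*} [Field F] [Fintype F] {ω : F} (hf : Four F ω)

/-- Value of a bit pair. -/
def pairVal (ω : F) (p : Bool × Bool) : F := bitF p.1 1 + bitF p.2 ω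

include hf

theorem pairVal_add (p q : Bool × Bool) :
    pairVal ω (bAdd p q) = pairVal ω p + pairVal ω q := by
  simp only [pairVal, bAdd, bitF_xor hf.two]; ring

theorem pairVal_mul (p q : Bool × Bool) :
    pairVal ω (bMul p q) = pairVal ω p * pairVal ω q := by
  have hw : ω * ω = 1 + ω := by linear_combination hf.root - (ω + 1) * hf.two
  have h1 : ∀ (a c : Bool) (x : F), bitF (a && c) x = bitF a 1 * bitF c 1 * x := by
    intro a c x; cases a <;> cases c <;> simp [bitF]
  have h2 : ∀ b : Bool, bitF b ω = bitF b (1 : F) * ω := by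
    intro b; cases b <;> simp [bitF]
  rcases p with ⟨a, b⟩
  rcases q with ⟨c, d⟩
  simp only [pairVal, bMul, bitF_xor hf.two, h1, h2 b, h2 d]
  linear_combination -(bitF b (1 : F) * bitF d (1 : F)) * hw

theorem pairVal_sq (p : Bool × Bool) : pairVal ω (bSq p) = pairVal ω p ^ 2 := by
  rw [pow_two, ← pairVal_mul hf]
  rcases p with ⟨a, b⟩
  cases a <;> cases b <;> rfl

theorem sum_sq {ι : Type} [DecidableEq ι] (s : Finset ι) (f : ι → F) :
    (∑ i ∈ s, f i) ^ 2 = ∑ i ∈ s, f i ^ 2 := by
  induction s using Finset.induction_on with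
  | empty => simp
  | insert a t ha ih =>
    rw [Finset.sum_insert ha, Finset.sum_insert ha, ← ih]
    linear_combination f a * (∑ i ∈ t, f i) * hf.two

theorem hCol_val (g : ℕ) (a b : F9) :
    pairVal ω (hCol g a b) = ∑ w : F9, matOf ω g w a * matOf ω g w b ^ 2 := by
  have key : ∀ l : List F9, pairVal ω (List.rec (motive := fun _ => Bool × Bool) (false, false)
      (fun w _ ih => bAdd (bMul (entryBits g w a) (bSq (entryBits g w b))) ih) l) =
      (l.map (fun w => matOf ω g w a * matOf ω g w b ^ 2)).sum := by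
    intro l
    induction l with
    | nil => simp [pairVal, bitF]
    | cons w t ih =>
      simp only [List.map_cons, List.sum_cons]
      rw [pairVal_add hf, ih, pairVal_mul hf, pairVal_sq hf, val_of_bits, val_of_bits]
      rfl
  rw [hCol, key]
  have hu : (Finset.univ : Finset F9) = pts.toFinset := by decide +kernel
  rw [hu, List.sum_toFinset]
  decide +kernel

theorem orth {g : ℕ} (hg : Option.isSome (lfind witGens (fun p => Nat.beq p.1.1 g)) = true)
    (a b : F9) :
    ∑ w : F9, matOf ω g w a * matOf ω g w b ^ 2 = if a = b then 1 else 0 := by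
  obtain ⟨p, hp⟩ := Option.isSome_iff_exists.1 hg
  obtain ⟨hm, he⟩ := lfind_some hp
  rw [Nat.beq_eq] at he
  have h := (lall_iff _ _).1 unit_ok p hm
  rw [he] at h
  simp only [unitOK, lall_iff] at h
  have hall : ∀ a : F9, a ∈ pts := by decide
  have h' := eq_of_beq (h a (hall a) b (hall b))
  rw [← hCol_val hf, h']
  by_cases e : a = b
  · subst e; simp [pairVal, bitF]
  · rw [if_neg e, show (a == b) = false by simpa using e]; simp [pairVal, bitF]

/-- The Hermitian form Σ u v². -/
def herm9 (u v : F9 → F) : F := ∑ z, u z * v z ^ 2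

theorem gen_preserves {g : ℕ}
    (hg : Option.isSome (lfind witGens (fun p => Nat.beq p.1.1 g)) = true) :
    (snd hf).den g ∈ Cfsg.preserving (Units.coeHom (Matrix F9 F9 F)) (herm9 (F := F)) := by
  classical
  obtain ⟨og, -⟩ := wit_mem hf hg
  intro u v
  show herm9 ((((snd hf).den g : GL F9 F) : Matrix F9 F9 F).mulVec u)
    ((((snd hf).den g : GL F9 F) : Matrix F9 F9 F).mulVec v) = herm9 u v
  rw [snd_den_coe hf og]
  show ∑ w : F9, (∑ a : F9, matOf ω g w a * u a) * (∑ b : F9, matOf ω g w b * v b) ^ 2 =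
    ∑ z : F9, u z * v z ^ 2
  have e1 : ∀ w : F9, (∑ a : F9, matOf ω g w a * u a) * (∑ b : F9, matOf ω g w b * v b) ^ 2 =
      ∑ a : F9, ∑ b : F9, matOf ω g w a * u a * (matOf ω g w b * v b) ^ 2 := fun w => by
    rw [sum_sq hf, Finset.sum_mul_sum]
  simp only [e1]
  rw [Finset.sum_comm]
  refine Finset.sum_congr rfl fun a _ => ?_
  rw [Finset.sum_comm]
  have h : ∀ b : F9, (∑ w : F9, matOf ω g w a * u a * (matOf ω g w b * v b) ^ 2) =
      u a * v b ^ 2 * (if a = b then 1 else 0) := by
    intro b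
    rw [← orth hf hg a b, Finset.mul_sum]
    exact Finset.sum_congr rfl fun w _ => by ring
  rw [Finset.sum_congr rfl fun b _ => h b]
  simp

theorem threeJ3_le_preserving :
    Cfsg.Spor.threeJ3 F ω ≤ Cfsg.preserving (Units.coeHom (Matrix F9 F9 F)) (herm9 (F := F)) := by
  refine (Subgroup.closure_le _).2 fun g hg => ?_
  have key : ∀ {a : ℕ}, Option.isSome (lfind witGens (fun p => Nat.beq p.1.1 a)) = true →
      (g : Matrix F9 F9 F) = matOf ω a →
      g ∈ Cfsg.preserving (Units.coeHom (Matrix F9 F9 F)) (herm9 (F := F)) := by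
    intro a ha e
    rw [show g = (snd hf).den a from
      Units.ext (e.trans (snd_den_coe hf (wit_mem hf ha).1).symm)]
    exact gen_preserves hf ha
  rcases hg with (((⟨Z, e⟩ | ⟨Z, e⟩) | ⟨Z, e⟩) | ⟨Z, hZ, e⟩) | ⟨Z, hZ, e⟩
  · exact key (gCode_mem hf Z).1 (e.symm.trans (eA_val hf Z).symm)
  · exact key (gCode_mem hf Z).2.1 (e.symm.trans (eE_val hf Z).symm)
  · exact key (gCode_mem hf Z).2.2.1 (e.symm.trans (eD_val hf Z).symm)
  · exact key ((gCode_mem hf Z).2.2.2 hZ).1 (e.trans (eB_val hf hZ).symm)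
  · exact key ((gCode_mem hf Z).2.2.2 hZ).2 (e.trans (eC_val hf hZ).symm)

theorem det_eq_one (g : Cfsg.Spor.threeJ3 F ω) :
    Matrix.det ((g : GL F9 F) : Matrix F9 F9 F) = 1 := by
  let d : Cfsg.Spor.threeJ3 F ω →* Fˣ :=
    Matrix.GeneralLinearGroup.det.comp (Cfsg.Spor.threeJ3 F ω).subtype
  have h : commutator (Cfsg.Spor.threeJ3 F ω) ≤ d.ker := Abelianization.commutator_subset_ker d
  rw [commutator_eq_top hf] at h
  have h1 : d g = 1 := h (Subgroup.mem_top g)
  have h2 := congrArg Units.val h1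
  simpa only [d, MonoidHom.comp_apply, Subgroup.coe_subtype, Matrix.GeneralLinearGroup.val_det_apply,
    Units.val_one] using h2

/-- 3·J₃ occurs in SU₉(2) with centre of order 3 and quotient of type J₃. -/
theorem exists_unitary : ∃ H : Subgroup (Cfsg.SU 9 F 2),
    Nat.card (Subgroup.center H) = 3 ∧ Cfsg.IsJ3 (H ⧸ Subgroup.center H) := by
  classical
  have hb : Function.Bijective (fun z : F9 => (⟨idx z, idx_lt z⟩ : Fin 9)) := by decide
  let e : F9 ≃ Fin 9 := Equiv.ofBijective _ hb
  let r : Matrix F9 F9 F →ₐ[F] Matrix (Fin 9) (Fin 9) F := (Matrix.reindexAlgEquiv F F e).toAlgHom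
  let f : Cfsg.Spor.threeJ3 F ω →* Matrix.SpecialLinearGroup (Fin 9) F :=
    { toFun := fun g => ⟨Matrix.reindexAlgEquiv F F e ((g : GL F9 F) : Matrix F9 F9 F), by
        rw [Matrix.det_reindexAlgEquiv]; exact det_eq_one hf g⟩
      map_one' := Subtype.ext (map_one (Matrix.reindexAlgEquiv F F e))
      map_mul' := fun a b => Subtype.ext (map_mul (Matrix.reindexAlgEquiv F F e) _ _) }
  have hmem : ∀ g, f g ∈ Cfsg.SU 9 F 2 := by
    intro g u v
    show Cfsg.hermForm 9 F 2 ((Matrix.reindex e e ((g : GL F9 F) : Matrix F9 F9 F)).mulVec u)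
      ((Matrix.reindex e e ((g : GL F9 F) : Matrix F9 F9 F)).mulVec v) = _
    have hv : ∀ u : Fin 9 → F, (Matrix.reindex e e ((g : GL F9 F) : Matrix F9 F9 F)).mulVec u =
        fun i => (((g : GL F9 F) : Matrix F9 F9 F).mulVec (fun z => u (e z))) (e.symm i) := by
      intro u
      funext i
      rw [Matrix.reindex_apply, Matrix.submatrix_mulVec_equiv]
      rfl
    rw [hv, hv]
    have hs : ∀ u v : Fin 9 → F, Cfsg.hermForm 9 F 2 u v =
        herm9 (fun z => u (e z)) (fun z => v (e z)) := fun u v =>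
      (e.sum_comp (fun i => u i * v i ^ 2)).symm
    rw [hs, hs]
    simp only [Equiv.symm_apply_apply]
    exact threeJ3_le_preserving hf g.2 _ _
  let f' : Cfsg.Spor.threeJ3 F ω →* Cfsg.SU 9 F 2 := f.codRestrict _ hmem
  have hinj : Function.Injective f' := by
    intro a b h
    have h' : Matrix.reindexAlgEquiv F F e ((a : GL F9 F) : Matrix F9 F9 F) =
        Matrix.reindexAlgEquiv F F e ((b : GL F9 F) : Matrix F9 F9 F) :=
      congrArg (fun x : Cfsg.SU 9 F 2 => ((x : Matrix.SpecialLinearGroup (Fin 9) F) :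
        Matrix (Fin 9) (Fin 9) F)) h
    exact Subtype.ext (Units.ext ((Matrix.reindexAlgEquiv F F e).injective h'))
  let E := MonoidHom.ofInjective hinj
  have hmap : (Subgroup.center (Cfsg.Spor.threeJ3 F ω)).map E.toMonoidHom =
      Subgroup.center f'.range := by
    ext y
    constructor
    · rintro ⟨z, hz, rfl⟩
      rw [Subgroup.mem_center_iff]
      intro g
      obtain ⟨g, rfl⟩ := E.surjective g
      show E g * E z = E z * E g
      rw [← map_mul, ← map_mul, Subgroup.mem_center_iff.1 hz g]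
    · intro hy
      refine ⟨E.symm y, ?_, E.apply_symm_apply y⟩
      rw [SetLike.mem_coe, Subgroup.mem_center_iff]
      intro g
      apply E.injective
      rw [map_mul, map_mul, E.apply_symm_apply]
      exact Subgroup.mem_center_iff.1 hy (E g)
  refine ⟨f'.range, ?_, ?_⟩
  · rw [← hmap]
    exact (Nat.card_congr
      (Subgroup.equivMapOfInjective _ E.toMonoidHom E.injective).toEquiv).symm.trans (card_center hf)
  · let q : Cfsg.Spor.J3 F ω ≃* f'.range ⧸ Subgroup.center f'.range :=
      QuotientGroup.congr _ _ E hmap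
    have := isSimple_J3 hf
    refine ⟨MulEquiv.isSimpleGroup q.symm, ?_⟩
    rw [← Nat.card_congr q.toEquiv, card_J3 hf]

end

end Cfsg.Agent.H44.J3
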