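import Cfsg.Agent.H44.J3.Simple
import Cfsg.Agent.H44.J3.Unitary
import Cfsg.Agent.H44.J3.Iso
import Cfsg.Agent.H44.J3.FusionCheck

/-!
A Sylow 2-subgroup S of 3·J₃, the line it fixes, and its normaliser.
-/

set_option autoImplicit false

namespace Cfsg.Agent.H44.J3

open Cfsg.Agent.Compute
open Cfsg.Spor (F9)

attribute [local irreducible] validM invM mulM appM oneM wmul sift checkChain normOK xM scalM zM powM
  bWord fS fQ fN fZ fT fR fConj fSWit fFix fSWords fNWords fLine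

theorem nth_cases {α : Type} (d : α) : ∀ (l : List α) (i : ℕ), nth d l i = d ∨ nth d l i ∈ l := by
  intro l
  induction l with
  | nil => intro i; exact Or.inl rfl
  | cons x t ih =>
    intro i
    cases i with
    | zero => exact Or.inr List.mem_cons_self
    | succ j =>
      rcases ih j with h | h
      · exact Or.inl h
      · exact Or.inr (List.mem_cons_of_mem _ h)

theorem matOf_xor {F : Type*} [Field F] (ω : F) (h2 : (2 : F) = 0) (a b : ℕ) :
    matOf ω (Nat.xor a b) = matOf ω a + matOf ω b := by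
  ext w z
  show dec ω (getP 18 (a ^^^ b) (idx z)) w = dec ω (getP 18 a (idx z)) w + dec ω (getP 18 b (idx z)) w
  have hg : getP 18 (a ^^^ b) (idx z) = Nat.xor (getP 18 a (idx z)) (getP 18 b (idx z)) := by
    refine Nat.eq_of_testBit_eq fun i => ?_
    show (((a ^^^ b) >>> (18 * idx z)) &&& (2 ^ 18 - 1)).testBit i =
      (((a >>> (18 * idx z)) &&& (2 ^ 18 - 1)) ^^^
        ((b >>> (18 * idx z)) &&& (2 ^ 18 - 1))).testBit i
    simp only [Nat.testBit_and, Nat.testBit_xor, Nat.testBit_shiftRight,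
      Nat.testBit_two_pow_sub_one]
    cases decide (i < 18) <;> simp
  rw [hg, dec_xor ω h2]
  rfl

theorem three_reps {G : Type*} [Group G] (N : Subgroup G) {a b : G} (ha : a ∉ N) (hb : b ∉ N)
    (hab : a⁻¹ * b ∉ N) (i j : Fin 3) (h : (![1, a, b] i)⁻¹ * ![1, a, b] j ∈ N) : i = j := by
  have h1 : a⁻¹ ∉ N := fun q => ha (inv_mem_iff.1 q)
  have h2 : b⁻¹ ∉ N := fun q => hb (inv_mem_iff.1 q)
  have h3 : b⁻¹ * a ∉ N := fun q => hab (by simpa using inv_mem q)
  fin_cases i <;> fin_cases j <;> first | rfl | simp_all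

section
variable {F : Type*} [Field F] [Fintype F] {ω : F} (hf : Four F ω)

/-- The Sylow 2-subgroup S. -/
noncomputable def sGrp : Subgroup (GL F9 F) := (snd hf).grp fS

/-- The subgroup Q. -/
noncomputable def qGrp : Subgroup (GL F9 F) := (snd hf).grp fQ

/-- The subgroup S⟨t, ω⟩. -/
noncomputable def nGrp : Subgroup (GL F9 F) := (snd hf).grp fN

/-- The involution z. -/
noncomputable def zEl : GL F9 F := (snd hf).den fZ.1.1

/-- The element t of order 3. -/
noncomputable def tEl : GL F9 F := (snd hf).den fT.1.1.1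

/-- The stabiliser in 3·J₃ of the fixed line of S. -/
noncomputable def lineStab (_hf : Four F ω) : Subgroup (GL F9 F) where
  carrier := {g | g ∈ Cfsg.Spor.threeJ3 F ω ∧ ∃ k : F, k ≠ 0 ∧
    (g : Matrix F9 F9 F).mulVec (dec ω fLine) = k • dec ω fLine}
  one_mem' := ⟨one_mem _, 1, one_ne_zero, by rw [Units.val_one, Matrix.one_mulVec, one_smul]⟩
  mul_mem' := by
    rintro a b ⟨ha, k, hk, e⟩ ⟨hb, k', hk', e'⟩
    exact ⟨mul_mem ha hb, k' * k, mul_ne_zero hk' hk, by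
      rw [Units.val_mul, ← Matrix.mulVec_mulVec, e', Matrix.mulVec_smul, e, smul_smul]⟩
  inv_mem' := by
    rintro a ⟨ha, k, hk, e⟩
    refine ⟨inv_mem ha, k⁻¹, inv_ne_zero hk, ?_⟩
    have h := congrArg ((↑a⁻¹ : Matrix F9 F9 F).mulVec) e
    rw [Matrix.mulVec_mulVec, ← Units.val_mul, inv_mul_cancel, Units.val_one, Matrix.one_mulVec,
      Matrix.mulVec_smul] at h
    conv_rhs => rw [h, inv_smul_smul₀ hk]

include hf

theorem one_facts : (snd hf).ok oneM ∧ (snd hf).den oneM = 1 :=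
  ⟨(snd hf).ok_one, (snd hf).den_one⟩

theorem wit_all {p : (ℕ × ℕ) × ℕ × ℕ} (hp : p ∈ fWitAll) :
    (snd hf).ok p.1.1 ∧ (snd hf).ok p.1.2 ∧
      (snd hf).den p.1.2 = ((snd hf).den p.1.1)⁻¹ ∧
      (snd hf).den p.1.1 ∈ Cfsg.Spor.threeJ3 F ω := by
  have h := (lall_iff _ _).1 fWit_ok p hp
  obtain ⟨-, hT⟩ := inT_sound hf cert_ok h
  simp only [GCert.inT, Bool.and_eq_true] at h
  obtain ⟨a, b, e⟩ := (snd hf).okInv_sound (a := p.1.1) (b := p.1.2) h.1.1.1.1
  refine ⟨a, b, e, ?_⟩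
  rw [threeJ3_eq hf]
  exact (mem_closure_iff hf cert_ok _).2 hT

theorem gen_inv {ls : List (Level ℕ)} (hc : checkChain mOps ls = true) {g : ℕ × ℕ}
    (hg : g ∈ nextGens ls) :
    (snd hf).ok g.1 ∧ (snd hf).den g.1 ∈ (snd hf).grp ls ∧ (snd hf).ok g.2 ∧
      (snd hf).den g.2 = ((snd hf).den g.1)⁻¹ := by
  cases ls with
  | nil => exact absurd hg (List.not_mem_nil)
  | cons l t =>
    have h' : (levelOK mOps l t && checkChain mOps t) = true := by
      unfold checkChain at hc ⊢; exact hc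
    rw [Bool.and_eq_true] at h'
    have h := h'.1
    simp only [levelOK, Bool.and_eq_true, lall_iff] at h
    obtain ⟨a, b, e⟩ := (snd hf).okInv_sound (a := g.1) (b := g.2) (h.1.1.1.1.1.1 g hg)
    exact ⟨a, gens_mem (snd hf) (l :: t) hg, b, e⟩

theorem sift_iff' {ls : List (Level ℕ)} (hc : checkChain mOps ls = true) {a : ℕ}
    (ha : (snd hf).ok a) : sift mOps ls a = true ↔ (snd hf).den a ∈ (snd hf).grp ls :=
  (checkChain_sound (snd hf) hc).sift_iff a ha

theorem grp_le {ls : List (Level ℕ)} {H : Subgroup (GL F9 F)}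
    (h : ∀ g ∈ nextGens ls, (snd hf).den g.1 ∈ H) : (snd hf).grp ls ≤ H :=
  (Subgroup.closure_le _).2 (by rintro _ ⟨a, ⟨g, hg, rfl⟩, rfl⟩; exact h g hg)

theorem elemsOf_spec : ∀ {ls : List (Level ℕ)}, checkChain mOps ls = true →
    (∀ a ∈ elemsOf ls, (snd hf).ok a) ∧
      ∀ g ∈ (snd hf).grp ls, ∃ a ∈ elemsOf ls, (snd hf).den a = g := by
  intro ls
  induction ls with
  | nil =>
    intro _
    refine ⟨fun a ha => ?_, fun g hg => ⟨oneM, List.mem_singleton.2 rfl, ?_⟩⟩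
    · rw [show a = oneM from List.mem_singleton.1 ha]; exact (snd hf).ok_one
    · have : g = 1 := by simpa [Sound.grp, nextGens] using hg
      rw [this]; exact (snd hf).den_one
  | cons l t ih =>
    intro hc
    obtain ⟨hok, hel⟩ := ih (checkChain_tail hc)
    have F' := checkChain_facts (snd hf) hc
    have M := checkChain_sound (snd hf) (checkChain_tail hc)
    have hmem : ∀ {a : ℕ}, a ∈ elemsOf (l :: t) ↔
        ∃ e ∈ l.orb, ∃ b ∈ elemsOf t, mulM e.u b = a := fun {a} => by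
      rw [show elemsOf (l :: t) = l.orb.flatMap (fun e => (elemsOf t).map (mulM e.u)) from rfl]
      simp only [List.mem_flatMap, List.mem_map]
    refine ⟨fun a ha => ?_, fun g hg => ?_⟩
    · obtain ⟨e, he, b, hb, rfl⟩ := hmem.1 ha
      exact (snd hf).ok_mul (F'.orb_ok e he).1 (hok b hb)
    · obtain ⟨e, he, h, hh, rfl⟩ := F'.coset M hg
      obtain ⟨b, hb, rfl⟩ := hel h hh
      exact ⟨_, hmem.2 ⟨e, he, b, hb, rfl⟩, (snd hf).den_mul (F'.orb_ok e he).1 (hok b hb)⟩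

theorem commB_iff {a b : ℕ} (ha : (snd hf).ok a) (hb : (snd hf).ok b) :
    commB a b = true ↔ Commute ((snd hf).den a) ((snd hf).den b) := by
  have h := (snd hf).eqv_iff (a := mOps.mul a b) (b := mOps.mul b a) ((snd hf).ok_mul ha hb)
    ((snd hf).ok_mul hb ha)
  rw [(snd hf).den_mul ha hb, (snd hf).den_mul hb ha] at h
  exact h

theorem card_sGrp : Nat.card (sGrp hf) = 128 := by
  rw [sGrp, (checkChain_sound (snd hf) fS_ok).card]
  decide +kernel

theorem card_nGrp : Nat.card (nGrp hf) = 1152 := by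
  rw [nGrp, (checkChain_sound (snd hf) fN_ok).card]
  decide +kernel

theorem inWit_mem {g : ℕ} (h : inWit g = true) :
    (snd hf).den g ∈ Cfsg.Spor.threeJ3 F ω := by
  obtain ⟨p, hp⟩ := Option.isSome_iff_exists.1 h
  obtain ⟨hm, he⟩ := lfind_some hp
  rw [Nat.beq_eq] at he
  exact he ▸ (wit_all hf (List.mem_append_left _ hm)).2.2.2

omit hf in
theorem fZOK_parts :
    (∀ g ∈ nextGens fS ++ nextGens fQ, inWit g.1 = true) ∧
    sift mOps fS fZ.1.1 = true ∧ Nat.beq fZ.1.1 oneM = false ∧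
    (∀ g ∈ nextGens fS, commB fZ.1.1 g.1 = true) ∧
    (∀ s ∈ elemsOf fS, (∀ g ∈ nextGens fS, commB s g.1 = true) → s = oneM ∨ s = fZ.1.1) := by
  have h := fZ_ok
  simp only [fZOK, Bool.and_eq_true, lall_iff, Bool.not_eq_true', Bool.or_eq_true,
    Nat.beq_eq] at h
  obtain ⟨⟨⟨⟨a, b⟩, c⟩, d⟩, e⟩ := h
  refine ⟨a, b, c, d, fun s hs hc => ?_⟩
  rcases e s hs with (h' | h') | h'
  · rw [(lall_iff _ _).2 hc] at h'; exact absurd h' (by simp)
  · exact Or.inl h'
  · exact Or.inr h'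

theorem sGrp_le : sGrp hf ≤ Cfsg.Spor.threeJ3 F ω :=
  grp_le hf fun g hg => inWit_mem hf (fZOK_parts.1 g (List.mem_append_left _ hg))

theorem qGrp_le : qGrp hf ≤ Cfsg.Spor.threeJ3 F ω :=
  grp_le hf fun g hg => inWit_mem hf (fZOK_parts.1 g (List.mem_append_right _ hg))

theorem fT_wit : fT.1 ∈ fWitAll ∧ fT.2.1 ∈ fWitAll ∧ fT.2.2 ∈ fWitAll ∧ fZ ∈ fWitAll := by
  have h : ∀ x ∈ [fZ, fT.1, fT.2.1, fT.2.2], x ∈ fWitAll := fun x hx =>
    List.mem_append_right _ (List.mem_append_right _ (List.mem_append_right _ hx))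
  exact ⟨h _ (List.mem_cons_of_mem _ List.mem_cons_self),
    h _ (List.mem_cons_of_mem _ (List.mem_cons_of_mem _ List.mem_cons_self)),
    h _ (List.mem_cons_of_mem _ (List.mem_cons_of_mem _ (List.mem_cons_of_mem _ List.mem_cons_self))),
    h _ List.mem_cons_self⟩

theorem z_facts : zEl hf ∈ sGrp hf ∧ zEl hf ≠ 1 ∧ (∀ s ∈ sGrp hf, Commute (zEl hf) s) ∧
    ∀ c ∈ sGrp hf, (∀ s ∈ sGrp hf, Commute c s) → c = 1 ∨ c = zEl hf := by
  obtain ⟨-, hs, hne, hcomm, hcen⟩ := fZOK_parts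
  obtain ⟨oz, -, -, -⟩ := wit_all hf (fT_wit hf).2.2.2
  refine ⟨(sift_iff' hf fS_ok oz).1 hs, ?_, ?_, ?_⟩
  · intro h
    have h' := ((snd hf).eqv_iff oz (snd hf).ok_one).2 (h.trans (snd hf).den_one.symm)
    rw [show Nat.beq fZ.1.1 oneM = mOps.eqv fZ.1.1 mOps.one from rfl, h'] at hne
    exact absurd hne (by simp)
  · intro s hs'
    refine Subgroup.mem_centralizer_singleton_iff.1 (((grp_le hf fun g hg => ?_) :
      sGrp hf ≤ Subgroup.centralizer {zEl hf}) hs') |>.symm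
    exact Subgroup.mem_centralizer_singleton_iff.2
      ((commB_iff hf oz (gen_inv hf fS_ok hg).1).1 (hcomm g hg)).eq.symm
  · intro c hc hcc
    obtain ⟨hok, hel⟩ := elemsOf_spec hf fS_ok
    obtain ⟨a, ha, rfl⟩ := hel c hc
    rcases hcen a ha (fun g hg => (commB_iff hf (hok a ha) (gen_inv hf fS_ok hg).1).2
      (hcc _ (gen_inv hf fS_ok hg).2.1)) with rfl | rfl
    · exact Or.inl (snd hf).den_one
    · exact Or.inr rfl

omit hf in
theorem fQOK_parts :
    (∀ q ∈ nextGens fQ, sift mOps fS q.1 = true) ∧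
    (∀ g ∈ nextGens fS, ∀ q ∈ nextGens fQ, sift mOps fQ (mulM g.1 (mulM q.1 g.2)) = true) ∧
    (∀ s ∈ elemsOf fS, (∀ q ∈ nextGens fQ, commB s q.1 = true) → sift mOps fQ s = true) ∧
    (∀ a ∈ [fT.2.1.1, fT.2.2.1], Nat.beq (powM a.1 8) oneM = true ∧
      ∀ q ∈ nextGens fQ, sift mOps fQ (mulM a.1 (mulM q.1 a.2)) = true) ∧
    Nat.beq (mulM fT.2.1.1.1 fT.2.2.1.1) fT.1.1.1 = true := by
  have h := fQ_facts
  unfold fQOK at h
  rw [Bool.and_eq_true, Bool.and_eq_true, Bool.and_eq_true, Bool.and_eq_true] at h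
  obtain ⟨⟨⟨⟨a, b⟩, c⟩, d⟩, e⟩ := h
  refine ⟨(lall_iff _ _).1 a, fun g hg => (lall_iff _ _).1 ((lall_iff _ _).1 b g hg), ?_, ?_, e⟩
  · intro s hs hc
    have := (lall_iff _ _).1 c s hs
    rw [Bool.or_eq_true, (lall_iff _ _).2 hc] at this
    simpa using this
  · intro x hx
    have := (lall_iff _ _).1 d x hx
    rw [Bool.and_eq_true] at this
    exact ⟨this.1, (lall_iff _ _).1 this.2⟩

theorem conj_grp_le {ls ls' : List (Level ℕ)} (hc : checkChain mOps ls = true)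
    (hc' : checkChain mOps ls' = true) {a ai : ℕ} (ha : (snd hf).ok a) (hai : (snd hf).ok ai)
    (he : (snd hf).den ai = ((snd hf).den a)⁻¹)
    (h : ∀ q ∈ nextGens ls, sift mOps ls' (mulM a (mulM q.1 ai)) = true) :
    ∀ y ∈ (snd hf).grp ls, (snd hf).den a * y * ((snd hf).den a)⁻¹ ∈ (snd hf).grp ls' := by
  intro y hy
  refine Subgroup.closure_induction
    (p := fun (y : GL F9 F) _ => (snd hf).den a * y * ((snd hf).den a)⁻¹ ∈ (snd hf).grp ls')
    ?_ (by simp) ?_ ?_ hy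
  · rintro _ ⟨b, ⟨q, hq, rfl⟩, rfl⟩
    obtain ⟨oq, -, -, -⟩ := gen_inv hf hc hq
    have hm := (sift_iff' hf hc' ((snd hf).ok_mul ha ((snd hf).ok_mul oq hai))).1 (h q hq)
    rw [(snd hf).den_mul ha ((snd hf).ok_mul oq hai), (snd hf).den_mul oq hai, he,
      ← mul_assoc] at hm
    exact hm
  · intro u v _ _ hu hv
    have := mul_mem hu hv
    rwa [show (snd hf).den a * u * ((snd hf).den a)⁻¹ * ((snd hf).den a * v * ((snd hf).den a)⁻¹) =
      (snd hf).den a * (u * v) * ((snd hf).den a)⁻¹ by group] at this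
  · intro u _ hu
    have := inv_mem hu
    rwa [show ((snd hf).den a * u * ((snd hf).den a)⁻¹)⁻¹ =
      (snd hf).den a * u⁻¹ * ((snd hf).den a)⁻¹ by group] at this

theorem q_facts : qGrp hf ≤ sGrp hf ∧
    (∀ s ∈ sGrp hf, ∀ y ∈ qGrp hf, s * y * s⁻¹ ∈ qGrp hf) ∧
    (∀ s ∈ sGrp hf, (∀ y ∈ qGrp hf, Commute s y) → s ∈ qGrp hf) := by
  obtain ⟨hle, hn, hc, -, -⟩ := fQOK_parts
  refine ⟨grp_le hf fun q hq => (sift_iff' hf fS_ok (gen_inv hf fQ_ok hq).1).1 (hle q hq), ?_, ?_⟩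
  · intro s hs
    have hfin : Finite (qGrp hf) := Nat.finite_of_card_ne_zero (by
      rw [qGrp, (checkChain_sound (snd hf) fQ_ok).card]
      exact (checkChain_sound (snd hf) fQ_ok).pos.ne')
    refine Subgroup.closure_induction
      (p := fun (s : GL F9 F) _ => ∀ y ∈ qGrp hf, s * y * s⁻¹ ∈ qGrp hf) ?_ (by simp) ?_ ?_ hs
    · rintro _ ⟨b, ⟨g, hg, rfl⟩, rfl⟩
      obtain ⟨og, -, ogi, ei⟩ := gen_inv hf fS_ok hg
      exact conj_grp_le hf fQ_ok fQ_ok og ogi ei (hn g hg)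
    · intro u v _ _ hu hv y hy
      have := hu _ (hv y hy)
      rwa [show u * (v * y * v⁻¹) * u⁻¹ = u * v * y * (u * v)⁻¹ by group] at this
    · intro u _ hu y hy
      obtain ⟨x, hx⟩ := (Finite.injective_iff_surjective.1
        (show Function.Injective (fun x : qGrp hf => (⟨u * x * u⁻¹, hu x x.2⟩ : qGrp hf)) from
          fun a b e => Subtype.ext (by simpa using congrArg Subtype.val e))) ⟨y, hy⟩
      have hx' : u * (x : GL F9 F) * u⁻¹ = y := congrArg Subtype.val hx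
      rw [← hx', show u⁻¹ * (u * (x : GL F9 F) * u⁻¹) * u⁻¹⁻¹ = x by group]
      exact x.2
  · intro s hs hcomm
    obtain ⟨hok, hel⟩ := elemsOf_spec hf fS_ok
    obtain ⟨a, ha, rfl⟩ := hel s hs
    exact (sift_iff' hf fQ_ok (hok a ha)).1 (hc a ha fun q hq =>
      (commB_iff hf (hok a ha) (gen_inv hf fQ_ok hq).1).2
        (hcomm _ (gen_inv hf fQ_ok hq).2.1))

/-- t is a product of two 2-elements normalising Q. -/
theorem t_facts : ∃ a ∈ Cfsg.Spor.threeJ3 F ω, ∃ b ∈ Cfsg.Spor.threeJ3 F ω,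
    a * b = tEl hf ∧ a ^ 8 = 1 ∧ b ^ 8 = 1 ∧
    (∀ y ∈ qGrp hf, a * y * a⁻¹ ∈ qGrp hf) ∧ (∀ y ∈ qGrp hf, b * y * b⁻¹ ∈ qGrp hf) := by
  obtain ⟨-, -, -, hab, hprod⟩ := fQOK_parts
  obtain ⟨oa, oai, eai, ma⟩ := wit_all hf (fT_wit hf).2.1
  obtain ⟨ob, obi, ebi, mb⟩ := wit_all hf (fT_wit hf).2.2.1
  obtain ⟨ha8, haq⟩ := hab fT.2.1.1 (List.mem_cons_self)
  obtain ⟨hb8, hbq⟩ := hab fT.2.2.1 (List.mem_cons_of_mem _ List.mem_cons_self)
  refine ⟨_, ma, _, mb, ?_, ?_, ?_, conj_grp_le hf fQ_ok fQ_ok oa oai eai haq,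
    conj_grp_le hf fQ_ok fQ_ok ob obi ebi hbq⟩
  · rw [tEl, ← (snd hf).den_mul oa ob,
      show mOps.mul fT.2.1.1.1 fT.2.2.1.1 = fT.1.1.1 from Nat.eq_of_beq_eq_true hprod]
  · rw [← (den_powM hf oa 8).2, Nat.eq_of_beq_eq_true ha8]
    exact (snd hf).den_one
  · rw [← (den_powM hf ob 8).2, Nat.eq_of_beq_eq_true hb8]
    exact (snd hf).den_one

omit hf in
theorem fConjOK_parts :
    (∀ i < fConj.length, sift mOps fS (fZConj i) = true) ∧
    (∀ w ∈ fSWords, ∀ a ∈ w, a < fConj.length) ∧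
    fSWords.length = (nextGens fS).length ∧
    (∀ n < (nextGens fS).length,
      (nth (oneM, oneM) (nextGens fS) n).1 = fSWord (nth [] fSWords n)) := by
  have h := fConj_ok
  unfold fConjOK at h
  rw [Bool.and_eq_true, Bool.and_eq_true, Bool.and_eq_true] at h
  obtain ⟨⟨⟨a, b⟩, c⟩, d⟩ := h
  exact ⟨(allN_iff _ _).1 a,
    fun w hw x hx => Nat.ble_eq.mp ((lall_iff _ _).1 ((lall_iff _ _).1 b w hw) x hx),
    Nat.eq_of_beq_eq_true c, fun n hn => Nat.eq_of_beq_eq_true ((allN_iff _ _).1 d n hn)⟩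

/-- S is generated by conjugates of z. -/
theorem sGrp_le_conj : sGrp hf ≤ Subgroup.closure
    {x : GL F9 F | x ∈ sGrp hf ∧ ∃ g ∈ Cfsg.Spor.threeJ3 F ω, g * zEl hf * g⁻¹ = x} := by
  obtain ⟨hs, hw, hlen, hg⟩ := fConjOK_parts
  obtain ⟨oz, -, -, -⟩ := wit_all hf (fT_wit hf).2.2.2
  have hmem : ∀ i < fConj.length, (snd hf).ok (fZConj i) ∧ (snd hf).den (fZConj i) ∈
      {x : GL F9 F | x ∈ sGrp hf ∧ ∃ g ∈ Cfsg.Spor.threeJ3 F ω, g * zEl hf * g⁻¹ = x} := by
    intro i hi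
    have hin : nth ((oneM, oneM), 0, 0) fConj i ∈ fWitAll :=
      List.mem_append_right _ (List.mem_append_left _ (nth_mem _ _ i hi))
    obtain ⟨oa, oai, e, ma⟩ := wit_all hf hin
    have ok' : (snd hf).ok (fZConj i) := (snd hf).ok_mul oa ((snd hf).ok_mul oz oai)
    refine ⟨ok', (sift_iff' hf fS_ok ok').1 (hs i hi), _, ma, ?_⟩
    rw [show fZConj i = mOps.mul (nth ((oneM, oneM), 0, 0) fConj i).1.1
        (mOps.mul fZ.1.1 (nth ((oneM, oneM), 0, 0) fConj i).1.2) from rfl,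
      (snd hf).den_mul oa ((snd hf).ok_mul oz oai), (snd hf).den_mul oz oai, e, ← mul_assoc]
    rfl
  have hword : ∀ w : List ℕ, (∀ a ∈ w, a < fConj.length) → (snd hf).ok (fSWord w) ∧
      (snd hf).den (fSWord w) ∈ Subgroup.closure
        {x : GL F9 F | x ∈ sGrp hf ∧ ∃ g ∈ Cfsg.Spor.threeJ3 F ω, g * zEl hf * g⁻¹ = x} := by
    intro w
    induction w with
    | nil => intro _; exact ⟨(snd hf).ok_one, by
        rw [show (snd hf).den (fSWord []) = 1 from (snd hf).den_one]; exact one_mem _⟩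
    | cons a t ih =>
      intro h
      obtain ⟨oa, ma⟩ := hmem a (h a List.mem_cons_self)
      obtain ⟨ot, mt⟩ := ih fun b hb => h b (List.mem_cons_of_mem _ hb)
      refine ⟨(snd hf).ok_mul oa ot, ?_⟩
      rw [show fSWord (a :: t) = mOps.mul (fZConj a) (fSWord t) from rfl,
        (snd hf).den_mul oa ot]
      exact mul_mem (Subgroup.subset_closure ma) mt
  refine grp_le hf fun g hgm => ?_
  obtain ⟨n, hn, rfl⟩ := List.getElem_of_mem hgm
  have e := hg n hn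
  rw [nth_eq_getElem _ _ _ hn] at e
  rw [e]
  exact (hword _ (hw _ (nth_mem _ _ n (hlen ▸ hn)))).2

omit hf in
theorem fNOK_parts :
    (∀ g ∈ nextGens fS, sift mOps fN g.1 = true ∧ Nat.beq (appM g.1 fLine) fLine = true) ∧
    (∀ n < (nextGens fN).length,
      (nth (oneM, oneM) (nextGens fN) n).1 = fNWord (nth [] fNWords n) ∧
      lineEq (appM (nth (oneM, oneM) (nextGens fN) n).1 fLine) fLine = true ∧
      ∀ s ∈ nextGens fS, sift mOps fS (mulM (nth (oneM, oneM) (nextGens fN) n).1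
        (mulM s.1 (nth (oneM, oneM) (nextGens fN) n).2)) = true) ∧
    sift mOps fN scalM = true ∧ sift mOps fN fT.1.1.1 = true ∧ fLine = iCode isoRoot ∧
    (∀ i < 2, lineEq (appM (nth (((oneM, oneM), 0, 0), 0) fR i).1.1.1 fLine) fLine = true ∧
      sift mOps fN (nth (((oneM, oneM), 0, 0), 0) fR i).1.1.1 = false ∧
      (nth (((oneM, oneM), 0, 0), 0) fR i).2 < (nextGens fS).length ∧
      sift mOps fS (mulM (nth (((oneM, oneM), 0, 0), 0) fR i).1.1.1
        (mulM (nth (oneM, oneM) (nextGens fS) (nth (((oneM, oneM), 0, 0), 0) fR i).2).1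
          (nth (((oneM, oneM), 0, 0), 0) fR i).1.1.2)) = false) ∧
    sift mOps fN (mulM (nth (((oneM, oneM), 0, 0), 0) fR 0).1.1.2
      (nth (((oneM, oneM), 0, 0), 0) fR 1).1.1.1) = false := by
  have h := fN_facts
  unfold fNOK at h
  simp only [Bool.and_eq_true, lall_iff, allN_iff, Bool.not_eq_true', Nat.ble_eq] at h
  obtain ⟨⟨⟨⟨⟨⟨a, b⟩, c⟩, d⟩, e⟩, f⟩, g⟩ := h
  exact ⟨a, fun n hn => ⟨Nat.eq_of_beq_eq_true (b n hn).1.1, (b n hn).1.2, (b n hn).2⟩, c, d,
    Nat.eq_of_beq_eq_true e, fun i hi => ⟨(f i hi).1.1.1, (f i hi).1.1.2, (f i hi).1.2, (f i hi).2⟩, g⟩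

theorem fLine_lt : fLine < 262144 := by
  have h := (iCode_spec isoRoot_lt).1
  rw [← fNOK_parts.2.2.2.2.1] at h
  simp only [repOK, Bool.and_eq_true, Nat.ble_eq] at h
  exact h.1.1.1

theorem line_of_lineEq {a : ℕ} (ha : (snd hf).ok a)
    (hm : (snd hf).den a ∈ Cfsg.Spor.threeJ3 F ω)
    (h : lineEq (appM a fLine) fLine = true) : (snd hf).den a ∈ lineStab hf := by
  obtain ⟨k, hk, e⟩ := lineEq_sound hf (fLine_lt hf) h
  rw [dec_appM_den hf ha] at e
  exact ⟨hm, k, hk, e⟩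

theorem nGrp_facts : sGrp hf ≤ nGrp hf ∧
    nGrp hf ≤ Subgroup.closure ((sGrp hf : Set (GL F9 F)) ∪ {tEl hf, scEl hf}) ∧
    nGrp hf ≤ lineStab hf ∧
    (∀ n ∈ nGrp hf, ∀ y ∈ sGrp hf, n * y * n⁻¹ ∈ sGrp hf) := by
  obtain ⟨hS, hN, hsc, ht, -, -, -⟩ := fNOK_parts
  obtain ⟨ot, -, -, mt⟩ := wit_all hf (fT_wit hf).1
  let W : Subgroup (GL F9 F) :=
    Subgroup.closure ((sGrp hf : Set (GL F9 F)) ∪ {tEl hf, scEl hf})
  have hgen : ∀ a, (snd hf).ok (fNGen a) ∧ (snd hf).den (fNGen a) ∈ W ∧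
      (snd hf).den (fNGen a) ∈ Cfsg.Spor.threeJ3 F ω := by
    intro a
    unfold fNGen
    rcases nth_cases oneM ((nextGens fS).map Prod.fst ++ [fT.1.1.1, scalM]) a with e | hm
    · rw [e]
      obtain ⟨o1, d1⟩ := one_facts hf
      exact ⟨o1, d1.symm ▸ one_mem W, d1.symm ▸ one_mem _⟩
    · rcases List.mem_append.1 hm with hm | hm
      · obtain ⟨g, hg, e⟩ := List.mem_map.1 hm
        rw [← e]
        obtain ⟨og, mg, -, -⟩ := gen_inv hf fS_ok hg
        exact ⟨og, Subgroup.subset_closure (Or.inl mg), sGrp_le hf mg⟩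
      · rcases List.mem_cons.1 hm with e | hm
        · rw [e]; exact ⟨ot, Subgroup.subset_closure (Or.inr (Or.inl rfl)), mt⟩
        · rw [List.mem_singleton.1 hm]
          exact ⟨scal_ok' hf, Subgroup.subset_closure (Or.inr (Or.inr rfl)), scEl_mem hf⟩
  have hword : ∀ w : List ℕ, (snd hf).ok (fNWord w) ∧ (snd hf).den (fNWord w) ∈ W ∧
      (snd hf).den (fNWord w) ∈ Cfsg.Spor.threeJ3 F ω := by
    intro w
    induction w with
    | nil => refine ⟨(snd hf).ok_one, ?_, ?_⟩ <;>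
        rw [show (snd hf).den (fNWord []) = 1 from (snd hf).den_one] <;> exact one_mem _
    | cons a t ih =>
      refine ⟨(snd hf).ok_mul (hgen a).1 ih.1, ?_, ?_⟩ <;>
        rw [show fNWord (a :: t) = mOps.mul (fNGen a) (fNWord t) from rfl,
          (snd hf).den_mul (hgen a).1 ih.1]
      · exact mul_mem (hgen a).2.1 ih.2.1
      · exact mul_mem (hgen a).2.2 ih.2.2
  have gens : ∀ g ∈ nextGens fN, (snd hf).den g.1 ∈ W ∧ (snd hf).den g.1 ∈ lineStab hf ∧
      ∀ y ∈ sGrp hf, (snd hf).den g.1 * y * ((snd hf).den g.1)⁻¹ ∈ sGrp hf := by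
    intro g hg
    obtain ⟨og, -, ogi, ei⟩ := gen_inv hf fN_ok hg
    obtain ⟨n, hn, rfl⟩ := List.getElem_of_mem hg
    obtain ⟨ew, hl, hnorm⟩ := hN n hn
    rw [nth_eq_getElem _ _ _ hn] at ew hl hnorm
    refine ⟨by rw [ew]; exact (hword _).2.1,
      line_of_lineEq hf og (by rw [ew]; exact (hword _).2.2) hl,
      conj_grp_le hf fS_ok fS_ok og ogi ei hnorm⟩
  refine ⟨grp_le hf fun g hg => (sift_iff' hf fN_ok (gen_inv hf fS_ok hg).1).1 (hS g hg).1,
    grp_le hf fun g hg => (gens g hg).1, grp_le hf fun g hg => (gens g hg).2.1, ?_⟩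
  intro n hn
  have hfin : Finite (sGrp hf) := Nat.finite_of_card_ne_zero (by rw [card_sGrp]; norm_num)
  refine Subgroup.closure_induction
    (p := fun (n : GL F9 F) _ => ∀ y ∈ sGrp hf, n * y * n⁻¹ ∈ sGrp hf) ?_ (by simp) ?_ ?_ hn
  · rintro _ ⟨b, ⟨g, hg, rfl⟩, rfl⟩
    exact (gens g hg).2.2
  · intro u v _ _ hu hv y hy
    have := hu _ (hv y hy)
    rwa [show u * (v * y * v⁻¹) * u⁻¹ = u * v * y * (u * v)⁻¹ by group] at this
  · intro u _ hu y hy
    obtain ⟨x, hx⟩ := (Finite.injective_iff_surjective.1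
      (show Function.Injective (fun x : sGrp hf => (⟨u * x * u⁻¹, hu x x.2⟩ : sGrp hf)) from
        fun a b e => Subtype.ext (by simpa using congrArg Subtype.val e))) ⟨y, hy⟩
    have hx' : u * (x : GL F9 F) * u⁻¹ = y := congrArg Subtype.val hx
    rw [← hx', show u⁻¹ * (u * (x : GL F9 F) * u⁻¹) * u⁻¹⁻¹ = x by group]
    exact x.2

theorem iso_preserved {g : GL F9 F} (hg : g ∈ Cfsg.Spor.threeJ3 F ω) {v : F9 → F}
    (h : ∑ z, v z ^ 3 = 0) : ∑ z, (g : Matrix F9 F9 F).mulVec v z ^ 3 = 0 := by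
  have e := threeJ3_le_preserving hf hg v v
  simp only [herm9, Units.coeHom_apply, Matrix.GeneralLinearGroup.toLin'] at e
  simpa only [← pow_succ'] using e.trans (by simpa only [← pow_succ'] using h)

theorem card_lineStab : Nat.card (lineStab hf) = 3456 := by
  classical
  choose u hu1 k hk hu2 using fun i : Fin isoN => iso_reached hf i.2
  have hline : fLine = iCode isoRoot := fNOK_parts.2.2.2.2.1
  have hinv : ∀ (g : GL F9 F) (c : F) (v w : F9 → F), c ≠ 0 →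
      (g : Matrix F9 F9 F).mulVec v = c • w →
      (↑g⁻¹ : Matrix F9 F9 F).mulVec w = c⁻¹ • v := by
    intro g c v w hc e
    have h := congrArg ((↑g⁻¹ : Matrix F9 F9 F).mulVec) e
    rw [Matrix.mulVec_mulVec, ← Units.val_mul, inv_mul_cancel, Units.val_one, Matrix.one_mulVec,
      Matrix.mulVec_smul] at h
    conv_rhs => rw [h, inv_smul_smul₀ hc]
  have hmem : ∀ p : Fin isoN × lineStab hf,
      u p.1 * (p.2 : GL F9 F) ∈ Cfsg.Spor.threeJ3 F ω := fun p => mul_mem (hu1 p.1) p.2.2.1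
  have hfun : Function.Bijective (fun p : Fin isoN × lineStab hf =>
      (⟨u p.1 * p.2, hmem p⟩ : Cfsg.Spor.threeJ3 F ω)) := by
    constructor
    · rintro ⟨i, a⟩ ⟨j, b⟩ e
      have e' : u i * (a : GL F9 F) = u j * b := congrArg Subtype.val e
      obtain ⟨-, c, hc, ea⟩ := a.2
      obtain ⟨-, c', hc', eb⟩ := b.2
      have e1 : ((u i * (a : GL F9 F) : GL F9 F) : Matrix F9 F9 F).mulVec (dec ω fLine) =
          (c * k i) • dec ω (iCode i) := by
        rw [Units.val_mul, ← Matrix.mulVec_mulVec, ea, Matrix.mulVec_smul, hline, hu2, smul_smul]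
      have e2 : ((u j * (b : GL F9 F) : GL F9 F) : Matrix F9 F9 F).mulVec (dec ω fLine) =
          (c' * k j) • dec ω (iCode j) := by
        rw [Units.val_mul, ← Matrix.mulVec_mulVec, eb, Matrix.mulVec_smul, hline, hu2, smul_smul]
      rw [e', e2] at e1
      have hij : i = j := by
        refine Fin.ext (iso_inj hf i.2 j.2 (c := (c * k i)⁻¹ * (c' * k j))
          (mul_ne_zero (inv_ne_zero (mul_ne_zero hc (hk i))) (mul_ne_zero hc' (hk j))) ?_)
        rw [← smul_smul, e1, inv_smul_smul₀ (mul_ne_zero hc (hk i))]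
      subst hij
      rw [mul_right_inj] at e'
      rw [Subtype.ext e']
    · rintro ⟨g, hg⟩
      have hne : (g : Matrix F9 F9 F).mulVec (dec ω fLine) ≠ 0 := by
        intro e
        have h := congrArg ((↑g⁻¹ : Matrix F9 F9 F).mulVec) e
        rw [Matrix.mulVec_mulVec, ← Units.val_mul, inv_mul_cancel, Units.val_one,
          Matrix.one_mulVec, Matrix.mulVec_zero] at h
        exact iso_ne_zero hf isoRoot_lt (hline ▸ h)
      have hiso : ∑ z, (g : Matrix F9 F9 F).mulVec (dec ω fLine) z ^ 3 = 0 :=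
        iso_preserved hf hg (hline ▸ iso_sum hf isoRoot_lt)
      obtain ⟨i, hi, c, hc, e⟩ := iso_line_listed hf hne hiso
      refine ⟨⟨⟨i, hi⟩, ⟨(u ⟨i, hi⟩)⁻¹ * g, mul_mem (inv_mem (hu1 _)) hg,
        c * (k ⟨i, hi⟩)⁻¹, mul_ne_zero hc (inv_ne_zero (hk _)), ?_⟩⟩,
        Subtype.ext (mul_inv_cancel_left _ _)⟩
      rw [Units.val_mul, ← Matrix.mulVec_mulVec, e, Matrix.mulVec_smul,
        hinv _ _ _ _ (hk ⟨i, hi⟩) (hu2 ⟨i, hi⟩), smul_smul, hline]
  have h := Nat.card_eq_of_bijective _ hfun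
  rw [Nat.card_prod, Nat.card_fin, card_threeJ3 hf] at h
  have h' : 43605 * Nat.card (lineStab hf) = 150698880 := h
  omega

/-- Elements of 3·J₃ normalising S lie in ⟨S, t, ω⟩. -/
theorem normalizer_sGrp {g : GL F9 F} (hg : g ∈ Cfsg.Spor.threeJ3 F ω)
    (hn : ∀ y ∈ sGrp hf, g * y * g⁻¹ ∈ sGrp hf) :
    g ∈ Subgroup.closure ((sGrp hf : Set (GL F9 F)) ∪ {tEl hf, scEl hf}) := by
  classical
  obtain ⟨hsn, hnw, hnl, hnn⟩ := nGrp_facts hf
  -- S fixes exactly one line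
  have hfix : ∀ v : F9 → F, (∀ y ∈ sGrp hf, (y : Matrix F9 F9 F).mulVec v = v) →
      ∃ c : F, v = c • dec ω fLine := by
    intro v hv
    have key : ∀ l : List (ℕ × ℕ), (∀ p ∈ l, validM p.1 = true ∧
        ∃ g ∈ nextGens fS, g.1 = p.2) →
        (matOf ω (List.rec (motive := fun _ => ℕ) oneM
          (fun p _ ih => Nat.xor (mulM p.1 (Nat.xor p.2 oneM)) ih) l)).mulVec v = v := by
      intro l
      induction l with
      | nil =>
        intro _
        show (matOf ω oneM).mulVec v = v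
        rw [matOf_oneM, Matrix.one_mulVec]
      | cons p t ih =>
        intro h
        obtain ⟨hv1, g', hg', e⟩ := h p List.mem_cons_self
        obtain ⟨og, mg, -, -⟩ := gen_inv hf fS_ok hg'
        show (matOf ω (Nat.xor (mulM p.1 (Nat.xor p.2 oneM)) _)).mulVec v = v
        rw [matOf_xor ω hf.two, Matrix.add_mulVec,
          ih (fun q hq => h q (List.mem_cons_of_mem _ hq)), matOf_mulM ω hf.two hf.root hv1,
          ← Matrix.mulVec_mulVec, matOf_xor ω hf.two, matOf_oneM, ← e,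
          ← snd_den_coe hf og, Matrix.add_mulVec, hv _ mg, Matrix.one_mulVec,
          show v + v = 0 from funext fun w => by
            show v w + v w = 0
            rw [← two_mul, hf.two, zero_mul],
          Matrix.mulVec_zero, zero_add]
    have hparts := fFix_ok
    unfold fFixOK at hparts
    rw [Bool.and_eq_true, lall_iff, allN_iff] at hparts
    have hv' := key (List.zip fFix ((nextGens fS).map Prod.fst)) (fun p hp => by
      obtain ⟨a, b⟩ := p
      obtain ⟨h1, h2⟩ := List.of_mem_zip hp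
      obtain ⟨g', hg', e⟩ := List.mem_map.1 h2
      exact ⟨hparts.1 a h1, g', hg', e⟩)
    have hcol : ∀ z : F9, ∃ c : F, dec ω (getP 18 fFixOp (idx z)) = c • dec ω fLine := by
      intro z
      have h := hparts.2 (idx z) (idx_lt z)
      rw [Bool.or_eq_true, Nat.beq_eq] at h
      rcases h with h | h
      · exact ⟨0, by rw [h, zero_smul]; funext w; simp [dec, bitF]⟩
      · obtain ⟨c, -, e⟩ := lineEq_sound hf (fLine_lt hf) h
        exact ⟨c, e⟩
    choose c hc using hcol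
    refine ⟨∑ z, c z * v z, ?_⟩
    conv_lhs => rw [← hv']
    funext w
    show ∑ z, dec ω (getP 18 fFixOp (idx z)) w * v z = _
    rw [Pi.smul_apply, smul_eq_mul, Finset.sum_mul]
    refine Finset.sum_congr rfl fun z _ => ?_
    rw [hc z, Pi.smul_apply, smul_eq_mul]
    ring
  have hsfix : ∀ y ∈ sGrp hf, (y : Matrix F9 F9 F).mulVec (dec ω fLine) = dec ω fLine := by
    intro y hy
    refine Subgroup.closure_induction (p := fun (y : GL F9 F) _ =>
      (y : Matrix F9 F9 F).mulVec (dec ω fLine) = dec ω fLine) ?_ (by simp) ?_ ?_ hy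
    · rintro _ ⟨b, ⟨q, hq, rfl⟩, rfl⟩
      rw [← dec_appM_den hf (gen_inv hf fS_ok hq).1,
        Nat.eq_of_beq_eq_true (fNOK_parts.1 q hq).2]
    · intro a b _ _ ha hb; rw [Units.val_mul, ← Matrix.mulVec_mulVec, hb, ha]
    · intro a _ ha
      have h := congrArg ((↑a⁻¹ : Matrix F9 F9 F).mulVec) ha
      rw [Matrix.mulVec_mulVec, ← Units.val_mul, inv_mul_cancel, Units.val_one,
        Matrix.one_mulVec] at h
      exact h.symm
  -- g fixes the line
  have hgl : g ∈ lineStab hf := by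
    have hv : ∀ y ∈ sGrp hf, (y : Matrix F9 F9 F).mulVec ((g⁻¹ : GL F9 F).1.mulVec (dec ω fLine)) =
        (g⁻¹ : GL F9 F).1.mulVec (dec ω fLine) := by
      intro y hy
      rw [Matrix.mulVec_mulVec, ← Units.val_mul, show y * g⁻¹ = g⁻¹ * (g * y * g⁻¹) by group,
        Units.val_mul, ← Matrix.mulVec_mulVec, hsfix _ (hn y hy)]
    obtain ⟨c, hc⟩ := hfix _ hv
    have hc0 : c ≠ 0 := by
      rintro rfl
      rw [zero_smul] at hc
      have h := congrArg ((g : Matrix F9 F9 F).mulVec) hc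
      rw [Matrix.mulVec_mulVec, ← Units.val_mul, mul_inv_cancel, Units.val_one, Matrix.one_mulVec,
        Matrix.mulVec_zero] at h
      exact iso_ne_zero hf isoRoot_lt (fNOK_parts.2.2.2.2.1 ▸ h)
    exact (inv_inv g) ▸ (lineStab hf).inv_mem ⟨inv_mem hg, c, hc0, hc⟩
  -- the line stabiliser is three cosets of N
  obtain ⟨-, -, -, -, -, hr, hr01⟩ := fNOK_parts
  let r : Fin 3 → GL F9 F :=
    ![1, (snd hf).den (nth (((oneM, oneM), 0, 0), 0) fR 0).1.1.1,
      (snd hf).den (nth (((oneM, oneM), 0, 0), 0) fR 1).1.1.1]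
  have hfR : fR.length = 2 := by decide +kernel
  have hrw : ∀ i < 2, (nth (((oneM, oneM), 0, 0), 0) fR i).1 ∈ fWitAll := fun i hi =>
    List.mem_append_right _ (List.mem_append_right _ (List.mem_append_left _
      (List.mem_map.2 ⟨_, nth_mem _ _ i (hfR ▸ hi), rfl⟩)))
  have hrl : ∀ i, r i ∈ lineStab hf := by
    intro i
    fin_cases i
    · exact one_mem _
    · obtain ⟨oa, -, -, ma⟩ := wit_all hf (hrw 0 (by norm_num))
      exact line_of_lineEq hf oa ma (hr 0 (by norm_num)).1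
    · obtain ⟨oa, -, -, ma⟩ := wit_all hf (hrw 1 (by norm_num))
      exact line_of_lineEq hf oa ma (hr 1 (by norm_num)).1
  have hnot : ∀ i < 2, (snd hf).den (nth (((oneM, oneM), 0, 0), 0) fR i).1.1.1 ∉ nGrp hf := by
    intro i hi h
    have h' := (sift_iff' hf fN_ok (wit_all hf (hrw i hi)).1).2 h
    rw [(hr i hi).2.1] at h'
    exact absurd h' (by simp)
  have hnot01 : ((snd hf).den (nth (((oneM, oneM), 0, 0), 0) fR 0).1.1.1)⁻¹ *
      (snd hf).den (nth (((oneM, oneM), 0, 0), 0) fR 1).1.1.1 ∉ nGrp hf := by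
    intro h
    obtain ⟨-, o0, e0, -⟩ := wit_all hf (hrw 0 (by norm_num))
    obtain ⟨o1, -, -, -⟩ := wit_all hf (hrw 1 (by norm_num))
    rw [← e0, ← (snd hf).den_mul o0 o1] at h
    have h' := (sift_iff' hf fN_ok ((snd hf).ok_mul o0 o1)).2 h
    rw [show mOps.mul (nth (((oneM, oneM), 0, 0), 0) fR 0).1.1.2
      (nth (((oneM, oneM), 0, 0), 0) fR 1).1.1.1 = mulM _ _ from rfl, hr01] at h'
    exact absurd h' (by simp)
  let φ : Fin 3 × nGrp hf → lineStab hf := fun p => ⟨r p.1 * p.2, mul_mem (hrl p.1) (hnl p.2.2)⟩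
  have : Finite (lineStab hf) := Nat.finite_of_card_ne_zero (by rw [card_lineStab hf]; norm_num)
  have hinj : Function.Injective φ := by
    rintro ⟨i, a⟩ ⟨j, b⟩ e
    have e' : r i * (a : GL F9 F) = r j * b := congrArg Subtype.val e
    have hij : i = j := by
      refine three_reps (nGrp hf) (hnot 0 (by norm_num)) (hnot 1 (by norm_num)) hnot01 i j ?_
      show (r i)⁻¹ * r j ∈ nGrp hf
      rw [show (r i)⁻¹ * r j = (a : GL F9 F) * (b : GL F9 F)⁻¹ from
        inv_mul_eq_iff_eq_mul.2 (by rw [← mul_assoc, e', mul_inv_cancel_right])]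
      exact mul_mem a.2 (inv_mem b.2)
    subst hij
    rw [mul_right_inj] at e'
    rw [Subtype.ext e']
  obtain ⟨⟨i, n⟩, hi⟩ := ((Nat.bijective_iff_injective_and_card φ).2 ⟨hinj, by
    rw [Nat.card_prod, Nat.card_fin, card_nGrp hf, card_lineStab hf]⟩).2 ⟨g, hgl⟩
  have hgi : r i * (n : GL F9 F) = g := congrArg Subtype.val hi
  have hri : ∀ y ∈ sGrp hf, r i * y * (r i)⁻¹ ∈ sGrp hf := by
    intro y hy
    have h := hn _ (hnn _ (inv_mem n.2) y hy)
    rwa [← hgi, show r i * (n : GL F9 F) * ((n : GL F9 F)⁻¹ * y * (n : GL F9 F)⁻¹⁻¹) *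
      (r i * (n : GL F9 F))⁻¹ = r i * y * (r i)⁻¹ by group] at h
  have hbad : ∀ j < 2, ¬ ∀ y ∈ sGrp hf,
      (snd hf).den (nth (((oneM, oneM), 0, 0), 0) fR j).1.1.1 * y *
        ((snd hf).den (nth (((oneM, oneM), 0, 0), 0) fR j).1.1.1)⁻¹ ∈ sGrp hf := by
    intro j hj h
    obtain ⟨oa, oai, e, -⟩ := wit_all hf (hrw j hj)
    obtain ⟨-, -, hlt, hs⟩ := hr j hj
    obtain ⟨og, mg, -, -⟩ := gen_inv hf fS_ok (nth_mem (oneM, oneM) _ _ hlt)
    have h2 := h _ mg
    rw [mul_assoc, ← e, ← (snd hf).den_mul og oai, ← (snd hf).den_mul oa ((snd hf).ok_mul og oai)]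
      at h2
    have h3 := (sift_iff' hf fS_ok ((snd hf).ok_mul oa ((snd hf).ok_mul og oai))).2 h2
    rw [show mOps.mul (nth (((oneM, oneM), 0, 0), 0) fR j).1.1.1 (mOps.mul
      (nth (oneM, oneM) (nextGens fS) (nth (((oneM, oneM), 0, 0), 0) fR j).2).1
      (nth (((oneM, oneM), 0, 0), 0) fR j).1.1.2) = mulM _ (mulM _ _) from rfl, hs] at h3
    exact absurd h3 (by simp)
  fin_cases i
  · rw [← hgi, show r ⟨0, _⟩ = 1 from rfl, one_mul]
    exact hnw n.2
  · exact absurd hri (hbad 0 (by norm_num))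
  · exact absurd hri (hbad 1 (by norm_num))

end

end Cfsg.Agent.H44.J3
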