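import Cfsg.Agent.H44.J3.Orbit
import Cfsg.Agent.H44.J3.GensCheck
import Cfsg.Agent.H44.J3.CheckBase
import Cfsg.Agent.H44.J3.CheckWit0
import Cfsg.Agent.H44.J3.CheckWit1
import Cfsg.Agent.H44.J3.CheckWit2
import Cfsg.Agent.H44.J3.CheckWit3
import Cfsg.Agent.H44.J3.CheckWit4
import Cfsg.Agent.H44.J3.CheckWit5
import Cfsg.Agent.H44.J3.CheckWit6
import Cfsg.Agent.H44.J3.CheckOrbit0
import Cfsg.Agent.H44.J3.CheckOrbit1
import Cfsg.Agent.H44.J3.CheckOrbit2

/-!
The triple cover 3·J₃: order 150698880, centre of order 3, orbit of ⟨e₀⟩ of length 23256.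
-/

set_option autoImplicit false

namespace Cfsg.Agent.H44.J3

open Cfsg.Agent.Compute
open Cfsg.Spor (F9)

attribute [local irreducible] validM invM mulM appM oneM wmul sift checkChain normOK

theorem cert_ok : GOK cert := by
  refine ⟨chain_ok, base_ok, by decide +kernel, by decide +kernel, fun j hj => ?_⟩
  have h : j < 28 := hj
  interval_cases j
  all_goals first
    | exact ⟨_, dd0_ok⟩ | exact ⟨_, dd1_ok⟩ | exact ⟨_, dd2_ok⟩ | exact ⟨_, dd3_ok⟩
    | exact ⟨_, dd4_ok⟩ | exact ⟨_, dd5_ok⟩ | exact ⟨_, dd6_ok⟩ | exact ⟨_, dd7_ok⟩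
    | exact ⟨_, dd8_ok⟩ | exact ⟨_, dd9_ok⟩ | exact ⟨_, dd10_ok⟩ | exact ⟨_, dd11_ok⟩
    | exact ⟨_, dd12_ok⟩ | exact ⟨_, dd13_ok⟩ | exact ⟨_, dd14_ok⟩ | exact ⟨_, dd15_ok⟩
    | exact ⟨_, dd16_ok⟩ | exact ⟨_, dd17_ok⟩ | exact ⟨_, dd18_ok⟩ | exact ⟨_, dd19_ok⟩
    | exact ⟨_, dd20_ok⟩ | exact ⟨_, dd21_ok⟩ | exact ⟨_, dd22_ok⟩ | exact ⟨_, dd23_ok⟩
    | exact ⟨_, dd24_ok⟩ | exact ⟨_, dd25_ok⟩ | exact ⟨_, dd26_ok⟩ | exact ⟨_, dd27_ok⟩

theorem ocert_ok : OOK oCert cert := by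
  refine ⟨codes_ok, fun a ha => ?_, par_ok, reps_ok⟩
  have h : a < 5 := ha
  interval_cases a
  · exact close0_ok
  · exact close1_ok
  · exact close2_ok
  · exact close3_ok
  · exact close4_ok

section
variable {F : Type*} [Field F] [Fintype F] {ω : F} (hf : Four F ω)

omit [Fintype F] in
theorem val_of_bits (M : ℕ) (w z : F9) :
    matOf ω M w z = bitF (entryBits M w z).1 1 + bitF (entryBits M w z).2 ω := by
  have h : ∀ v i : ℕ, Nat.beq (Nat.land (Nat.shiftRight v i) 1) 1 = v.testBit i := by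
    intro v i
    show Nat.beq ((v >>> i) &&& 1) 1 = _
    rw [Nat.and_one_is_mod, Nat.testBit_eq_decide_div_mod_eq, Nat.shiftRight_eq_div_pow]
    rcases Nat.mod_two_eq_zero_or_one (v / 2 ^ i) with e | e <;> simp [e] <;> rfl
  simp only [entryBits, h]
  rfl

include hf

theorem powBits_val (n : ZMod 3) :
    bitF (powBits n).1 (1 : F) + bitF (powBits n).2 ω = Cfsg.Spor.omegaPow F ω n := by
  have h2 := hf.two
  have hr := hf.root
  have h3 : ∀ m : ZMod 3, (m = 0 ∨ m = 1 ∨ m = 2) := by decide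
  rcases h3 n with rfl | rfl | rfl
  · rw [show powBits 0 = (true, false) from rfl, Cfsg.Spor.omegaPow,
      show (0 : ZMod 3).val = 0 from rfl]
    simp [bitF]
  · rw [show powBits 1 = (false, true) from rfl, Cfsg.Spor.omegaPow,
      show (1 : ZMod 3).val = 1 from rfl]
    simp [bitF]
  · rw [show powBits 2 = (true, true) from rfl, Cfsg.Spor.omegaPow,
      show (2 : ZMod 3).val = 2 from rfl]
    simp only [bitF, cond_true]
    linear_combination -hr + (ω + 1) * h2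

theorem eA_val (Z : F9) : matOf ω (gCode tabA Z) = Cfsg.Spor.j3A F ω Z := by
  ext w z
  rw [val_of_bits, eA_ok, eA, Cfsg.Spor.j3A, Matrix.diagonal_apply]
  split_ifs
  · exact powBits_val hf _
  · simp [zBits, bitF]

theorem eE_val (Z : F9) : matOf ω (gCode tabE Z) = Cfsg.Spor.j3E F ω Z := by
  ext w z
  rw [val_of_bits, eE_ok, eE, Cfsg.Spor.j3E, Matrix.diagonal_apply]
  split_ifs
  · exact powBits_val hf _
  · simp [zBits, bitF]

theorem eD_val (Z : F9) : matOf ω (gCode tabD Z) = Cfsg.Spor.j3D F ω Z := by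
  ext w z
  have hw : ω ^ 2 = 1 + ω := by linear_combination hf.root - (ω + 1) * hf.two
  rw [val_of_bits, eD_ok, eD, Cfsg.Spor.j3D, Matrix.of_apply]
  by_cases h : w = z + Z
  · rw [if_pos h, if_pos h, eLam, Cfsg.Spor.j3Lam]
    split_ifs <;> simp [bitF, hw]
  · rw [if_neg h, if_neg h]; simp [zBits, bitF]

theorem eB_val {Z : F9} (hZ : Z ≠ 0) : matOf ω (gCode tabB Z) = Cfsg.Spor.j3B F Z := by
  ext w z
  rw [val_of_bits, eB_ok Z hZ, eB, Cfsg.Spor.j3B, Matrix.of_apply]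
  split_ifs <;> simp [zBits, bitF]

theorem eC_val {Z : F9} (hZ : Z ≠ 0) : matOf ω (gCode tabC Z) = Cfsg.Spor.j3C F Z := by
  ext w z
  rw [val_of_bits, eC_ok Z hZ, eC, Cfsg.Spor.j3C, Matrix.of_apply]
  split_ifs <;> simp_all [zBits, bitF]

/-- Codes in the witness list: membership of the coded matrices in ⟨H, s⟩. -/
theorem wit_mem {g : ℕ}
    (h : Option.isSome (lfind witGens (fun p => Nat.beq p.1.1 g)) = true) :
    (snd hf).ok g ∧ (snd hf).den g ∈ gGrp hf cert := by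
  obtain ⟨p, hp⟩ := Option.isSome_iff_exists.1 h
  obtain ⟨hm, he⟩ := lfind_some hp
  rw [Nat.beq_eq] at he
  obtain ⟨o, hT⟩ := inT_sound hf cert_ok ((lall_iff _ _).1 witGens_ok p hm)
  rw [he] at o hT
  exact ⟨o, (mem_closure_iff hf cert_ok _).2 hT⟩

omit hf in
theorem lall_mem {α : Type} {l : List α} {f : α → Bool} (h : lall l f = true) {a : α}
    (ha : a ∈ l) : f a = true := (lall_iff _ _).1 h a ha

theorem gCode_mem (Z : F9) :
    Option.isSome (lfind witGens (fun p => Nat.beq p.1.1 (gCode tabA Z))) = true ∧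
    Option.isSome (lfind witGens (fun p => Nat.beq p.1.1 (gCode tabE Z))) = true ∧
    Option.isSome (lfind witGens (fun p => Nat.beq p.1.1 (gCode tabD Z))) = true ∧
    (Z ≠ 0 → Option.isSome (lfind witGens (fun p => Nat.beq p.1.1 (gCode tabB Z))) = true ∧
      Option.isSome (lfind witGens (fun p => Nat.beq p.1.1 (gCode tabC Z))) = true) := by
  have hi : idx Z < 9 := idx_lt Z
  have hA : tabA.length = 9 := rfl
  have hE : tabE.length = 9 := rfl
  have hD : tabD.length = 9 := rfl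
  refine ⟨lall_mem tab_mem (List.mem_append_left _ (nth_mem _ _ _ (hA ▸ hi))),
    lall_mem tab_mem (List.mem_append_right _ (List.mem_append_left _ (nth_mem _ _ _ (hE ▸ hi)))),
    lall_mem tab_mem (List.mem_append_right _ (List.mem_append_right _ (nth_mem _ _ _ (hD ▸ hi)))),
    fun hZ => ?_⟩
  have h0 : idx Z ≠ 0 := fun e => hZ (idx_inj (e.trans (show idx 0 = 0 from rfl).symm))
  obtain ⟨k, hk⟩ := Nat.exists_eq_succ_of_ne_zero h0
  have key : ∀ (a : ℕ) (t : List ℕ), k < t.length → gCode (a :: t) Z ∈ t := by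
    intro a t ht
    rw [gCode, hk]
    exact nth_mem _ t k ht
  have hB : tabB.tail.length = 8 := rfl
  have hC : tabC.tail.length = 8 := rfl
  have hk' : k < 8 := by omega
  refine ⟨lall_mem tabBC_mem (List.mem_append_left _ ?_),
    lall_mem tabBC_mem (List.mem_append_right _ ?_)⟩
  · exact key _ _ (hB.symm ▸ hk')
  · exact key _ _ (hC.symm ▸ hk')

theorem matrix_of_mem_j3Gens {g : GL F9 F}
    (hg : (g : Matrix F9 F9 F) ∈ Cfsg.Spor.j3Gens F ω) : g ∈ gGrp hf cert := by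
  have key : ∀ {a : ℕ}, Option.isSome (lfind witGens (fun p => Nat.beq p.1.1 a)) = true →
      (g : Matrix F9 F9 F) = matOf ω a → g ∈ gGrp hf cert := by
    intro a ha e
    obtain ⟨oa, hm⟩ := wit_mem hf ha
    rwa [show g = (snd hf).den a from Units.ext (e.trans (snd_den_coe hf oa).symm)]
  rcases hg with (((⟨Z, e⟩ | ⟨Z, e⟩) | ⟨Z, e⟩) | ⟨Z, hZ, e⟩) | ⟨Z, hZ, e⟩
  · exact key (gCode_mem hf Z).1 (e.symm.trans (eA_val hf Z).symm)
  · exact key (gCode_mem hf Z).2.1 (e.symm.trans (eE_val hf Z).symm)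
  · exact key (gCode_mem hf Z).2.2.1 (e.symm.trans (eD_val hf Z).symm)
  · exact key ((gCode_mem hf Z).2.2.2 hZ).1 (e.trans (eB_val hf hZ).symm)
  · exact key ((gCode_mem hf Z).2.2.2 hZ).2 (e.trans (eC_val hf hZ).symm)

/-- Every code of a generator lies in 3·J₃. -/
theorem gCode_mem_threeJ3 {g : ℕ} (hg : g ∈ witGens.map (fun p => p.1.1)) :
    (snd hf).den g ∈ Cfsg.Spor.threeJ3 F ω := by
  have hl : witGens.map (fun p => p.1.1) =
      tabA ++ (tabE ++ (tabD ++ (tabB.tail ++ tabC.tail))) := by decide +kernel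
  obtain ⟨p, hp, rfl⟩ := List.mem_map.1 hg
  obtain ⟨o, -⟩ := inT_sound hf cert_ok ((lall_iff _ _).1 witGens_ok p hp)
  refine Subgroup.subset_closure ?_
  show ((snd hf).den p.1.1 : Matrix F9 F9 F) ∈ Cfsg.Spor.j3Gens F ω
  rw [snd_den_coe hf o]
  have hidx : ∀ i < 9, ∃ Z : F9, idx Z = i := exists_idx
  rw [hl] at hg
  have look : ∀ (t : List ℕ), t.length = 9 → p.1.1 ∈ t → ∃ Z : F9, gCode t Z = p.1.1 := by
    intro t ht hm
    obtain ⟨n, hn, e⟩ := List.getElem_of_mem hm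
    obtain ⟨Z, hZ⟩ := hidx n (ht ▸ hn)
    exact ⟨Z, by rw [gCode, hZ, nth_eq_getElem _ _ _ hn, e]⟩
  have look' : ∀ (a : ℕ) (t : List ℕ), t.length = 8 → p.1.1 ∈ t →
      ∃ Z : F9, Z ≠ 0 ∧ gCode (a :: t) Z = p.1.1 := by
    intro a t ht hm
    obtain ⟨n, hn, e⟩ := List.getElem_of_mem hm
    obtain ⟨Z, hZ⟩ := hidx (n + 1) (by omega)
    refine ⟨Z, fun h0 => ?_, ?_⟩
    · subst h0; rw [show idx 0 = 0 from rfl] at hZ; omega
    · rw [gCode, hZ]; exact (nth_eq_getElem _ _ _ hn).trans e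
  simp only [List.mem_append] at hg
  rcases hg with h | h | h | h | h
  · obtain ⟨Z, e⟩ := look _ rfl h
    exact Or.inl (Or.inl (Or.inl (Or.inl ⟨Z, by rw [← e, eA_val hf]⟩)))
  · obtain ⟨Z, e⟩ := look _ rfl h
    exact Or.inl (Or.inl (Or.inl (Or.inr ⟨Z, by rw [← e, eE_val hf]⟩)))
  · obtain ⟨Z, e⟩ := look _ rfl h
    exact Or.inl (Or.inl (Or.inr ⟨Z, by rw [← e, eD_val hf]⟩))
  · obtain ⟨Z, hZ, e⟩ := look' (tabB.headD 0) _ rfl h
    exact Or.inl (Or.inr ⟨Z, hZ, by rw [← e]; exact eB_val hf hZ⟩)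
  · obtain ⟨Z, hZ, e⟩ := look' (tabC.headD 0) _ rfl h
    exact Or.inr ⟨Z, hZ, by rw [← e]; exact eC_val hf hZ⟩

theorem basic_mem {a : ℕ} (ha : a < 10) :
    (snd hf).ok (nth (oneM, oneM) basics a).1 ∧
      (snd hf).den (nth (oneM, oneM) basics a).1 ∈ Cfsg.Spor.threeJ3 F ω := by
  have h := basic_ok
  simp only [basicOK, Bool.and_eq_true, lall_iff, allN_iff, Nat.beq_eq] at h
  have hlen : basics.length = 10 := rfl
  have inv' := fun {b : ℕ} (hb : b < 10) =>
    (snd hf).okInv_sound (a := (nth (oneM, oneM) basics b).1) (b := (nth (oneM, oneM) basics b).2)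
      (h.1 _ (nth_mem (oneM, oneM) basics b (hlen ▸ hb)))
  have fwd : ∀ i < 5, (snd hf).den (nth (oneM, oneM) basics i).1 ∈ Cfsg.Spor.threeJ3 F ω := by
    intro i hi
    obtain ⟨p, hp⟩ := Option.isSome_iff_exists.1 (h.2 i hi).1
    obtain ⟨hm, he⟩ := lfind_some hp
    rw [Nat.beq_eq] at he
    exact gCode_mem_threeJ3 hf (List.mem_map.2 ⟨p, hm, he⟩)
  refine ⟨(inv' ha).1, ?_⟩
  by_cases h5 : a < 5
  · exact fwd a h5
  · have e := (h.2 (a - 5) (by omega)).2
    rw [show Nat.add 5 (a - 5) = a by show 5 + (a - 5) = a; omega] at e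
    rw [e, (inv' (show a - 5 < 10 by omega)).2.2]
    exact Subgroup.inv_mem _ (fwd _ (by omega))

theorem bWord_mem : ∀ (w : List ℕ), (∀ a ∈ w, a < 10) →
    (snd hf).ok (bWord w) ∧ (snd hf).den (bWord w) ∈ Cfsg.Spor.threeJ3 F ω := by
  intro w
  induction w with
  | nil =>
    intro _
    exact ⟨(snd hf).ok_one, by
      rw [show (snd hf).den (bWord []) = 1 from (snd hf).den_one]; exact one_mem _⟩
  | cons a t ih =>
    intro h
    obtain ⟨oa, ma⟩ := basic_mem hf (h a List.mem_cons_self)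
    obtain ⟨ot, mt⟩ := ih fun b hb => h b (List.mem_cons_of_mem _ hb)
    refine ⟨(snd hf).ok_mul oa ot, ?_⟩
    rw [show bWord (a :: t) = mOps.mul (nth (oneM, oneM) basics a).1 (bWord t) from rfl,
      (snd hf).den_mul oa ot]
    exact Subgroup.mul_mem _ ma mt

/-- 3·J₃ is the certified group ⟨H, s⟩. -/
theorem threeJ3_eq : Cfsg.Spor.threeJ3 F ω = gGrp hf cert := by
  refine le_antisymm ((Subgroup.closure_le _).2 fun g hg => matrix_of_mem_j3Gens hf hg)
    ((Subgroup.closure_le _).2 ?_)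
  have h := words_ok
  simp only [wordsOK, Bool.and_eq_true, lall_iff, allN_iff, Nat.beq_eq, Nat.ble_eq] at h
  obtain ⟨⟨⟨hw, hgen⟩, hs⟩, hlen⟩ := h
  have hword : ∀ a < genWords.length,
      (snd hf).den (bWord (nth [] genWords a)) ∈ Cfsg.Spor.threeJ3 F ω :=
    fun a ha => (bWord_mem hf _ (hw _ (nth_mem _ _ a ha))).2
  rintro g (hg | hg)
  · refine (Subgroup.closure_le _).2 ?_ hg
    rintro _ ⟨a, ⟨p, hp, rfl⟩, rfl⟩
    obtain ⟨n, hn, rfl⟩ := List.getElem_of_mem (show p ∈ cert.lvl.gens from hp)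
    have e : cert.lvl.gens[n].1 = cert.gen n := by rw [GCert.gen, nth_eq_getElem _ _ _ hn]
    rw [e, hgen n hn]
    exact hword n (by
      have : cert.lvl.gens.length + 1 ≤ genWords.length := hlen
      omega)
  · rw [Set.mem_singleton_iff.1 hg, sEl, hs]
    exact hword _ (show cert.lvl.gens.length < genWords.length from hlen)

/-- |H| = 6480. -/
theorem card_hGrp : Nat.card (hGrp hf cert) = 6480 := by
  rw [hGrp, (checkChain_sound (snd hf) cert_ok.chain).card]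
  decide +kernel

/-- |3·J₃| = 150698880. -/
theorem card_threeJ3 : Nat.card (Cfsg.Spor.threeJ3 F ω) = 150698880 := by
  rw [threeJ3_eq hf, card_gGrp hf ocert_ok cert_ok, card_hGrp hf]
  decide +kernel

end

end Cfsg.Agent.H44.J3
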