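import Cfsg.Agent.H44.J3.OrbitDefs
import Cfsg.Agent.H44.J3.DataGens
import Cfsg.Agent.H44.J3.DataIso

/-!
Checkers for transitivity on isotropic lines.
-/

set_option autoImplicit false

namespace Cfsg.Agent.H44.J3

open Cfsg.Agent.Compute

/-- Number of isotropic lines. -/
def isoN : ℕ := 43605

noncomputable def iCode (i : ℕ) : ℕ := getT 18 isoCodes i

noncomputable def iDepth (i : ℕ) : ℕ := Nat.shiftRight (getT 32 isoPar i) 21

noncomputable def iKind (i : ℕ) : ℕ := Nat.land (Nat.shiftRight (getT 32 isoPar i) 16) 31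

noncomputable def iParent (i : ℕ) : ℕ := Nat.land (getT 32 isoPar i) 65535

/-- Parity of the first nine bits, slowly. -/
noncomputable def par9 (m : ℕ) : ℕ :=
  Nat.rec 0 (fun i acc => Nat.xor (Nat.land (Nat.shiftRight m i) 1) acc) 9

/-- Parity of the first nine bits, folded. -/
noncomputable def fold9 (m : ℕ) : ℕ :=
  let a := Nat.xor m (Nat.xor (Nat.shiftRight m 4) (Nat.shiftRight m 8))
  let b := Nat.xor a (Nat.shiftRight a 2)
  Nat.land (Nat.xor b (Nat.shiftRight b 1)) 1

/-- The coded vector is isotropic. -/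
noncomputable def isoB (u : ℕ) : Bool :=
  Nat.beq (fold9 (Nat.lor (Nat.land u 511) (Nat.shiftRight u 9))) 0

/-- A vector between two consecutive listed codes is no missing representative. -/
noncomputable def gapB (u : ℕ) : Bool :=
  !isoB u || (!normOK u && (normOK (wmul u) || normOK (wmul (wmul u))))

/-- Upper end of the gap before index `i`. -/
noncomputable def gapHi (i : ℕ) : ℕ := cond (Nat.ble (Nat.add i 1) isoN) (iCode i) 262144

/-- Lower end of the gap before index `i`. -/
noncomputable def gapLo (i : ℕ) : ℕ :=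
  cond (Nat.beq i 0) 1 (Nat.add (iCode (Nat.sub i 1)) 1)

/-- Entry `i`: normalised, reached, and no representative is missing before it. -/
noncomputable def isoEntryOK (i : ℕ) : Bool :=
  cond (Nat.ble (Nat.add i 1) isoN)
    (repOK (iCode i) && isoB (iCode i) &&
      cond (Nat.beq (iKind i) 0) (Nat.beq i isoRoot)
        (Nat.ble (iKind i) 5 && Nat.ble (Nat.add (iParent i) 1) isoN &&
          Nat.ble (Nat.add (iDepth (iParent i)) 1) (iDepth i) &&
          lineEq (appM (nth (oneM, oneM) basics (Nat.sub (iKind i) 1)).1 (iCode (iParent i)))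
            (iCode i)))
    true &&
  allN (Nat.sub (gapHi i) (gapLo i)) (fun k => gapB (Nat.add (gapLo i) k))

/-- Check a range of 128·`m` indices starting at 128·`b`. -/
noncomputable def isoRangeOK (b m : ℕ) : Bool :=
  allN m (fun a => allN 128 (fun k =>
    cond (Nat.ble (Nat.add (Nat.mul 128 (Nat.add b a)) k) isoN)
      (isoEntryOK (Nat.add (Nat.mul 128 (Nat.add b a)) k)) true))

end Cfsg.Agent.H44.J3
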