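import Cfsg.Agent.H44.J3.Cosets
import Cfsg.Agent.H44.J3.OrbitDefs

/-!
From the orbit certificate: the orbit of ⟨e₀⟩ under ⟨H, s⟩, its stabiliser H, and the order.
-/

set_option autoImplicit false

namespace Cfsg.Agent.H44.J3

open Cfsg.Agent.Compute
open Cfsg.Spor (F9)

attribute [local irreducible] validM invM mulM appM oneM wmul sift checkChain normOK

/-- A fully checked orbit certificate. -/
structure OOK (o : OCert) (c : GCert) : Prop where
  codes : o.codesOK = true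
  close : ∀ a < c.lvl.gens.length, o.closeOK c a = true
  par : o.parOK c = true
  reps : o.repsOK c = true

section
variable {F : Type*} [Field F] [Fintype F] {ω : F} (hf : Four F ω)

omit [Fintype F] in
theorem dec_one : dec ω 1 = Pi.single (0 : F9) 1 := by
  funext z
  by_cases h : z = 0
  · subst h
    rw [Pi.single_eq_same]
    show bitF ((1 : ℕ).testBit (idx 0)) (1 : F) + bitF ((1 : ℕ).testBit (9 + idx 0)) ω = 1
    rw [show idx 0 = 0 from rfl]
    simp [bitF, show (1 : ℕ).testBit 9 = false by decide]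
  · rw [Pi.single_eq_of_ne h]
    have h1 : idx z ≠ 0 := fun e => h (idx_inj (e.trans (show idx 0 = 0 from rfl).symm))
    have h2 : (1 : ℕ).testBit (idx z) = false := by
      rw [show (1 : ℕ) = 2 ^ 0 from rfl, Nat.testBit_two_pow]; simp [Ne.symm h1]
    have h3 : (1 : ℕ).testBit (9 + idx z) = false := by
      rw [show (1 : ℕ) = 2 ^ 0 from rfl, Nat.testBit_two_pow]; simp; omega
    simp [dec, bitF, h2, h3]

include hf

theorem wmul_lt {u : ℕ} (hu : u < 262144) : wmul u < 262144 := by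
  unfold wmul
  show _ ||| _ < 2 ^ 18
  refine Nat.or_lt_two_pow ?_ ?_
  · show u >>> 9 < 2 ^ 18
    rw [Nat.shiftRight_eq_div_pow]; omega
  · show ((u &&& 511) ^^^ (u >>> 9)) <<< 9 < 2 ^ 18
    have h9 : (u &&& 511) ^^^ (u >>> 9) < 2 ^ 9 :=
      Nat.xor_lt_two_pow (lt_of_le_of_lt Nat.and_le_right (by norm_num))
        (by rw [Nat.shiftRight_eq_div_pow]; omega)
    rw [Nat.shiftLeft_eq]; omega

theorem scalar_cases (c : F) : c = 0 ∨ c = 1 ∨ c = ω ∨ c = ω * ω := by
  classical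
  let d : Bool × Bool → F := fun p => bitF p.1 1 + bitF p.2 ω
  have hi : Function.Injective d := fun a b h => by
    obtain ⟨h1, h2⟩ := bits_inj ω hf.two hf.root h
    exact Prod.ext h1 h2
  have hb : Function.Bijective d :=
    (Fintype.bijective_iff_injective_and_card d).2 ⟨hi, by simp [hf.card]⟩
  obtain ⟨⟨a, b⟩, rfl⟩ := hb.2 c
  have hw : ω * ω = 1 + ω := by linear_combination hf.root - (ω + 1) * hf.two
  cases a <;> cases b <;> simp [d, bitF, hw]

theorem lineEq_sound {v u : ℕ} (hu : u < 262144) (h : lineEq v u = true) :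
    ∃ k : F, k ≠ 0 ∧ dec ω v = k • dec ω u := by
  simp only [lineEq, Bool.or_eq_true, Nat.beq_eq] at h
  have h0 := omega_ne_zero ω hf.root
  rcases h with (rfl | rfl) | rfl
  · exact ⟨1, one_ne_zero, (one_smul _ _).symm⟩
  · exact ⟨ω, h0, dec_wmul ω hf.two hf.root hu⟩
  · exact ⟨ω * ω, mul_ne_zero h0 h0, by
      rw [dec_wmul ω hf.two hf.root (wmul_lt hf hu), dec_wmul ω hf.two hf.root hu, smul_smul]⟩

theorem lineEq_complete {v u : ℕ} (hv : v < 262144) (hu : u < 262144) {k : F} (hk : k ≠ 0)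
    (h : dec ω v = k • dec ω u) : lineEq v u = true := by
  have inj := fun {a b : ℕ} (ha : a < 262144) (hb : b < 262144) (e : dec ω a = dec ω b) =>
    dec_inj ω hf.two hf.root ha hb e
  simp only [lineEq, Bool.or_eq_true, Nat.beq_eq]
  rcases scalar_cases hf k with rfl | rfl | rfl | rfl
  · exact absurd rfl hk
  · exact Or.inl (Or.inl (inj hv hu (by rw [h, one_smul])))
  · exact Or.inl (Or.inr (inj hv (wmul_lt hf hu) (by rw [h, dec_wmul _ hf.two hf.root hu])))
  · refine Or.inr (inj hv (wmul_lt hf (wmul_lt hf hu)) ?_)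
    rw [h, dec_wmul ω hf.two hf.root (wmul_lt hf hu), dec_wmul ω hf.two hf.root hu, smul_smul]

variable {c : GCert} {o : OCert} (ho : OOK o c)

/-- `g` maps the line ⟨e₀⟩ to the line of code `i`. -/
def LineTo (_hf : Four F ω) (o : OCert) (g : GL F9 F) (i : ℕ) : Prop :=
  ∃ k : F, k ≠ 0 ∧ (g : Matrix F9 F9 F).mulVec (Pi.single (0 : F9) 1) = k • dec ω (o.code i)

/-- `g` fixes the line ⟨e₀⟩. -/
def FixLine (_hf : Four F ω) (g : GL F9 F) : Prop :=
  ∃ k : F, k ≠ 0 ∧
    (g : Matrix F9 F9 F).mulVec (Pi.single (0 : F9) 1) = k • (Pi.single (0 : F9) 1 : F9 → F)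

include ho

theorem code_spec {i : ℕ} (hi : i < o.n) :
    o.code i < 262144 ∧ normOK (o.code i) = true ∧
      normOK (wmul (o.code i)) = false ∧ normOK (wmul (wmul (o.code i))) = false ∧
      (i + 1 < o.n → o.code i < o.code (i + 1)) := by
  have h := (allB_iff _ _).1 ho.codes i hi
  simp only [repOK, Bool.and_eq_true, Bool.not_eq_true', Nat.ble_eq] at h
  refine ⟨h.1.1.1.1, h.1.1.1.2, h.1.1.2, h.1.2, fun hn => ?_⟩
  have h2 := h.2
  have hb : Nat.ble (Nat.add i 2) o.n = true := Nat.ble_eq.symm ▸ (show i + 2 ≤ o.n by omega)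
  rw [hb, cond_true, Nat.ble_eq] at h2
  exact h2

theorem code_lt_code : ∀ {i j : ℕ}, i < j → j < o.n → o.code i < o.code j := by
  intro i j hij hj
  induction j with
  | zero => omega
  | succ m ih =>
    have h1 := (code_spec hf ho (show m < o.n by omega)).2.2.2.2 hj
    rcases Nat.lt_succ_iff_lt_or_eq.1 hij with h | rfl
    · exact lt_trans (ih h (by omega)) h1
    · exact h1

theorem code_line_inj {i j : ℕ} (hi : i < o.n) (hj : j < o.n) {k : F} (hk : k ≠ 0)
    (h : dec ω (o.code i) = k • dec ω (o.code j)) : i = j := by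
  have hne : o.code i = o.code j → i = j := fun e => by
    rcases lt_trichotomy i j with q | q | q
    · have := code_lt_code hf ho q hj; omega
    · exact q
    · have := code_lt_code hf ho q hi; omega
  obtain ⟨hi1, hi2, -, -, -⟩ := code_spec hf ho hi
  obtain ⟨hj1, -, hj3, hj4, -⟩ := code_spec hf ho hj
  have hl := lineEq_complete hf hi1 hj1 hk h
  simp only [lineEq, Bool.or_eq_true, Nat.beq_eq] at hl
  rcases hl with (e | e) | e
  · exact hne e
  · rw [e, hj3] at hi2; exact absurd hi2 (by simp)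
  · rw [e, hj4] at hi2; exact absurd hi2 (by simp)

theorem lineTo_unique {g : GL F9 F} {i j : ℕ} (hi : i < o.n) (hj : j < o.n)
    (h : LineTo hf o g i) (h' : LineTo hf o g j) : i = j := by
  obtain ⟨k, hk, e⟩ := h
  obtain ⟨k', hk', e'⟩ := h'
  refine code_line_inj hf ho hi hj (k := k⁻¹ * k') (mul_ne_zero (inv_ne_zero hk) hk') ?_
  rw [← smul_smul, ← e', e, inv_smul_smul₀ hk]

omit ho in
theorem fixLine_mul {g h : GL F9 F} (hg : FixLine hf g) (hh : FixLine hf h) :
    FixLine hf (g * h) := by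
  obtain ⟨k, hk, e⟩ := hg
  obtain ⟨k', hk', e'⟩ := hh
  exact ⟨k' * k, mul_ne_zero hk' hk, by
    rw [Units.val_mul, ← Matrix.mulVec_mulVec, e', Matrix.mulVec_smul, e, smul_smul]⟩

omit ho in
theorem fixLine_inv {g : GL F9 F} (hg : FixLine hf g) : FixLine hf g⁻¹ := by
  obtain ⟨k, hk, e⟩ := hg
  refine ⟨k⁻¹, inv_ne_zero hk, ?_⟩
  have h := congrArg ((↑g⁻¹ : Matrix F9 F9 F).mulVec) e
  rw [Matrix.mulVec_mulVec, ← Units.val_mul, inv_mul_cancel, Units.val_one, Matrix.one_mulVec,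
    Matrix.mulVec_smul] at h
  conv_rhs => rw [h, inv_smul_smul₀ hk]

omit ho in
theorem lineTo_of_fix {g h : GL F9 F} {i : ℕ} (hg : LineTo hf o g i) (hh : FixLine hf h) :
    LineTo hf o (g * h) i := by
  obtain ⟨k, hk, e⟩ := hg
  obtain ⟨k', hk', e'⟩ := hh
  exact ⟨k' * k, mul_ne_zero hk' hk, by
    rw [Units.val_mul, ← Matrix.mulVec_mulVec, e', Matrix.mulVec_smul, e, smul_smul]⟩

variable (hc : GOK c)
include hc

theorem hGrp_fix {h : GL F9 F} (hh : h ∈ hGrp hf c) : FixLine hf h := by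
  refine Subgroup.closure_induction (p := fun (y : GL F9 F) _ => FixLine hf y) ?_ ?_
    (fun a b _ _ ha hb => fixLine_mul hf ha hb) (fun a _ ha => fixLine_inv hf ha) hh
  · rintro _ ⟨a, ⟨g, hg, rfl⟩, rfl⟩
    obtain ⟨n, hn, rfl⟩ := List.getElem_of_mem (show g ∈ c.lvl.gens from hg)
    have e : c.lvl.gens[n].1 = c.gen n := by rw [GCert.gen, nth_eq_getElem _ _ _ hn]
    have h := ho.reps
    simp only [OCert.repsOK, Bool.and_eq_true, allN_iff] at h
    obtain ⟨k, hk, hd⟩ := lineEq_sound hf (by norm_num) (h.2 n hn)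
    rw [dec_appM_den hf (gen_ok hf hc hn).1, dec_one] at hd
    rw [e]
    exact ⟨k, hk, hd⟩
  · exact ⟨1, one_ne_zero, by rw [Units.val_one, Matrix.one_mulVec, one_smul]⟩

theorem gen_step {a i : ℕ} (ha : a < c.lvl.gens.length) (hi : i < o.n) :
    o.perm a i < o.n ∧ ∃ k : F, k ≠ 0 ∧
      ((snd hf).den (c.gen a) : Matrix F9 F9 F).mulVec (dec ω (o.code i)) =
        k • dec ω (o.code (o.perm a i)) := by
  have h := (allB_iff _ _).1 (ho.close a ha) i hi
  simp only [Bool.and_eq_true, Nat.ble_eq] at h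
  have hj : o.perm a i < o.n := h.1
  obtain ⟨k, hk, hd⟩ := lineEq_sound hf (code_spec hf ho hj).1 h.2
  rw [dec_appM_den hf (gen_ok hf hc ha).1] at hd
  exact ⟨hj, k, hk, hd⟩

theorem hGrp_step {h : GL F9 F} (hh : h ∈ hGrp hf c) : ∀ i < o.n, ∃ j < o.n, ∃ k : F, k ≠ 0 ∧
    (h : Matrix F9 F9 F).mulVec (dec ω (o.code i)) = k • dec ω (o.code j) := by
  refine Subgroup.closure_induction (p := fun (y : GL F9 F) _ => ∀ i < o.n, ∃ j < o.n, ∃ k : F, k ≠ 0 ∧
    (y : Matrix F9 F9 F).mulVec (dec ω (o.code i)) = k • dec ω (o.code j)) ?_ ?_ ?_ ?_ hh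
  · rintro _ ⟨a, ⟨g, hg, rfl⟩, rfl⟩ i hi
    obtain ⟨n, hn, rfl⟩ := List.getElem_of_mem (show g ∈ c.lvl.gens from hg)
    have e : c.lvl.gens[n].1 = c.gen n := by rw [GCert.gen, nth_eq_getElem _ _ _ hn]
    rw [e]
    exact ⟨_, gen_step hf ho hc hn hi⟩
  · intro i hi
    exact ⟨i, hi, 1, one_ne_zero, by rw [Units.val_one, Matrix.one_mulVec, one_smul]⟩
  · intro a b _ _ ha hb i hi
    obtain ⟨j, hj, k, hk, e⟩ := hb i hi
    obtain ⟨j', hj', k', hk', e'⟩ := ha j hj
    exact ⟨j', hj', k * k', mul_ne_zero hk hk', by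
      rw [Units.val_mul, ← Matrix.mulVec_mulVec, e, Matrix.mulVec_smul, e', smul_smul]⟩
  · intro a _ ha i hi
    choose f hf1 k hk he using fun i : Fin o.n => ha i.1 i.2
    let φ : Fin o.n → Fin o.n := fun i => ⟨f i, hf1 i⟩
    have hinv : ∀ x : Fin o.n, ((a⁻¹ : GL F9 F) : Matrix F9 F9 F).mulVec (dec ω (o.code (f x))) =
        (k x)⁻¹ • dec ω (o.code x) := by
      intro x
      have h := congrArg ((↑a⁻¹ : Matrix F9 F9 F).mulVec) (he x)
      rw [Matrix.mulVec_mulVec, ← Units.val_mul, inv_mul_cancel, Units.val_one, Matrix.one_mulVec,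
        Matrix.mulVec_smul] at h
      conv_rhs => rw [h, inv_smul_smul₀ (hk x)]
    have hinj : Function.Injective φ := by
      intro x y hxy
      have e1 := hinv x
      have e2 := hinv y
      rw [show f x = f y from congrArg Fin.val hxy, e2] at e1
      refine Fin.ext (code_line_inj hf ho x.2 y.2 (k := k x * (k y)⁻¹)
        (mul_ne_zero (hk x) (inv_ne_zero (hk y))) ?_)
      rw [← smul_smul, e1, smul_inv_smul₀ (hk x)]
    obtain ⟨x, hx⟩ := (Finite.injective_iff_surjective.1 hinj) ⟨i, hi⟩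
    have hxi : f x = i := congrArg Fin.val hx
    exact ⟨x, x.2, (k x)⁻¹, inv_ne_zero (hk x), hxi ▸ hinv x⟩

theorem d_line {j : ℕ} (hj : j < c.ds.length) :
    (∃ i < o.n, LineTo hf o (dEl hf c j) i) ∧ (j ≠ 0 → ¬ FixLine hf (dEl hf c j)) := by
  have h := ho.reps
  simp only [OCert.repsOK, Bool.and_eq_true, allN_iff, Nat.ble_eq] at h
  obtain ⟨⟨hi, hl⟩, hne⟩ := h.1 j hj
  have hi' : nth 0 o.dIdx j < o.n := hi
  obtain ⟨k, hk, hd⟩ := lineEq_sound hf (code_spec hf ho hi').1 hl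
  rw [dec_appM_den hf (d_spec hf hc hj).1, dec_one] at hd
  refine ⟨⟨_, hi', k, hk, hd⟩, fun h0 hfix => ?_⟩
  rw [show Nat.beq j 0 = false by rw [Bool.eq_false_iff, Ne, Nat.beq_eq]; exact h0, cond_false,
    Bool.not_eq_true'] at hne
  obtain ⟨k', hk', e'⟩ := hfix
  have := lineEq_complete hf (appM_lt (c.dr j).d 1) (u := 1) (by norm_num) hk' (by
    rw [dec_appM_den hf (d_spec hf hc hj).1, dec_one]; exact e')
  rw [this] at hne
  exact absurd hne (by simp)

theorem lineTo_exists {g : GL F9 F} (hg : InT hf c g) : ∃ i < o.n, LineTo hf o g i := by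
  obtain ⟨h, hh, j, hj, hm⟩ := hg
  obtain ⟨i, hi, hl⟩ := (d_line hf ho hc hj).1
  obtain ⟨k, hk, e⟩ := lineTo_of_fix hf hl (hGrp_fix hf ho hc hm)
  obtain ⟨i', hi', k', hk', e'⟩ := hGrp_step hf ho hc (Subgroup.inv_mem _ hh) i hi
  refine ⟨i', hi', k * k', mul_ne_zero hk hk', ?_⟩
  have eg : g = h⁻¹ * (dEl hf c j * ((dEl hf c j)⁻¹ * h * g)) := by group
  rw [eg, Units.val_mul, ← Matrix.mulVec_mulVec, e, Matrix.mulVec_smul, e', smul_smul]

theorem mem_hGrp_of_fix {g : GL F9 F} (hg : InT hf c g) (hfix : FixLine hf g) :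
    g ∈ hGrp hf c := by
  obtain ⟨h, hh, j, hj, hm⟩ := hg
  by_cases h0 : j = 0
  · subst h0
    rw [dEl_zero hf hc, inv_one, one_mul] at hm
    simpa using Subgroup.mul_mem _ (Subgroup.inv_mem _ hh) hm
  · refine absurd ?_ ((d_line hf ho hc hj).2 h0)
    have e : dEl hf c j = h * g * ((dEl hf c j)⁻¹ * h * g)⁻¹ := by group
    rw [e]
    exact fixLine_mul hf (fixLine_mul hf (hGrp_fix hf ho hc hh) hfix)
      (fixLine_inv hf (hGrp_fix hf ho hc hm))

theorem reached {i : ℕ} (hi : i < o.n) : ∃ g, InT hf c g ∧ LineTo hf o g i := by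
  induction hd : o.depth i using Nat.strong_induction_on generalizing i with
  | _ d ih =>
    have h := (allB_iff _ _).1 ho.par i hi
    cases hk : Nat.beq (o.kind i) 0 with
    | true =>
      rw [hk, cond_true, Bool.and_eq_true, Nat.ble_eq] at h
      have hj : o.parent i < c.ds.length := h.1
      obtain ⟨k, hk', e⟩ := lineEq_sound hf (code_spec hf ho hi).1 h.2
      rw [dec_appM_den hf (d_spec hf hc hj).1, dec_one] at e
      refine ⟨dEl hf c (o.parent i), ?_, k, hk', e⟩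
      exact ⟨1, one_mem _, _, hj, by rw [mul_one]; simp⟩
    | false =>
      rw [hk, cond_false] at h
      simp only [Bool.and_eq_true, Nat.ble_eq, Nat.beq_eq] at h
      obtain ⟨⟨⟨hkg, hp⟩, hdep⟩, hperm⟩ := h
      have hp' : o.parent i < o.n := hp
      have hk0 : o.kind i ≠ 0 := fun e => by rw [e] at hk; exact absurd hk (by simp)
      have ha : o.kind i - 1 < c.lvl.gens.length := by omega
      obtain ⟨g, hg, k, hk', e⟩ := ih (o.depth (o.parent i)) (hd ▸ hdep) hp' rfl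
      obtain ⟨-, k2, hk2, e2⟩ := gen_step hf ho hc ha hp'
      have hperm' : o.perm (o.kind i - 1) (o.parent i) = i := hperm
      rw [hperm'] at e2
      refine ⟨(snd hf).den (c.gen (o.kind i - 1)) * g,
        inT_left hf hc (gen_ok hf hc ha).2 hg, k * k2, mul_ne_zero hk' hk2, ?_⟩
      rw [Units.val_mul, ← Matrix.mulVec_mulVec, e, Matrix.mulVec_smul, e2, smul_smul]

/-- The group generated by H and s. -/
noncomputable def gGrp (c : GCert) : Subgroup (GL F9 F) :=
  Subgroup.closure ((hGrp hf c : Set (GL F9 F)) ∪ {sEl hf c})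

theorem card_gGrp : Nat.card (gGrp hf c) = o.n * Nat.card (hGrp hf c) := by
  have mem := fun g => mem_closure_iff hf hc g
  choose u hu1 hu2 using fun i : Fin o.n => reached hf ho hc i.2
  have hfun : Function.Bijective (fun p : Fin o.n × hGrp hf c =>
      (⟨u p.1 * p.2, (mem _).2 (inT_right hf hc p.2.2 (hu1 p.1))⟩ : gGrp hf c)) := by
    constructor
    · rintro ⟨i, h⟩ ⟨j, k⟩ e
      have e' : u i * h = u j * k := congrArg Subtype.val e
      have hi := lineTo_of_fix hf (hu2 i) (hGrp_fix hf ho hc h.2)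
      have hj := lineTo_of_fix hf (hu2 j) (hGrp_fix hf ho hc k.2)
      rw [e'] at hi
      have hij : i = j := Fin.ext (lineTo_unique hf ho i.2 j.2 hi hj)
      subst hij
      rw [mul_right_inj] at e'
      rw [Subtype.ext e']
    · rintro ⟨g, hg⟩
      have hT := (mem g).1 hg
      obtain ⟨i, hi, hl⟩ := lineTo_exists hf ho hc hT
      have hmem : (u ⟨i, hi⟩)⁻¹ * g ∈ hGrp hf c := by
        refine mem_hGrp_of_fix hf ho hc ((mem _).1 (Subgroup.mul_mem _
          (Subgroup.inv_mem _ ((mem _).2 (hu1 ⟨i, hi⟩))) hg)) ?_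
        obtain ⟨k, hk, e⟩ := hl
        obtain ⟨k', hk', e'⟩ := hu2 ⟨i, hi⟩
        refine ⟨k * k'⁻¹, mul_ne_zero hk (inv_ne_zero hk'), ?_⟩
        have h2 := congrArg ((↑(u ⟨i, hi⟩)⁻¹ : Matrix F9 F9 F).mulVec) e'
        rw [Matrix.mulVec_mulVec, ← Units.val_mul, inv_mul_cancel, Units.val_one,
          Matrix.one_mulVec, Matrix.mulVec_smul] at h2
        rw [Units.val_mul, ← Matrix.mulVec_mulVec, e, Matrix.mulVec_smul]
        conv_rhs => rw [h2, smul_smul, mul_assoc, inv_mul_cancel₀ hk', mul_one]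
      exact ⟨⟨⟨i, hi⟩, ⟨_, hmem⟩⟩, Subtype.ext (mul_inv_cancel_left _ _)⟩
  rw [← Nat.card_eq_of_bijective _ hfun, Nat.card_prod, Nat.card_fin]

end

end Cfsg.Agent.H44.J3
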