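import Cfsg.Agent.H44.J3.SimpleCheck
import Cfsg.Agent.H44.J3.DataPoint

/-!
Kernel checks for the subgroup of order 24480.
-/

set_option autoImplicit false
set_option Elab.async false

namespace Cfsg.Agent.H44.J3

open Cfsg.Agent.Compute

theorem kChain_ok : checkChain mOps kChain = true := by decide +kernel

/-- The three elements generating the subgroup. -/
noncomputable def kElt (i : ℕ) : ℕ :=
  cond (Nat.ble (Nat.add i 1) 2) (bWord (nth [] kWords i)) scalM

/-- A product of these elements. -/
noncomputable def kWord (w : List ℕ) : ℕ :=
  List.rec oneM (fun a _ ih => mulM (kElt a) ih) w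

/-- The subgroup is contained in 3·J₃ and contains ω. -/
noncomputable def kOK : Bool :=
  lall kWords (fun w => lall w (fun a => Nat.ble (Nat.add a 1) 10)) &&
    allN (nextGens kChain).length (fun a =>
      Nat.beq (nth (oneM, oneM) (nextGens kChain) a).1 (kWord (nth [] kGenWords a))) &&
    sift mOps kChain scalM

theorem k_ok : kOK = true := by decide +kernel

end Cfsg.Agent.H44.J3
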