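import Cfsg.Agent.H44.J3.Simple
import Cfsg.Agent.H44.J3.PointCheck

/-!
The transitive action of J₃ on the 6156 cosets of a subgroup of order 8160.
-/

set_option autoImplicit false

namespace Cfsg.Agent.H44.J3

open Cfsg.Agent.Compute
open Cfsg.Spor (F9)

attribute [local irreducible] validM invM mulM appM oneM wmul sift checkChain normOK xM scalM zM powM
  bWord

section
variable {F : Type*} [Field F] [Fintype F] {ω : F} (hf : Four F ω)

/-- The subgroup of order 24480. -/
noncomputable def kGrp : Subgroup (GL F9 F) := (snd hf).grp kChain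

include hf

omit hf in
theorem kOK_parts : (∀ w ∈ kWords, ∀ a ∈ w, a < 10) ∧
    (∀ n < (nextGens kChain).length,
      (nth (oneM, oneM) (nextGens kChain) n).1 = kWord (nth [] kGenWords n)) ∧
    sift mOps kChain scalM = true := by
  have h := k_ok
  unfold kOK at h
  rw [Bool.and_eq_true, Bool.and_eq_true] at h
  exact ⟨fun w hw a ha => Nat.ble_eq.mp ((lall_iff _ _).1 ((lall_iff _ _).1 h.1.1 w hw) a ha),
    fun n hn => Nat.eq_of_beq_eq_true ((allN_iff _ _).1 h.1.2 n hn), h.2⟩

omit hf in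
theorem kWords_length : kWords.length = 2 := rfl

omit hf in
theorem kElt_cases (i : ℕ) :
    (∃ w ∈ kWords, kElt i = bWord w) ∨ kElt i = scalM := by
  have e : kElt i = cond (Nat.ble (Nat.add i 1) 2) (bWord (nth [] kWords i)) scalM := rfl
  rw [e]
  rcases Bool.eq_false_or_eq_true (Nat.ble (Nat.add i 1) 2) with h | h
  · refine Or.inl ⟨nth [] kWords i, nth_mem _ _ i ?_, by rw [h, cond_true]⟩
    have h' : i + 1 ≤ 2 := Nat.ble_eq.mp h
    rw [kWords_length]
    omega
  · exact Or.inr (by rw [h, cond_false])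

theorem kElt_mem (i : ℕ) :
    (snd hf).ok (kElt i) ∧ (snd hf).den (kElt i) ∈ Cfsg.Spor.threeJ3 F ω := by
  rcases kElt_cases i with ⟨w, hw, e⟩ | e <;> rw [e]
  · exact bWord_mem hf w (kOK_parts.1 w hw)
  · exact ⟨scal_ok' hf, scEl_mem hf⟩

theorem kWord_mem : ∀ w : List ℕ,
    (snd hf).ok (kWord w) ∧ (snd hf).den (kWord w) ∈ Cfsg.Spor.threeJ3 F ω := by
  intro w
  induction w with
  | nil => exact ⟨(snd hf).ok_one, by
      rw [show (snd hf).den (kWord []) = 1 from (snd hf).den_one]; exact one_mem _⟩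
  | cons a t ih =>
    refine ⟨(snd hf).ok_mul (kElt_mem hf a).1 ih.1, ?_⟩
    rw [show kWord (a :: t) = mOps.mul (kElt a) (kWord t) from rfl,
      (snd hf).den_mul (kElt_mem hf a).1 ih.1]
    exact Subgroup.mul_mem _ (kElt_mem hf a).2 ih.2

omit hf in
theorem kOrder : order kChain = 24480 := by decide +kernel

theorem kGrp_card : Nat.card (kGrp hf) = 24480 := by
  rw [kGrp, (checkChain_sound (snd hf) kChain_ok).card, kOrder]

theorem kGrp_sc : scEl hf ∈ kGrp hf :=
  ((checkChain_sound (snd hf) kChain_ok).sift_iff _ (scal_ok' hf)).1 kOK_parts.2.2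

theorem kGrp_le : kGrp hf ≤ Cfsg.Spor.threeJ3 F ω := by
  refine (Subgroup.closure_le _).2 ?_
  rintro _ ⟨a, ⟨p, hp, rfl⟩, rfl⟩
  obtain ⟨n, hn, rfl⟩ := List.getElem_of_mem hp
  have e := kOK_parts.2.1 n hn
  rw [nth_eq_getElem _ _ _ hn] at e
  rw [e]
  exact (kWord_mem hf _).2

theorem kGrp_facts : Nat.card (kGrp hf) = 24480 ∧ kGrp hf ≤ Cfsg.Spor.threeJ3 F ω ∧
    scEl hf ∈ kGrp hf :=
  ⟨kGrp_card hf, kGrp_le hf, kGrp_sc hf⟩

/-- J₃ as a transitive group on 6156 points with point stabilisers of order 8160. -/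
theorem exists_action :
    ∃ H : Subgroup (Equiv.Perm (Fin 6156)), (IsSimpleGroup H ∧ Nat.card H = 50232960) ∧
      MulAction.IsPretransitive H (Fin 6156) ∧
      Nat.card (MulAction.stabilizer H (0 : Fin 6156)) = 8160 := by
  classical
  have := finite_J3 hf
  have := isSimple_J3 hf
  obtain ⟨hk, hkle, hksc⟩ := kGrp_facts hf
  let K' : Subgroup (Cfsg.Spor.threeJ3 F ω) := (kGrp hf).subgroupOf (Cfsg.Spor.threeJ3 F ω)
  let π := QuotientGroup.mk' (Subgroup.center (Cfsg.Spor.threeJ3 F ω))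
  let Kb : Subgroup (Cfsg.Spor.J3 F ω) := K'.map π
  have hker : π.ker ≤ K' := by
    intro z hz
    rw [QuotientGroup.ker_mk'] at hz
    exact (Subgroup.zpowers_le.2 hksc) ((mem_center_iff hf z).1 hz)
  have hidx' : K'.index = 6156 := by
    have h1 : Nat.card K' = 24480 :=
      (Nat.card_congr (Subgroup.subgroupOfEquivOfLe hkle).toEquiv).trans hk
    have h2 := Subgroup.card_mul_index K'
    rw [h1, card_threeJ3 hf] at h2
    omega
  have hidx : Kb.index = 6156 := by
    rw [← Subgroup.index_map_eq K' (QuotientGroup.mk'_surjective _) hker] at hidx'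
    exact hidx'
  have : Fintype (Cfsg.Spor.J3 F ω ⧸ Kb) := Fintype.ofFinite _
  have hcard : Fintype.card (Cfsg.Spor.J3 F ω ⧸ Kb) = 6156 := by
    rw [← Nat.card_eq_fintype_card, ← hidx]; rfl
  let e : (Cfsg.Spor.J3 F ω ⧸ Kb) ≃ Fin 6156 := Fintype.equivFinOfCardEq hcard
  let φ : Cfsg.Spor.J3 F ω →* Equiv.Perm (Fin 6156) :=
    e.permCongrHom.toMonoidHom.comp (MulAction.toPermHom (Cfsg.Spor.J3 F ω) (Cfsg.Spor.J3 F ω ⧸ Kb))
  have hval : ∀ g q, φ g (e q) = e (g • q) := fun g q => by
    show e.permCongr (MulAction.toPerm g) (e q) = _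
    rw [Equiv.permCongr_apply, Equiv.symm_apply_apply]
    rfl
  have hinj : Function.Injective φ := by
    rw [← MonoidHom.ker_eq_bot_iff]
    rcases IsSimpleGroup.eq_bot_or_eq_top_of_normal φ.ker inferInstance with h | h
    · exact h
    · exfalso
      have htriv : ∀ g, g ∈ Kb := fun g => by
        have h1 : φ g = 1 := MonoidHom.mem_ker.1 (h ▸ Subgroup.mem_top g)
        have h2 := hval g (QuotientGroup.mk 1)
        rw [h1, Equiv.Perm.one_apply] at h2
        have h3 := e.injective h2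
        rw [MulAction.Quotient.smul_mk, smul_eq_mul, mul_one, eq_comm, QuotientGroup.eq] at h3
        simpa using h3
      rw [show Kb = ⊤ from eq_top_iff.2 fun g _ => htriv g, Subgroup.index_top] at hidx
      norm_num at hidx
  let E := MonoidHom.ofInjective hinj
  have hE : ∀ g q, (E g : Equiv.Perm (Fin 6156)) (e q) = e (g • q) := hval
  have htrans : MulAction.IsPretransitive φ.range (Fin 6156) := by
    constructor
    intro x y
    obtain ⟨g, hg⟩ := MulAction.exists_smul_eq (Cfsg.Spor.J3 F ω) (e.symm x) (e.symm y)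
    refine ⟨E g, ?_⟩
    show (E g : Equiv.Perm (Fin 6156)) x = y
    rw [← e.apply_symm_apply x, hE, hg, e.apply_symm_apply]
  have hcardH : Nat.card φ.range = 50232960 :=
    (Nat.card_congr E.toEquiv).symm.trans (card_J3 hf)
  refine ⟨φ.range, ⟨MulEquiv.isSimpleGroup E.symm, hcardH⟩, htrans, ?_⟩
  have h1 := Subgroup.card_mul_index (MulAction.stabilizer φ.range (0 : Fin 6156))
  rw [MulAction.index_stabilizer_of_transitive φ.range (0 : Fin 6156), hcardH, Nat.card_fin] at h1
  omega

end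

end Cfsg.Agent.H44.J3
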