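import Cfsg.Agent.H44.J3.Code

/-!
Soundness of the coded operations inside GL₉(F), for every field F with four elements.
-/

set_option autoImplicit false

namespace Cfsg.Agent.H44.J3

open Cfsg.Agent.Compute
open Cfsg.Spor (F9)

attribute [local irreducible] validM mulM appM oneM wmul

/-- A field with four elements together with a primitive cube root of unity. -/
structure Four (F : Type*) [Field F] [Fintype F] (ω : F) : Prop where
  card : Fintype.card F = 4
  root : ω ^ 2 + ω + 1 = 0

section
variable {F : Type*} [Field F] [Fintype F] {ω : F}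

theorem Four.two (hf : Four F ω) : (2 : F) = 0 := by
  have h : ((Fintype.card F : ℕ) : F) = 0 := Nat.cast_card_eq_zero F
  rw [hf.card] at h
  have h' : (2 : F) * 2 = 0 := by norm_num; exact_mod_cast h
  exact mul_self_eq_zero.1 h'

variable (hf : Four F ω)
include hf

theorem exists_code (f : F9 → F) : ∃ v < 262144, dec ω v = f := by
  classical
  let d : Fin 262144 → (F9 → F) := fun v => dec ω v.1
  have hi : Function.Injective d := fun a b h =>
    Fin.ext (dec_inj ω hf.two hf.root a.2 b.2 h)
  have hb : Function.Bijective d :=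
    (Fintype.bijective_iff_injective_and_card d).2 ⟨hi, by simp [hf.card]⟩
  obtain ⟨v, hv⟩ := hb.2 f
  exact ⟨v.1, v.2, hv⟩

/-- The code of a vector. -/
noncomputable def enc (f : F9 → F) : ℕ := (exists_code hf f).choose

theorem enc_lt (f : F9 → F) : enc hf f < 262144 := (exists_code hf f).choose_spec.1

theorem dec_enc (f : F9 → F) : dec ω (enc hf f) = f := (exists_code hf f).choose_spec.2

theorem enc_dec {v : ℕ} (hv : v < 262144) : enc hf (dec ω v) = v :=
  dec_inj ω hf.two hf.root (enc_lt hf _) hv (dec_enc hf _)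

omit hf in
open Classical in
/-- The invertible matrix coded by `M`. -/
noncomputable def denM (ω : F) (M : ℕ) : GL F9 F :=
  if h : IsUnit (matOf ω M) then h.unit else 1

/-- Action of GL₉ on codes. -/
noncomputable def actM (g : GL F9 F) (p : ℕ) : ℕ :=
  if p < 262144 then enc hf ((g : Matrix F9 F9 F).mulVec (dec ω p)) else p

omit hf in
theorem denM_coe {M : ℕ} (h : IsUnit (matOf ω M)) :
    (denM ω M : Matrix F9 F9 F) = matOf ω M := by
  rw [denM, dif_pos h, IsUnit.unit_spec]

/-- The coded matrices act soundly. -/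
noncomputable def snd : Sound (G := GL F9 F) mOps where
  den := denM ω
  ok M := validM M = true ∧ IsUnit (matOf ω M)
  act := actM hf
  act_one p := by
    rw [actM]
    split_ifs with h
    · rw [Units.val_one, Matrix.one_mulVec, enc_dec hf h]
    · rfl
  act_mul g h p := by
    by_cases hp : p < 262144
    · have e1 : actM hf h p = enc hf ((h : Matrix F9 F9 F).mulVec (dec ω p)) := if_pos hp
      rw [e1]
      simp only [actM, if_pos hp, if_pos (enc_lt hf _), dec_enc, Units.val_mul,
        Matrix.mulVec_mulVec]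
    · have e1 : actM hf h p = p := if_neg hp
      rw [e1]
      simp only [actM, if_neg hp]
  ok_one := ⟨validM_oneM, by
    show IsUnit (matOf ω oneM)
    rw [matOf_oneM]; exact isUnit_one⟩
  den_one := Units.ext (by
    show (denM ω oneM : Matrix F9 F9 F) = _
    rw [denM_coe (by rw [matOf_oneM]; exact isUnit_one), matOf_oneM]; rfl)
  ok_mul {a b} ha hb := ⟨validM_mulM ω hf.two hf.root ha.1 hb.1, by
    show IsUnit (matOf ω (mulM a b))
    rw [matOf_mulM ω hf.two hf.root ha.1]; exact ha.2.mul hb.2⟩
  den_mul {a b} ha hb := Units.ext (by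
    show (denM ω (mulM a b) : Matrix F9 F9 F) = _
    rw [Units.val_mul, denM_coe ha.2, denM_coe hb.2, denM_coe (M := mulM a b) (by
        rw [matOf_mulM ω hf.two hf.root ha.1]; exact ha.2.mul hb.2),
      matOf_mulM ω hf.two hf.root ha.1])
  img_eq {a} ha p := by
    show cond (Nat.ble (p + 1) 262144) (appM a p) p = _
    rw [actM]
    by_cases hp : p < 262144
    · rw [if_pos hp, show Nat.ble (p + 1) 262144 = true from Nat.ble_eq.symm ▸ hp, cond_true,
        denM_coe ha.2, ← dec_appM ω hf.two hf.root ha.1, enc_dec hf (appM_lt _ _)]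
    · rw [if_neg hp]
      have : Nat.ble (p + 1) 262144 = false := by
        rw [Bool.eq_false_iff]; intro h; rw [Nat.ble_eq] at h; omega
      rw [this, cond_false]
  eqv_iff {a b} ha hb := by
    show Nat.beq a b = true ↔ _
    rw [Nat.beq_eq]
    refine ⟨fun h => by rw [h], fun h => matOf_inj ω hf.two hf.root ha.1 hb.1 ?_⟩
    rw [← denM_coe ha.2, ← denM_coe hb.2, h]
  okInv_sound {a b} h := by
    have h' : invM a b = true := h
    simp only [invM, Bool.and_eq_true, Nat.beq_eq] at h'
    obtain ⟨⟨⟨ha, hb⟩, hab⟩, hba⟩ := h'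
    have e1 : matOf ω a * matOf ω b = 1 := by
      rw [← matOf_mulM ω hf.two hf.root ha, hab, matOf_oneM]
    have e2 : matOf ω b * matOf ω a = 1 := by
      rw [← matOf_mulM ω hf.two hf.root hb, hba, matOf_oneM]
    have ua : IsUnit (matOf ω a) := ⟨⟨_, _, e1, e2⟩, rfl⟩
    have ub : IsUnit (matOf ω b) := ⟨⟨_, _, e2, e1⟩, rfl⟩
    refine ⟨⟨ha, ua⟩, ⟨hb, ub⟩, eq_inv_of_mul_eq_one_left (Units.ext ?_)⟩
    rw [Units.val_mul, denM_coe ua, denM_coe ub, e2, Units.val_one]

theorem snd_den_coe {a : ℕ} (ha : (snd hf).ok a) :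
    ((snd hf).den a : Matrix F9 F9 F) = matOf ω a :=
  denM_coe ha.2

/-- Acting by a coded matrix on a coded vector. -/
theorem dec_appM_den {a : ℕ} (ha : (snd hf).ok a) (v : ℕ) :
    dec ω (appM a v) = (((snd hf).den a : GL F9 F) : Matrix F9 F9 F).mulVec (dec ω v) := by
  rw [snd_den_coe hf ha, dec_appM ω hf.two hf.root ha.1]

end

end Cfsg.Agent.H44.J3
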